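/-
Type M(23): the partner group modulo its centre is of type M(22).
-/
import Cfsg.Agent.Lib.ThreeTrans.M22.Primitive
import Cfsg.Agent.Lib.ThreeTrans.M22.InvolClasses
import Cfsg.Agent.Lib.ThreeTrans.SrgTrace

set_option autoImplicit false
set_option linter.unusedSectionVars false

namespace CfsgThreeTrans.M23

open Cfsg CfsgLib

universe u

variable {G : Type u} [Group G] [Finite G] {D : Set G}

/-- The subgroup generated by the partners. -/
abbrev Hs (D : Set G) (t : G) : Subgroup G := Subgroup.closure (Ds D t)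

/-- The partner group modulo its centre. -/
abbrev Qt (D : Set G) (t : G) : Type u := ↥(Hs D t) ⧸ Subgroup.center ↥(Hs D t)

/-- The projection. -/
abbrev qt (D : Set G) (t : G) : ↥(Hs D t) →* Qt D t := QuotientGroup.mk' (Subgroup.center ↥(Hs D t))

/-- The image of the partners. -/
abbrev Et (D : Set G) (t : G) : Set (Qt D t) := qt D t '' {x | (x : G) ∈ Ds D t}

open Classical in
/-- The projection extended to the whole group. -/
noncomputable def bar (D : Set G) (t : G) (x : G) : Qt D t :=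
  if hx : x ∈ Hs D t then qt D t ⟨x, hx⟩ else 1

theorem bar_eq {t : G} (x : ↥(Hs D t)) : bar D t x = qt D t x := by
  rw [bar, dif_pos x.2]

/-- The data at one transposition. -/
structure Base (D : Set G) where
  t : G
  ht : t ∈ D
  cls : IsThreeTranspositionClass (Et D t)
  prim : IsPrimitiveUnderConj (Et D t)
  ty : IsOfTypeM22 (Qt D t) (Et D t)
  core2 : pCore 2 ↥(Hs D t) ≤ Subgroup.center ↥(Hs D t)
  two : ∃ a ∈ {x : ↥(Hs D t) | (x : G) ∈ Ds D t}, ∃ b ∈ {x : ↥(Hs D t) | (x : G) ∈ Ds D t}, a ≠ b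
  hcls : IsThreeTranspositionClass {x : ↥(Hs D t) | (x : G) ∈ Ds D t}
  s : Qt D t
  hs : s ∈ Et D t
  hs3 : pCore 3 ↥(Subgroup.closure (Ds (Et D t) s)) ≤ Subgroup.center ↥(Subgroup.closure (Ds (Et D t) s))
  hs2 : pCore 2 ↥(Subgroup.closure (Ds (Et D t) s)) ≤ Subgroup.center ↥(Subgroup.closure (Ds (Et D t) s))
  F : Type
  [fF : Field F]
  [ftF : Fintype F]
  [deF : DecidableEq F]
  hF : Fintype.card F = 2 ^ 2
  A : M22.Data (Et D t) F hF

attribute [instance] Base.fF Base.ftF Base.deF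

/-- Data exist in type M(23). -/
theorem exists_base (hD : IsThreeTranspositionClass D) (hp : IsPrimitiveUnderConj D) (h23 : IsOfTypeM23 G D) :
    Nonempty (Base D) := by
  obtain ⟨-, t, ht, c, -, -, h22, -⟩ := h23
  change IsOfTypeM22 (Qt D t) (Et D t) at h22
  have hna : ∃ e ∈ Ds D t, ∃ f ∈ Ds D t, ¬ Commute e f := by
    obtain ⟨-, x, -, y, -, hxy, -⟩ := id h22
    exact noncommute_of_quot ⟨x, y, hxy⟩
  have hw : ∃ a ∈ D, ∃ b ∈ D, a ≠ b ∧ Commute a b := by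
    obtain ⟨e, he, -⟩ := hna
    exact ⟨t, ht, e, he.1, he.2.1.symm, he.2.2⟩
  obtain ⟨c2, c3⟩ := cores_of_prim hD hp hw
  have hcls := partner_class hD (Ds_transitive_of_cores hD c2 c3 ht) (by obtain ⟨e, he, -⟩ := hna; exact ⟨e, he⟩)
  have hbar := map_class hcls (qt D t) (QuotientGroup.mk'_surjective _) (image_ne_one hcls hna)
  have hprim := M22.primitive hbar h22
  obtain ⟨s, hs, h3, h2, F, iF, iFt, iFd, hF, ⟨A⟩⟩ := M22.exists_full (cls_group hbar) hprim h22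
  have hcore : pCore 2 ↥(Hs D t) ≤ Subgroup.center ↥(Hs D t) := core_of_quot_bot (le_bot_iff.mp (by
    rw [← h22.1]; exact (cores_of_prim hbar hprim (M22.has_pair A)).1))
  refine ⟨⟨t, ht, hbar, hprim, h22, hcore, ?_, hcls, s, hs, h3, h2, F, hF, A⟩⟩
  obtain ⟨e, he, f, hf, hef⟩ := hna
  exact ⟨⟨e, Subgroup.subset_closure he⟩, he, ⟨f, Subgroup.subset_closure hf⟩, hf,
    fun h => hef (by rw [show e = f from congrArg Subtype.val h])⟩

section
variable (hD : IsThreeTranspositionClass D) (B : Base D)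
include hD B

theorem bar_mem {x : G} (hx : x ∈ Ds D B.t) : bar D B.t x ∈ Et D B.t :=
  ⟨⟨x, Subgroup.subset_closure hx⟩, hx, (bar_eq (⟨x, Subgroup.subset_closure hx⟩ : ↥(Hs D B.t))).symm⟩

theorem bar_mul {x y : G} (hx : x ∈ Hs D B.t) (hy : y ∈ Hs D B.t) :
    bar D B.t (x * y) = bar D B.t x * bar D B.t y := by
  rw [show x * y = ((⟨x, hx⟩ * ⟨y, hy⟩ : ↥(Hs D B.t)) : G) from rfl, bar_eq, map_mul, ← bar_eq, ← bar_eq]

theorem bar_commute {x y : G} (hx : x ∈ Ds D B.t) (hy : y ∈ Ds D B.t) :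
    Commute (bar D B.t x) (bar D B.t y) ↔ Commute x y := by
  set X : ↥(Hs D B.t) := ⟨x, Subgroup.subset_closure hx⟩
  set Y : ↥(Hs D B.t) := ⟨y, Subgroup.subset_closure hy⟩
  rw [show x = (X : G) from rfl, show y = (Y : G) from rfl, bar_eq, bar_eq]
  refine ⟨fun hc => ?_, fun hc => Commute.map (show Commute X Y from Subtype.ext hc.eq) _⟩
  by_contra hnc
  have hz : X * Y ∈ Subgroup.center ↥(Hs D B.t) := by
    rw [← QuotientGroup.eq_one_iff]
    show qt D B.t (X * Y) = 1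
    have e3 : qt D B.t (X * Y) ^ 3 = 1 := by
      rw [← map_pow, show (X * Y) ^ 3 = 1 from Subtype.ext (pow_three hD.1 hx.1 hy.1 hnc), map_one]
    have e2 : qt D B.t (X * Y) ^ 2 = 1 := by
      rw [map_mul, hc.mul_pow, ← map_pow, ← map_pow, show X ^ 2 = 1 from Subtype.ext (by
        rw [pow_two]; exact mul_self hD.1 hx.1), show Y ^ 2 = 1 from Subtype.ext (by
        rw [pow_two]; exact mul_self hD.1 hy.1), map_one, one_mul]
    rwa [pow_succ, e2, one_mul] at e3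
  have h1 : Commute x (x * y) := congrArg Subtype.val (Subgroup.mem_center_iff.mp hz X)
  have := (Commute.refl x).inv_right.mul_right h1
  rw [inv_mul_cancel_left] at this
  exact hnc this

theorem bar_inj : Set.InjOn (bar D B.t) (Ds D B.t) := by
  intro x hx y hy e
  have hc : Commute x y := (bar_commute hD B hx hy).mp (e ▸ Commute.refl _)
  set X : ↥(Hs D B.t) := ⟨x, Subgroup.subset_closure hx⟩
  set Y : ↥(Hs D B.t) := ⟨y, Subgroup.subset_closure hy⟩
  refine congrArg Subtype.val (eq_of_mul_central (x := X) (y := Y) B.hcls B.two B.core2 hx hy (Subtype.ext hc.eq) ?_)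
  rw [← QuotientGroup.eq_one_iff]
  show qt D B.t (X * Y) = 1
  rw [map_mul, ← bar_eq, ← bar_eq, show bar D B.t (X : G) = bar D B.t (Y : G) from e, bar_eq, ← map_mul,
    show Y * Y = 1 from Subtype.ext (mul_self hD.1 hy.1), map_one]

theorem bar_image : bar D B.t '' Ds D B.t = Et D B.t := by
  ext q
  constructor
  · rintro ⟨x, hx, rfl⟩; exact bar_mem hD B hx
  · rintro ⟨X, hX, rfl⟩; exact ⟨X, hX, bar_eq X⟩

theorem bar_Ds {a : G} (ha : a ∈ Ds D B.t) :
    bar D B.t '' (Ds D B.t ∩ Ds D a) = Ds (Et D B.t) (bar D B.t a) := by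
  ext q
  constructor
  · rintro ⟨x, ⟨hx, hxa⟩, rfl⟩
    exact ⟨bar_mem hD B hx, fun e => hxa.2.1 (bar_inj hD B hx ha e), (bar_commute hD B ha hx).mpr hxa.2.2⟩
  · rintro ⟨hq, hne, hc⟩
    obtain ⟨x, hx, rfl⟩ : q ∈ bar D B.t '' Ds D B.t := (bar_image hD B).symm ▸ hq
    exact ⟨x, ⟨hx, hx.1, fun e => hne (by rw [e]), (bar_commute hD B ha hx).mp hc⟩, rfl⟩

theorem ncard_partners : (Ds D B.t).ncard = 3510 := by
  rw [← (M22.params B.cls B.prim B.A).1, ← bar_image hD B, (bar_inj hD B).ncard_image]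

theorem ncard_perp {a : G} (ha : a ∈ Ds D B.t) : (Ds D B.t ∩ Ds D a).ncard = 693 := by
  rw [← M22.ncard_Ds B.cls B.A (bar_mem hD B ha), ← bar_Ds hD B ha,
    ((bar_inj hD B).mono Set.inter_subset_left).ncard_image]

theorem ncard_two {a b : G} (ha : a ∈ Ds D B.t) (hb : b ∈ Ds D B.t) :
    (¬ Commute a b → (Ds D B.t ∩ Ds D a ∩ Ds D b).ncard = 126) ∧
      (a ≠ b → Commute a b → (Ds D B.t ∩ Ds D a ∩ Ds D b).ncard = 180) := by
  have e : bar D B.t '' (Ds D B.t ∩ Ds D a ∩ Ds D b) =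
      Ds (Et D B.t) (bar D B.t a) ∩ Ds (Et D B.t) (bar D B.t b) := by
    rw [← bar_Ds hD B ha, ← bar_Ds hD B hb,
      ← (bar_inj hD B).image_inter Set.inter_subset_left Set.inter_subset_left]
    congr 1
    ext x
    simp only [Set.mem_inter_iff]
    tauto
  have hn := ((bar_inj hD B).mono (Set.inter_subset_left.trans Set.inter_subset_left :
    Ds D B.t ∩ Ds D a ∩ Ds D b ⊆ Ds D B.t)).ncard_image
  refine ⟨fun hnc => ?_, fun hne hc => ?_⟩
  · rw [← hn, e]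
    exact (M22.params B.cls B.prim B.A).2 _ (bar_mem hD B ha) _ (bar_mem hD B hb)
      fun h => hnc ((bar_commute hD B ha hb).mp h)
  · rw [← hn, e]
    exact M22.ncard_near B.cls B.A (bar_mem hD B ha) ⟨bar_mem hD B hb, fun h => hne (bar_inj hD B hb ha h).symm,
      (bar_commute hD B ha hb).mpr hc⟩

theorem ncard_Ds {d : G} (hd : d ∈ D) : (Ds D d).ncard = 3510 := by
  obtain ⟨g, rfl⟩ := cls_exists_conj hD B.ht hd
  rw [← cj_Ds hD, Set.ncard_image_of_injective _ (cj_injective g), ncard_partners hD B]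

theorem to_base {a : G} (ha : a ∈ D) :
    ∃ g : G, g * B.t * g⁻¹ = a ∧ ∀ {b : G}, b ∈ Ds D a → g⁻¹ * b * g⁻¹⁻¹ ∈ Ds D B.t := by
  obtain ⟨g, hg⟩ := cls_exists_conj hD B.ht ha
  refine ⟨g, hg, fun {b} hb => ?_⟩
  have h : g⁻¹ * b * g⁻¹⁻¹ ∈ (fun z => g⁻¹ * z * g⁻¹⁻¹) '' Ds D a := ⟨b, hb, rfl⟩
  rwa [cj_Ds hD, ← hg, show g⁻¹ * (g * B.t * g⁻¹) * g⁻¹⁻¹ = B.t by group] at h

theorem ncard_near {a b : G} (ha : a ∈ D) (hb : b ∈ Ds D a) : (Ds D a ∩ Ds D b).ncard = 693 := by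
  obtain ⟨g, rfl, hin⟩ := to_base hD B ha
  rw [← cj_inv g b, ← cj_Ds hD, ← cj_Ds hD g (g⁻¹ * b * g⁻¹⁻¹), ← Set.image_inter (cj_injective g),
    Set.ncard_image_of_injective _ (cj_injective g), ncard_perp hD B (hin hb)]

theorem ncard_three {a b c : G} (ha : a ∈ D) (hb : b ∈ Ds D a) (hc : c ∈ Ds D a) :
    (¬ Commute b c → (Ds D a ∩ Ds D b ∩ Ds D c).ncard = 126) ∧
      (b ≠ c → Commute b c → (Ds D a ∩ Ds D b ∩ Ds D c).ncard = 180) := by
  obtain ⟨g, rfl, hin⟩ := to_base hD B ha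
  have e : Ds D (g * B.t * g⁻¹) ∩ Ds D b ∩ Ds D c = (fun z => g * z * g⁻¹) ''
      (Ds D B.t ∩ Ds D (g⁻¹ * b * g⁻¹⁻¹) ∩ Ds D (g⁻¹ * c * g⁻¹⁻¹)) := by
    rw [Set.image_inter (cj_injective g), Set.image_inter (cj_injective g), cj_Ds hD, cj_Ds hD, cj_Ds hD,
      cj_inv, cj_inv]
  rw [e, Set.ncard_image_of_injective _ (cj_injective g)]
  exact ⟨fun hn => (ncard_two hD B (hin hb) (hin hc)).1 fun h => hn ((commute_cj_iff g⁻¹).mp h),
    fun hne h => (ncard_two hD B (hin hb) (hin hc)).2 (fun e' => hne (cj_injective g⁻¹ e'))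
      ((commute_cj_iff g⁻¹).mpr h)⟩

theorem has_pair : ∃ a ∈ D, ∃ b ∈ D, a ≠ b ∧ Commute a b := by
  obtain ⟨X, hX, -⟩ := B.two
  exact ⟨B.t, B.ht, X, hX.1, hX.2.1.symm, hX.2.2⟩

end

end CfsgThreeTrans.M23
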