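/-
The centraliser of a transposition in type M(23).
-/
import Cfsg.Agent.Lib.ThreeTrans.M23.Params
import Cfsg.Agent.Lib.ThreeTrans.Local

set_option autoImplicit false
set_option linter.unusedSectionVars false

namespace CfsgThreeTrans.M23

open Cfsg CfsgLib CfsgThreeTrans.M22

universe u

variable {G : Type u} [Group G] [Finite G] {D : Set G}

section
variable (hD : IsThreeTranspositionClass D) (hp : IsPrimitiveUnderConj D) (hZ : Subgroup.center G = ⊥) (B : Base D)
include hD hp hZ B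

/-- The kernel of the action of a centraliser on the partners. -/
theorem kernel_eq {t z : G} (ht : t ∈ D) (hzt : Commute z t) (hzD : ∀ y ∈ Ds D t, Commute z y) :
    z = 1 ∨ z = t := by
  obtain ⟨c, hc, htc⟩ := exists_noncommute hD hp.2.1 ht
  have hw := M23.has_pair hD B
  have hcen : ∀ w, Commute w t → Commute w c → (∀ y ∈ Ds D t, Commute w y) → w = 1 :=
    fun w h1 h2 h3 => Subgroup.mem_bot.mp (hZ ▸ central_of_commute hD hp hw ht hc htc h1 h2 h3)
  obtain ⟨he, -, -, -, -, -⟩ := third hD ht hc htc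
  set u := z * c * z⁻¹ with hu
  have huD : u ∈ D := cls_conj hD z hc
  have htu : ¬ Commute t u := fun h => htc ((commute_cj_iff z).mp (by
    rw [show z * t * z⁻¹ = t by rw [hzt.eq, mul_inv_cancel_right]]; exact h))
  by_cases huc : u = c
  · exact Or.inl (hcen z hzt (mul_inv_eq_iff_eq_mul.mp huc) hzD)
  by_cases hue : u = t * c * t
  · right
    have h1 := hcen (t * z) ((Commute.refl t).mul_left hzt) ?_ fun y hy => hy.2.2.mul_left (hzD y hy)
    · rw [← inv_self hD.1 ht]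
      exact (inv_eq_of_mul_eq_one_right h1).symm
    · show t * z * c = c * (t * z)
      have e1 : z * c = u * z := by rw [hu]; group
      rw [mul_assoc, e1, hue, show t * (t * c * t * z) = (t * t) * c * (t * z) by simp only [mul_assoc],
        mul_self hD.1 ht, one_mul]
  exfalso
  have hsub : Ds D t ∩ Ds D c ⊆ Ds D u := fun y hy => by
    have hy' : z * y * z⁻¹ = y := by rw [(hzD y hy.1).eq, mul_inv_cancel_right]
    refine ⟨hy.1.1, fun e => hy.2.2.1 (cj_injective z (show z * y * z⁻¹ = z * c * z⁻¹ by rw [hy', e, hu])), ?_⟩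
    have := (commute_cj_iff z).mpr hy.2.2.2
    rwa [hy'] at this
  have := M23.triple hD hp B ht hc htc huD (fun h => htu h.1.2.2) (fun e => htu (by rw [e])) huc hue
  rw [Set.inter_eq_left.mpr hsub, (M23.params hD hp B).2 t ht c hc htc] at this
  have := seen_le t c u
  omega

/-- The kernel of the projection. -/
theorem ker_cases {z : G} (hz : z ∈ Hs D B.t) (h1 : bar D B.t z = 1) : z = 1 ∨ z = B.t := by
  rw [show z = ((⟨z, hz⟩ : ↥(Hs D B.t)) : G) from rfl, bar_eq] at h1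
  have hc := (QuotientGroup.eq_one_iff _).mp h1
  exact kernel_eq hD hp hZ B B.ht (closure_Ds_commute hz) fun y hy =>
    (congrArg Subtype.val (Subgroup.mem_center_iff.mp hc ⟨y, Subgroup.subset_closure hy⟩)).symm

theorem bar_eq_cases {x y : G} (hx : x ∈ Hs D B.t) (hy : y ∈ Hs D B.t) (h1 : bar D B.t x = bar D B.t y) :
    x = y ∨ x = y * B.t := by
  have hm := mul_mem (inv_mem hy) hx
  have hb : bar D B.t (y⁻¹ * x) = 1 := by
    apply mul_left_cancel (a := bar D B.t y)
    rw [← bar_mul hD B hy hm, mul_inv_cancel_left, mul_one, h1]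
  rcases ker_cases hD hp hZ B hm hb with k | k
  · exact Or.inl (inv_mul_eq_one.mp k).symm
  · exact Or.inr (by rw [← k, mul_inv_cancel_left])

theorem core_three : pCore 3 ↥(Hs D B.t) ≤ Subgroup.center ↥(Hs D B.t) := by
  haveI : Fact (Nat.Prime 3) := ⟨Nat.prime_three⟩
  set q := qt D B.t
  haveI : ((pCore 3 ↥(Hs D B.t)).map q).Normal :=
    Subgroup.Normal.map inferInstance q (QuotientGroup.mk'_surjective _)
  intro x hx
  have h1 : q x ∈ Subgroup.center (Qt D B.t) :=
    (cores_of_prim B.cls B.prim (M22.has_pair B.A)).2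
      (le_pCore ((isPGroup_pCore 3).map q) (Subgroup.mem_map_of_mem q hx))
  rw [B.ty.1, Subgroup.mem_bot] at h1
  exact (QuotientGroup.eq_one_iff x).mp h1

set_option maxHeartbeats 1600000 in
/-- Six commuting partners of `t` with product `t`, all seeing a further partner. -/
theorem six_line (hG : IsThreeTranspositionGroup D) (h23 : IsOfTypeM23 G D) :
    ∃ a b c p q r u : G, u ∈ Ds D B.t ∧
      (∀ x ∈ [a, b, c, p, q, r], x ∈ Ds D B.t ∩ Ds D u) ∧
      (∀ x ∈ [a, b, c, p, q, r], ∀ y ∈ [a, b, c, p, q, r], Commute x y) ∧ a * b * c * p * q * r = B.t := by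
  set E := Et D B.t
  have hcl := B.cls
  have hpr := B.prim
  set A := B.A
  set x1 := q1 A
  set x2 := q2 A
  have m1 : x1 ∈ Ds E A.t := point_mem A _
  have m2 : x2 ∈ Ds E A.t := point_mem A _
  have c12 : Commute x1 x2 := dp_commute A 1 0 0 0 1 0 _ _
  have n12 : x1 ≠ x2 := fun e => by
    obtain ⟨k, -, hk⟩ := (point_eq_iff A _ _).mp e
    simpa [dv, dbl] using congrFun hk 0
  obtain ⟨P, Q, R, hP, hQ, hR, hnd, hcom, heq, -⟩ := at_t hcl hpr (local_of_M22 B.ty) B.ty.1 A m1 m2 n12 c12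
  simp only [List.nodup_cons, List.mem_cons, List.not_mem_nil, or_false, not_or, List.nodup_nil, and_true] at hnd
  obtain ⟨⟨-, n1P, n1Q, n1R⟩, ⟨n2P, n2Q, n2R⟩, ⟨nPQ, nPR⟩, nQR, -⟩ := hnd
  have hcom' : ∀ x y, x ∈ [x1, x2, P, Q, R] → y ∈ [x1, x2, P, Q, R] → Commute x y := fun x y hx hy =>
    hcom x hx y hy
  -- a further member
  have hc2 : ∀ a b : B.F, dp A a b 1 (Or.inr (Or.inr one_ne_zero)) ∈ Ds E A.t ∧
      dp A a b 1 (Or.inr (Or.inr one_ne_zero)) ∈ Ds E x1 ∧ dp A a b 1 (Or.inr (Or.inr one_ne_zero)) ∈ Ds E x2 := by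
    intro a b
    have m := point_mem A (dv B.hF a b 1 (Or.inr (Or.inr one_ne_zero)))
    refine ⟨m, ⟨m.1, fun e => ?_, dp_commute A 1 0 0 a b 1 _ _⟩, ⟨m.1, fun e => ?_, dp_commute A 0 1 0 a b 1 _ _⟩⟩ <;>
    · obtain ⟨k, -, hk⟩ := (point_eq_iff A _ _).mp e
      simpa [dv, dbl] using congrFun hk 4
  have hinj : ∀ a b a' b' : B.F, dp A a b 1 (Or.inr (Or.inr one_ne_zero)) = dp A a' b' 1 (Or.inr (Or.inr one_ne_zero)) →
      a = a' ∧ b = b' := by
    intro a b a' b' e
    obtain ⟨k, -, hk⟩ := (point_eq_iff A _ _).mp e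
    have h4 : k = 1 := by simpa [dv, dbl] using (congrFun hk 4).symm
    subst h4
    exact ⟨by simpa [dv, dbl] using congrFun hk 0, by simpa [dv, dbl] using congrFun hk 2⟩
  obtain ⟨v, ⟨mvt, mv1, mv2⟩, hvP, hvQ, hvR⟩ : ∃ v, (v ∈ Ds E A.t ∧ v ∈ Ds E x1 ∧ v ∈ Ds E x2) ∧
      v ≠ P ∧ v ≠ Q ∧ v ≠ R := by
    by_contra hcon
    push Not at hcon
    have k : ∀ a b : B.F, dp A a b 1 (Or.inr (Or.inr one_ne_zero)) = P ∨
        dp A a b 1 (Or.inr (Or.inr one_ne_zero)) = Q ∨ dp A a b 1 (Or.inr (Or.inr one_ne_zero)) = R := by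
      intro a b
      by_contra hne
      push Not at hne
      exact hne.2.2 (hcon _ (hc2 a b) hne.1 hne.2.1)
    rcases k 0 0 with e1 | e1 | e1 <;> rcases k 1 0 with e2 | e2 | e2 <;> rcases k 0 1 with e3 | e3 | e3 <;>
      rcases k 1 1 with e4 | e4 | e4 <;>
      first
        | exact one_ne_zero (α := B.F) (hinj _ _ _ _ (e2.trans e1.symm)).1
        | exact one_ne_zero (α := B.F) (hinj _ _ _ _ (e3.trans e1.symm)).2
        | exact one_ne_zero (α := B.F) (hinj _ _ _ _ (e4.trans e1.symm)).1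
        | exact one_ne_zero (α := B.F) (hinj _ _ _ _ (e2.trans e3.symm)).1
        | exact one_ne_zero (α := B.F) (hinj _ _ _ _ (e4.trans e2.symm)).2
        | exact one_ne_zero (α := B.F) (hinj _ _ _ _ (e4.trans e3.symm)).1
  have hvc : Commute v P ∧ Commute v Q ∧ Commute v R := by
    refine (commute_mul3_iff hcl.1 hP.1 hQ.1 hR.1 mvt.1 nPQ nPR nQR (hcom' P Q (by simp) (by simp))
      (hcom' P R (by simp) (by simp)) (hcom' Q R (by simp) (by simp))).mp ?_
    rw [← heq]
    exact (mvt.2.2.symm.mul_right mv1.2.2.symm).mul_right mv2.2.2.symm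
  -- lift
  obtain ⟨a, ha, ea⟩ : A.t ∈ bar D B.t '' Ds D B.t := (bar_image hD B).symm ▸ A.ht
  obtain ⟨b, hb, eb⟩ : x1 ∈ bar D B.t '' Ds D B.t := (bar_image hD B).symm ▸ m1.1
  obtain ⟨c, hc, ec⟩ : x2 ∈ bar D B.t '' Ds D B.t := (bar_image hD B).symm ▸ m2.1
  obtain ⟨p, hp', ep⟩ : P ∈ bar D B.t '' Ds D B.t := (bar_image hD B).symm ▸ hP.1
  obtain ⟨q, hq, eq'⟩ : Q ∈ bar D B.t '' Ds D B.t := (bar_image hD B).symm ▸ hQ.1
  obtain ⟨r, hr, er⟩ : R ∈ bar D B.t '' Ds D B.t := (bar_image hD B).symm ▸ hR.1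
  obtain ⟨u, hu, eu⟩ : v ∈ bar D B.t '' Ds D B.t := (bar_image hD B).symm ▸ mvt.1
  have cm : ∀ {x y : G}, x ∈ Ds D B.t → y ∈ Ds D B.t → Commute (bar D B.t x) (bar D B.t y) → Commute x y :=
    fun hx hy => (bar_commute hD B hx hy).mp
  have hall : ∀ x ∈ [a, b, c, p, q, r], x ∈ Ds D B.t ∧ bar D B.t x ∈ [A.t, x1, x2, P, Q, R] := by
    intro x hx
    simp only [List.mem_cons, List.not_mem_nil, or_false] at hx ⊢
    rcases hx with rfl | rfl | rfl | rfl | rfl | rfl
    exacts [⟨ha, Or.inl ea⟩, ⟨hb, Or.inr (Or.inl eb)⟩, ⟨hc, Or.inr (Or.inr (Or.inl ec))⟩,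
      ⟨hp', Or.inr (Or.inr (Or.inr (Or.inl ep)))⟩, ⟨hq, Or.inr (Or.inr (Or.inr (Or.inr (Or.inl eq'))))⟩,
      ⟨hr, Or.inr (Or.inr (Or.inr (Or.inr (Or.inr er))))⟩]
  have ct : ∀ y ∈ [x1, x2, P, Q, R], Commute A.t y := by
    intro y hy
    simp only [List.mem_cons, List.not_mem_nil, or_false] at hy
    rcases hy with rfl | rfl | rfl | rfl | rfl
    exacts [m1.2.2, m2.2.2, hP.2.2, hQ.2.2, hR.2.2]
  have hcomm : ∀ x ∈ [a, b, c, p, q, r], ∀ y ∈ [a, b, c, p, q, r], Commute x y := by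
    intro x hx y hy
    refine cm (hall x hx).1 (hall y hy).1 ?_
    rcases List.mem_cons.mp (hall x hx).2 with k | k <;> rcases List.mem_cons.mp (hall y hy).2 with k' | k'
    exacts [k ▸ k' ▸ Commute.refl _, k ▸ ct _ k', k' ▸ (ct _ k).symm, hcom _ k _ k']
  have hcv : ∀ x ∈ [a, b, c, p, q, r], x ∈ Ds D B.t ∩ Ds D u := by
    intro x hx
    have hk := (hall x hx).2
    simp only [List.mem_cons, List.not_mem_nil, or_false] at hk
    refine ⟨(hall x hx).1, (hall x hx).1.1, fun e => ?_, cm hu (hall x hx).1 ?_⟩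
    · subst e
      rw [eu] at hk
      rcases hk with k | k | k | k | k | k
      exacts [mvt.2.1 k, mv1.2.1 k, mv2.2.1 k, hvP k, hvQ k, hvR k]
    · rw [eu]
      rcases hk with k | k | k | k | k | k <;> rw [k]
      exacts [mvt.2.2.symm, mv1.2.2.symm, mv2.2.2.symm, hvc.1, hvc.2.1, hvc.2.2]
  refine ⟨a, b, c, p, q, r, u, hu, hcv, hcomm, ?_⟩
  have mH : ∀ {x : G}, x ∈ Ds D B.t → x ∈ Hs D B.t := fun hx => Subgroup.subset_closure hx
  have cc := fun x y hx hy => hcomm x hx y hy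
  have c3 : a * b * c = p * q * r * B.t := by
    have hb1 : bar D B.t (a * b * c) = bar D B.t (p * q * r) := by
      rw [bar_mul hD B (mul_mem (mH ha) (mH hb)) (mH hc), bar_mul hD B (mH ha) (mH hb),
        bar_mul hD B (mul_mem (mH hp') (mH hq)) (mH hr), bar_mul hD B (mH hp') (mH hq), ea, eb, ec, ep, eq', er, heq]
    refine (bar_eq_cases hD hp hZ B (mul_mem (mul_mem (mH ha) (mH hb)) (mH hc))
      (mul_mem (mul_mem (mH hp') (mH hq)) (mH hr)) hb1).resolve_left fun e => ?_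
    have hu' := factorization_unique hG hp B.ht (core_three hD hp hZ B) B.core2 (Or.inl h23) (m := 3) le_rfl
      (j := a * b * c) (l := [a, b, c]) (l' := [p, q, r]) ⟨by
        simp only [List.nodup_cons, List.mem_cons, List.not_mem_nil, or_false, not_or, List.nodup_nil, and_true,
          not_false_iff]
        refine ⟨⟨fun k => ?_, fun k => ?_⟩, fun k => ?_⟩
        · exact m1.2.1 (by rw [← eb, ← k, ea])
        · exact m2.2.1 (by rw [← ec, ← k, ea])
        · exact n12 (by rw [← eb, ← ec, k]),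
        rfl, fun x hx => (hcv x (List.mem_append_left [p, q, r] hx)).1.1,
        fun x hx y hy => cc x y (List.mem_append_left [p, q, r] hx)
          (List.mem_append_left [p, q, r] hy),
        by simp [mul_assoc]⟩ ⟨by
        simp only [List.nodup_cons, List.mem_cons, List.not_mem_nil, or_false, not_or, List.nodup_nil, and_true,
          not_false_iff]
        exact ⟨⟨fun k => nPQ (by rw [← ep, ← eq', k]), fun k => nPR (by rw [← ep, ← er, k])⟩,
          fun k => nQR (by rw [← eq', ← er, k])⟩,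
        rfl, fun x hx => (hcv x (List.mem_append_right [a, b, c] hx)).1.1,
        fun x hx y hy => cc x y (List.mem_append_right [a, b, c] hx)
          (List.mem_append_right [a, b, c] hy),
        by simp [e, mul_assoc]⟩
    have := (hu' a).mp (by simp)
    simp only [List.mem_cons, List.not_mem_nil, or_false] at this
    rcases this with k | k | k
    · exact hP.2.1 (by rw [← ep, ← k, ea])
    · exact hQ.2.1 (by rw [← eq', ← k, ea])
    · exact hR.2.1 (by rw [← er, ← k, ea])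
  have hi := invol_three hD hp'.1 hq.1 hr.1 (cc p q (by simp) (by simp)) (cc p r (by simp) (by simp))
    (cc q r (by simp) (by simp))
  have htc : Commute (p * q * r) B.t := (hp'.2.2.symm.mul_left hq.2.2.symm).mul_left hr.2.2.symm
  calc a * b * c * p * q * r = (a * b * c) * (p * q * r) := by simp only [mul_assoc]
    _ = p * q * r * (B.t * (p * q * r)) := by rw [c3]; simp only [mul_assoc]
    _ = p * q * r * (p * q * r) * B.t := by rw [← htc.eq]; simp only [mul_assoc]
    _ = B.t := by rw [hi, one_mul]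

theorem self_mem (hG : IsThreeTranspositionGroup D) (h23 : IsOfTypeM23 G D) {t : G} (ht : t ∈ D) :
    t ∈ Hs D t := by
  obtain ⟨a, b, c, p, q, r, u, -, hm, -, hprod⟩ := six_line hD hp hZ B hG h23
  have mm : ∀ x ∈ [a, b, c, p, q, r], x ∈ Hs D B.t := fun x hx => Subgroup.subset_closure (hm x hx).1
  have hb' : a * b * c * p * q * r ∈ Hs D B.t := mul_mem (mul_mem (mul_mem (mul_mem (mul_mem (mm a (by simp)) (mm b (by simp)))
    (mm c (by simp))) (mm p (by simp))) (mm q (by simp))) (mm r (by simp))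
  have hb : B.t ∈ Hs D B.t := by
    rw [hprod] at hb'
    exact hb'
  obtain ⟨g, rfl⟩ := cls_exists_conj hD B.ht ht
  have := Subgroup.mem_map_of_mem (MulAut.conj g).toMonoidHom hb
  rw [MonoidHom.map_closure] at this
  show _ ∈ Subgroup.closure _
  rw [← cj_Ds hD g B.t]
  exact this

/-- The centraliser of a partner in the base partner group. -/
theorem base_at {u g : G} (hu : u ∈ Ds D B.t) (hg : g ∈ Hs D B.t) (hgu : Commute g u) :
    g ∈ Subgroup.closure ((Ds D B.t ∩ Ds D u) ∪ {B.t, u}) := by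
  set T := Subgroup.closure ((Ds D B.t ∩ Ds D u) ∪ {B.t, u})
  have hTH : Subgroup.closure (Ds D B.t ∩ Ds D u) ≤ Hs D B.t := Subgroup.closure_mono Set.inter_subset_left
  set U : ↥(Hs D B.t) := ⟨u, Subgroup.subset_closure hu⟩
  set g' : ↥(Hs D B.t) := ⟨g, hg⟩
  have h1 : bar D B.t g ∈ Subgroup.closure (Ds (Et D B.t) (bar D B.t u)) := by
    rw [← M22.centralizer_eq B.cls B.prim (local_of_M22 B.ty) B.ty.1 B.A (bar_mem hD B hu)]
    refine Subgroup.mem_centralizer_singleton_iff.mpr ?_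
    rw [show g = (g' : G) from rfl, show u = (U : G) from rfl, bar_eq, bar_eq]
    rw [← map_mul, ← map_mul, show g' * U = U * g' from Subtype.ext hgu.eq]
  have hle : Subgroup.closure (Ds (Et D B.t) (bar D B.t u)) ≤
      ((Subgroup.closure (Ds D B.t ∩ Ds D u)).subgroupOf (Hs D B.t)).map (qt D B.t) := by
    rw [← bar_Ds hD B hu, Subgroup.closure_le]
    rintro _ ⟨x, hx, rfl⟩
    exact ⟨⟨x, Subgroup.subset_closure hx.1⟩, Subgroup.subset_closure (k := Ds D B.t ∩ Ds D u) hx,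
      (bar_eq (⟨x, Subgroup.subset_closure hx.1⟩ : ↥(Hs D B.t))).symm⟩
  obtain ⟨k, hk, hkg⟩ := hle h1
  have hkT : (k : G) ∈ T := Subgroup.closure_mono Set.subset_union_left hk
  rcases bar_eq_cases hD hp hZ B hg k.2 (by rw [bar_eq k, hkg]) with e | e <;> rw [e]
  · exact hkT
  · exact mul_mem hkT (Subgroup.subset_closure (Or.inr (Or.inl rfl)))

theorem localHyp (hG : IsThreeTranspositionGroup D) (h23 : IsOfTypeM23 G D) : LocalHyp D := by
  obtain ⟨-, hmu⟩ := M23.params hD hp B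
  refine ⟨fun t ht => self_mem hD hp hZ B hG h23 ht, ?_, ?_, ?_⟩
  · intro t ht u hu g hg hgu
    obtain ⟨m, rfl, hin⟩ := M23.to_base hD B ht
    have hg' : m⁻¹ * g * m⁻¹⁻¹ ∈ Hs D B.t := by
      have h := Subgroup.mem_map_of_mem (MulAut.conj m⁻¹).toMonoidHom hg
      rw [MonoidHom.map_closure] at h
      have e : (MulAut.conj m⁻¹).toMonoidHom '' Ds D (m * B.t * m⁻¹) = Ds D B.t := by
        show (fun z => m⁻¹ * z * m⁻¹⁻¹) '' Ds D (m * B.t * m⁻¹) = _
        rw [cj_Ds hD]
        congr 1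
        group
      rwa [e] at h
    have h := Subgroup.mem_map_of_mem (MulAut.conj m).toMonoidHom
      (base_at hD hp hZ B (hin hu) hg' ((commute_cj_iff m⁻¹).mpr hgu))
    rw [MonoidHom.map_closure, show (MulAut.conj m).toMonoidHom (m⁻¹ * g * m⁻¹⁻¹) = g from cj_inv m g] at h
    refine (Subgroup.closure_mono ?_) h
    rintro _ ⟨z, hz | rfl | rfl, rfl⟩
    · left
      have h1 : m * z * m⁻¹ ∈ (fun z => m * z * m⁻¹) '' (Ds D B.t ∩ Ds D (m⁻¹ * u * m⁻¹⁻¹)) := ⟨z, hz, rfl⟩
      rw [Set.image_inter (cj_injective m), cj_Ds hD, cj_Ds hD, cj_inv] at h1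
      exact h1
    · exact Or.inr (Or.inl rfl)
    · exact Or.inr (Or.inr (cj_inv m u))
  · intro t ht y hy b hb b' hb' hne
    set U := Ds D b ∩ Ds D b'
    set T₁ := Ds D t ∩ Ds D b ∩ Ds D b'
    set T₂ := Ds D y ∩ Ds D b ∩ Ds D b'
    have hcard : T₁.ncard + T₂.ncard + 2 < U.ncard := by
      by_cases hc : Commute b b'
      · rw [show T₁.ncard = 180 from (M23.ncard_three hD B ht hb.1 hb'.1).2 hne hc,
          show T₂.ncard = 180 from (M23.ncard_three hD B hy.1 hb.2 hb'.2).2 hne hc,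
          show U.ncard = 693 from M23.ncard_near hD B hb.1.1 ⟨hb'.1.1, hne.symm, hc⟩]
        norm_num
      · rw [show T₁.ncard = 126 from (M23.ncard_three hD B ht hb.1 hb'.1).1 hc,
          show T₂.ncard = 126 from (M23.ncard_three hD B hy.1 hb.2 hb'.2).1 hc,
          show U.ncard = 351 from hmu b hb.1.1 b' hb'.1.1 hc]
        norm_num
    obtain ⟨f, hfU, hfT⟩ : ∃ f ∈ U, f ∉ T₁ ∪ T₂ ∪ {t, y} := by
      refine Set.exists_mem_notMem_of_ncard_lt_ncard (lt_of_le_of_lt ?_ hcard) (Set.toFinite _)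
      refine (Set.ncard_union_le _ _).trans (Nat.add_le_add (Set.ncard_union_le _ _) ?_)
      exact (Set.ncard_insert_le _ _).trans (by simp)
    refine ⟨f, hfU.1.1, hfU.1.2.2, hfU.2.2.2, fun h => hfT ?_, fun h => hfT ?_⟩
    · by_cases e : f = t
      · exact Or.inr (Or.inl e)
      · exact Or.inl (Or.inl ⟨⟨⟨hfU.1.1, e, h⟩, hfU.1⟩, hfU.2⟩)
    · by_cases e : f = y
      · exact Or.inr (Or.inr e)
      · exact Or.inl (Or.inr ⟨⟨⟨hfU.1.1, e, h⟩, hfU.1⟩, hfU.2⟩)
  · intro t ht c hc htc y hy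
    set S := Ds D t ∩ Ds D c
    obtain ⟨a₀, ha₀⟩ : S.Nonempty := by
      rw [← Set.ncard_pos, show S.ncard = 351 from hmu t ht c hc htc]
      norm_num
    obtain ⟨-, hte, -, -, -, hall⟩ := third hD ht hc htc
    by_cases hyS : y ∈ S
    · obtain ⟨a, ha⟩ : (Ds D y ∩ Ds D t ∩ Ds D c).Nonempty := by
        rw [← Set.ncard_pos, (M23.ncard_three hD B hy ⟨ht, fun e => hyS.1.2.1 e.symm, hyS.1.2.2.symm⟩
          ⟨hc, fun e => hyS.2.2.1 e.symm, hyS.2.2.2.symm⟩).1 htc]
        norm_num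
      exact ⟨a, ⟨ha.1.2, ha.2⟩, ha.1.1.2.1, ha.1.1.2.2.symm⟩
    by_cases h3 : y = t ∨ y = c ∨ y = t * c * t
    · refine ⟨a₀, ha₀, fun e => hyS (e ▸ ha₀), ?_⟩
      rcases h3 with rfl | rfl | rfl
      · exact ha₀.1.2.2.symm
      · exact ha₀.2.2.2.symm
      · exact hall a₀ ha₀.1.2.2.symm ha₀.2.2.2.symm
    · push Not at h3
      obtain ⟨a, ha⟩ : (S ∩ Ds D y).Nonempty := by
        rw [← Set.ncard_pos, M23.triple hD hp B ht hc htc hy hyS h3.1 h3.2.1 h3.2.2]
        omega
      exact ⟨a, ha.1, ha.2.2.1, ha.2.2.2.symm⟩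

/-- The centraliser of a transposition is generated by its partners. -/
theorem centralizer_eq (hG : IsThreeTranspositionGroup D) (h23 : IsOfTypeM23 G D) {t : G} (ht : t ∈ D) :
    Subgroup.centralizer ({t} : Set G) = Hs D t := by
  refine le_antisymm (fun g hg => centralizer_eq_closure hD hp (M23.has_pair hD B) (localHyp hD hp hZ B hG h23) ht
    (Subgroup.mem_centralizer_singleton_iff.mp hg)) ?_
  exact (Subgroup.closure_le _).mpr fun y hy => Subgroup.mem_centralizer_singleton_iff.mpr hy.2.2.eq.symm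

/-- The centre of the partner group. -/
theorem center_closure (hG : IsThreeTranspositionGroup D) (h23 : IsOfTypeM23 G D) {t : G} (ht : t ∈ D) :
    Subgroup.center ↥(Hs D t) = (Subgroup.zpowers t).subgroupOf (Hs D t) := by
  refine le_antisymm (fun z hz => ?_) fun z hz => ?_
  · rcases kernel_eq hD hp hZ B ht (closure_Ds_commute z.2) fun y hy =>
      (congrArg Subtype.val (Subgroup.mem_center_iff.mp hz ⟨y, Subgroup.subset_closure hy⟩)).symm with e | e <;>
      rw [Subgroup.mem_subgroupOf, e]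
    · exact one_mem _
    · exact Subgroup.mem_zpowers t
  · obtain ⟨n, hn⟩ := Subgroup.mem_zpowers_iff.mp hz
    refine Subgroup.mem_center_iff.mpr fun w => Subtype.ext ?_
    show (w : G) * z = z * w
    rw [show (z : G) = t ^ n from hn.symm]
    exact ((closure_Ds_commute w.2).zpow_right n).eq

end

end CfsgThreeTrans.M23
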