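/-
Order, simplicity and width in type M(23).
-/
import Cfsg.Agent.Lib.ThreeTrans.M23.Centraliser

set_option autoImplicit false
set_option linter.unusedSectionVars false

namespace CfsgThreeTrans.M23

open Cfsg CfsgLib CfsgThreeTrans.M22

universe u

variable {G : Type u} [Group G] [Finite G] {D : Set G}

section
variable (hG : IsThreeTranspositionGroup D) (hp : IsPrimitiveUnderConj D) (h23 : IsOfTypeM23 G D) (B : Base D)
include hG hp h23 B

theorem perfect_top : commutator G = ⊤ := by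
  have hD := cls_of_group_prim hG hp
  obtain ⟨a, b, c, p, q, r, u, -, hm, -, hprod⟩ := six_line hD hp h23.1 B hG h23
  have ht : B.t ∈ commutator G := M22.pair_mem_commutator hD (b := ![a, b, c, p, q, r]) (by
    intro i; fin_cases i <;> [exact (hm a (by simp)).1.1; exact (hm b (by simp)).1.1; exact (hm c (by simp)).1.1;
      exact (hm p (by simp)).1.1; exact (hm q (by simp)).1.1; exact (hm r (by simp)).1.1]) hprod
  rw [eq_top_iff, ← hD.2.2, Subgroup.closure_le]
  intro x hx
  obtain ⟨g, rfl⟩ := cls_exists_conj hD B.ht hx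
  exact (inferInstance : (commutator G).Normal).conj_mem _ ht g

theorem simple_group : IsSimpleGroup G := by
  have hD := cls_of_group_prim hG hp
  have hs := (equivalences hD h23.1 (M23.has_pair hD B)).1.mpr hp
  haveI : IsSimpleGroup (⊤ : Subgroup G) := perfect_top hG hp h23 B ▸ hs
  haveI : Nontrivial G := ⟨⟨B.t, 1, fun e => by
    have := hD.1.1 B.t B.ht
    rw [e, orderOf_one] at this
    exact absurd this (by norm_num)⟩⟩
  exact IsSimpleGroup.isSimpleGroup_of_surjective (f := (Subgroup.topEquiv (G := G)).toMonoidHom)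
    (Subgroup.topEquiv (G := G)).surjective

theorem card_quot : Nat.card (Qt D B.t) = 64561751654400 := by
  rw [M22.card_group B.cls B.prim (local_of_M22 B.ty) B.ty.1 B.A, M22.card_psu_eq B.hF]

theorem card_centralizer {t : G} (ht : t ∈ D) :
    Nat.card ↥(Subgroup.centralizer ({t} : Set G)) = 129123503308800 := by
  have hD := cls_of_group_prim hG hp
  have hbase : Nat.card ↥(Subgroup.centralizer ({B.t} : Set G)) = 129123503308800 := by
    rw [M23.centralizer_eq hD hp h23.1 B hG h23 B.ht,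
      Subgroup.card_eq_card_quotient_mul_card_subgroup (Subgroup.center ↥(Hs D B.t)),
      card_quot hG hp h23 B, M23.center_closure hD hp h23.1 B hG h23 B.ht,
      Nat.card_congr (Subgroup.subgroupOfEquivOfLe
        (Subgroup.zpowers_le.mpr (M23.self_mem hD hp h23.1 B hG h23 B.ht))).toEquiv, Nat.card_zpowers, hD.1.1 B.t B.ht]
  obtain ⟨g, rfl⟩ := cls_exists_conj hD B.ht ht
  rw [← hbase]
  refine (Nat.card_congr ((Subgroup.centralizer ({B.t} : Set G)).equivMapOfInjective
    (MulAut.conj g).toMonoidHom (MulAut.conj g).injective).toEquiv).trans ?_ |>.symm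
  congr 2
  ext x
  simp only [Subgroup.mem_map, Subgroup.mem_centralizer_singleton_iff]
  constructor
  · rintro ⟨y, hy, rfl⟩
    exact ((commute_cj_iff g).mpr (hy : Commute y B.t)).eq
  · intro hx
    refine ⟨g⁻¹ * x * g⁻¹⁻¹, ?_, cj_inv g x⟩
    have := (commute_cj_iff g⁻¹).mpr (hx : Commute x (g * B.t * g⁻¹))
    rwa [show g⁻¹ * (g * B.t * g⁻¹) * g⁻¹⁻¹ = B.t by group] at this

theorem card_group : Nat.card G = 31671 * 129123503308800 := by
  have hD := cls_of_group_prim hG hp
  rw [← card_centralizer hG hp h23 B B.ht, ← (M23.params hD hp B).1, ← M22.index_centralizer hD B.ht,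
    Subgroup.index_mul_card]

theorem quasisimple_base : IsQuasisimple ↥(Hs D B.t) := by
  have hD := cls_of_group_prim hG hp
  obtain ⟨a, b, c, p, q, r, u, -, hm, -, hprod⟩ := six_line hD hp h23.1 B hG h23
  set H := Hs D B.t
  set T : H := ⟨B.t, M23.self_mem hD hp h23.1 B hG h23 B.ht⟩
  let k : ∀ x, x ∈ [a, b, c, p, q, r] → H := fun x hx => ⟨x, Subgroup.subset_closure (hm x hx).1⟩
  have hT : T ∈ commutator H := M22.pair_mem_commutator B.hcls
    (b := ![k a (by simp), k b (by simp), k c (by simp), k p (by simp), k q (by simp), k r (by simp)])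
    (by
      intro i; fin_cases i <;> [exact (hm a (by simp)).1; exact (hm b (by simp)).1; exact (hm c (by simp)).1;
        exact (hm p (by simp)).1; exact (hm q (by simp)).1; exact (hm r (by simp)).1]) (Subtype.ext hprod)
  haveI hsimp := M22.simple_group (cls_group B.cls) B.prim B.hs B.hs3 B.hs2 B.ty B.A
  have hQ : commutator (Qt D B.t) = ⊤ := M22.perfect_top (cls_group B.cls) B.prim B.hs B.hs3 B.hs2 B.ty B.A
  refine ⟨⟨?_⟩, hsimp⟩
  rw [eq_top_iff]
  intro x _
  have hx : qt D B.t x ∈ (commutator H).map (qt D B.t) := by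
    rw [commutator_def, Subgroup.map_commutator, Subgroup.map_top_of_surjective _ (QuotientGroup.mk'_surjective _),
      ← commutator_def, hQ]
    exact Subgroup.mem_top _
  obtain ⟨y, hy, hyx⟩ := hx
  rcases bar_eq_cases hD hp h23.1 B x.2 y.2 (by rw [bar_eq, bar_eq, hyx]) with e | e
  · rwa [show x = y from Subtype.ext e]
  · rw [show x = y * T from Subtype.ext e]
    exact mul_mem hy hT

theorem quasisimple_at {d : G} (hd : d ∈ D) : IsQuasisimple ↥(Hs D d) := by
  have hD := cls_of_group_prim hG hp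
  obtain ⟨g, rfl⟩ := cls_exists_conj hD B.ht hd
  have hmap : (Hs D B.t).map (MulAut.conj g).toMonoidHom = Hs D (g * B.t * g⁻¹) := by
    show (Subgroup.closure (Ds D B.t)).map _ = Subgroup.closure _
    rw [MonoidHom.map_closure, ← cj_Ds hD]
    rfl
  exact CfsgLib.isQuasisimple_of_equiv
    (((MulAut.conj g).subgroupMap (Hs D B.t)).trans (MulEquiv.subgroupCongr hmap))
    (quasisimple_base hG hp h23 B)

theorem width : commutingWidth D = 23 := by
  have hD := cls_of_group_prim hG hp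
  have h22 := M22.width B.cls B.A
  set W := {n : ℕ | ∃ E : Set (Qt D B.t), E ⊆ Et D B.t ∧ E.Finite ∧ (∀ a ∈ E, ∀ b ∈ E, Commute a b) ∧ E.ncard = n}
  have hbdd : BddAbove W := ⟨Nat.card (Qt D B.t), by
    rintro n ⟨E, -, -, -, rfl⟩
    rw [← Set.ncard_univ]
    exact Set.ncard_le_ncard (Set.subset_univ E)⟩
  have hupper : ∀ n, (∃ E : Set G, E ⊆ D ∧ E.Finite ∧ (∀ a ∈ E, ∀ b ∈ E, Commute a b) ∧ E.ncard = n) → n ≤ 23 := by
    rintro n ⟨E, hED, -, hcom, rfl⟩
    rcases E.eq_empty_or_nonempty with rfl | ⟨s, hs⟩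
    · simp
    obtain ⟨g, hg, hin⟩ := M23.to_base hD B (hED hs)
    set S : Set G := (fun z => g⁻¹ * z * g⁻¹⁻¹) '' (E \ {s})
    have hS : S ⊆ Ds D B.t := by
      rintro _ ⟨z, ⟨hz, hzs⟩, rfl⟩
      exact hin ⟨hED hz, hzs, hcom s hs z hz⟩
    have hSn : S.ncard + 1 = E.ncard := by
      rw [Set.ncard_image_of_injective _ (cj_injective g⁻¹), Set.ncard_sdiff_singleton_add_one hs]
    have hle : S.ncard ≤ 22 := by
      rw [← h22]
      refine le_csSup hbdd ⟨bar D B.t '' S, ?_, Set.toFinite _, ?_, ?_⟩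
      · rintro _ ⟨x, hx, rfl⟩; exact bar_mem hD B (hS hx)
      · rintro _ ⟨x, ⟨x', hx', rfl⟩, rfl⟩ _ ⟨y, ⟨y', hy', rfl⟩, rfl⟩
        exact (bar_commute hD B (hS ⟨x', hx', rfl⟩) (hS ⟨y', hy', rfl⟩)).mpr
          ((commute_cj_iff g⁻¹).mpr (hcom x' hx'.1 y' hy'.1))
      · exact ((bar_inj hD B).mono hS).ncard_image
    omega
  obtain ⟨E, hE, -, hEc, hEn⟩ : (22 : ℕ) ∈ W :=
    h22 ▸ Nat.sSup_mem ⟨0, ∅, Set.empty_subset _, Set.toFinite _, by simp, by simp⟩ hbdd
  refine le_antisymm (csSup_le' hupper) ?_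
  set S := Ds D B.t ∩ bar D B.t ⁻¹' E
  have hSn : S.ncard = 22 := by
    have e : bar D B.t '' S = E := by
      rw [Set.image_inter_preimage, bar_image hD B, Set.inter_eq_right.mpr hE]
    rw [← hEn, ← e, ((bar_inj hD B).mono Set.inter_subset_left).ncard_image]
  refine le_csSup ⟨23, hupper⟩ ⟨insert B.t S, ?_, Set.toFinite _, ?_, ?_⟩
  · exact Set.insert_subset_iff.mpr ⟨B.ht, fun x hx => hx.1.1⟩
  · rintro x (rfl | hx) y (rfl | hy)
    · exact Commute.refl _
    · exact hy.1.2.2
    · exact hx.1.2.2.symm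
    · exact (bar_commute hD B hx.1 hy.1).mp (hEc _ hx.2 _ hy.2)
  · rw [Set.ncard_insert_of_notMem fun hh => hh.1.2.1 rfl, hSn]

end

end CfsgThreeTrans.M23
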