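/-
Involution classes in type M(23).
-/
import Cfsg.Agent.Lib.ThreeTrans.M23.Facts

set_option autoImplicit false
set_option linter.unusedSectionVars false

namespace CfsgThreeTrans.M23

open Cfsg CfsgLib CfsgThreeTrans.M22

universe u

variable {G : Type u} [Group G] [Finite G] {D : Set G}

section
variable (hG : IsThreeTranspositionGroup D) (hp : IsPrimitiveUnderConj D) (h23 : IsOfTypeM23 G D) (B : Base D)
include hG hp h23 B

omit h23 in
/-- Transitivity on commuting pairs. -/
theorem pair_map {a b a' b' : G} (ha : a ∈ D) (hb : b ∈ Ds D a) (ha' : a' ∈ D) (hb' : b' ∈ Ds D a') :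
    ∃ g : G, g * a * g⁻¹ = a' ∧ g * b * g⁻¹ = b' := by
  have hD := cls_of_group_prim hG hp
  obtain ⟨g, hg⟩ := cls_exists_conj hD ha ha'
  have hgb : g * b * g⁻¹ ∈ Ds D a' := hg ▸ cj_Ds hD g a ▸ ⟨b, hb, rfl⟩
  obtain ⟨k, hk, hk'⟩ := rank_three_near hD hp (M23.has_pair hD B) ha' _ hgb _ hb'
  exact ⟨k * g, by rw [← cj_cj, hg, hk.eq, mul_inv_cancel_right], by rw [← cj_cj, hk']⟩

omit h23 in
/-- Transitivity on commuting triples. -/
theorem triple_map {a b c a' b' c' : G} (ha : a ∈ D) (hb : b ∈ Ds D a) (hc : c ∈ Ds D a) (hne : b ≠ c)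
    (hbc : Commute b c) (ha' : a' ∈ D) (hb' : b' ∈ Ds D a') (hc' : c' ∈ Ds D a') (hne' : b' ≠ c')
    (hbc' : Commute b' c') :
    ∃ g : G, g * a * g⁻¹ = a' ∧ g * b * g⁻¹ = b' ∧ g * c * g⁻¹ = c' := by
  have hD := cls_of_group_prim hG hp
  obtain ⟨m, hm, hin⟩ := M23.to_base hD B ha
  obtain ⟨m', hm', hin'⟩ := M23.to_base hD B ha'
  have key : ∀ {x y x' y' : G}, x ∈ Ds D B.t → y ∈ Ds D B.t → x' ∈ Ds D B.t → y' ∈ Ds D B.t → x ≠ y →
      Commute x y → x' ≠ y' → Commute x' y' →
      ∃ g ∈ Hs D B.t, g * x * g⁻¹ = x' ∧ g * y * g⁻¹ = y' := by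
    intro x y x' y' hx hy hx' hy' n c n' c'
    obtain ⟨k, k1, k2⟩ := M22.conj_base B.cls B.A (bar_mem hD B hx) (b := bar D B.t y) ⟨bar_mem hD B hy,
      fun e => n (bar_inj hD B hy hx e).symm, (bar_commute hD B hx hy).mpr c⟩
    obtain ⟨l, l1, l2⟩ := M22.conj_base B.cls B.A (bar_mem hD B hx') (b := bar D B.t y') ⟨bar_mem hD B hy',
      fun e => n' (bar_inj hD B hy' hx' e).symm, (bar_commute hD B hx' hy').mpr c'⟩
    obtain ⟨⟨g, hg⟩, hgk⟩ := QuotientGroup.mk'_surjective _ (l * k⁻¹)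
    have hbg : bar D B.t g = l * k⁻¹ := (bar_eq (⟨g, hg⟩ : ↥(Hs D B.t))).trans hgk
    have move : ∀ {z z' : G}, z ∈ Ds D B.t → z' ∈ Ds D B.t →
        (l * k⁻¹) * bar D B.t z * (l * k⁻¹)⁻¹ = bar D B.t z' → g * z * g⁻¹ = z' := by
      intro z z' hz hz' e
      have hzH : z ∈ Hs D B.t := Subgroup.subset_closure hz
      refine bar_inj hD B (cj_mem_Ds hD hz (by rw [(closure_Ds_commute hg).eq, mul_inv_cancel_right])) hz' ?_
      have hgi : bar D B.t g⁻¹ = (bar D B.t g)⁻¹ := by
        rw [show g⁻¹ = (((⟨g, hg⟩ : ↥(Hs D B.t))⁻¹ : ↥(Hs D B.t)) : G) from rfl, bar_eq, map_inv, ← bar_eq]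
      rw [bar_mul hD B (mul_mem hg hzH) (inv_mem hg), bar_mul hD B hg hzH, hgi, hbg]
      exact e
    refine ⟨g, hg, move hx hx' ?_, move hy hy' ?_⟩
    · rw [← k1, ← l1]; group
    · rw [← k2, ← l2]; group
  obtain ⟨g, hg, g1, g2⟩ := key (hin hb) (hin hc) (hin' hb') (hin' hc') (fun e => hne (cj_injective m⁻¹ e))
    ((commute_cj_iff m⁻¹).mpr hbc) (fun e => hne' (cj_injective m'⁻¹ e)) ((commute_cj_iff m'⁻¹).mpr hbc')
  refine ⟨m' * g * m⁻¹, ?_, ?_, ?_⟩
  · calc m' * g * m⁻¹ * a * (m' * g * m⁻¹)⁻¹ = m' * (g * (m⁻¹ * a * m⁻¹⁻¹) * g⁻¹) * m'⁻¹ := by group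
      _ = a' := by
        rw [show m⁻¹ * a * m⁻¹⁻¹ = B.t by rw [← hm]; group,
          show g * B.t * g⁻¹ = B.t by rw [(closure_Ds_commute hg).eq, mul_inv_cancel_right], hm']
  · calc m' * g * m⁻¹ * b * (m' * g * m⁻¹)⁻¹ = m' * (g * (m⁻¹ * b * m⁻¹⁻¹) * g⁻¹) * m'⁻¹ := by group
      _ = b' := by rw [g1, cj_inv]
  · calc m' * g * m⁻¹ * c * (m' * g * m⁻¹)⁻¹ = m' * (g * (m⁻¹ * c * m⁻¹⁻¹) * g⁻¹) * m'⁻¹ := by group
      _ = c' := by rw [g2, cj_inv]

/-- A product of the base member with three commuting partners is short. -/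
theorem quad_short {b c e : G} (hb : b ∈ Ds D B.t) (hc : c ∈ Ds D B.t) (he : e ∈ Ds D B.t) (nbc : b ≠ c)
    (nbe : b ≠ e) (nce : c ≠ e) (cbc : Commute b c) (cbe : Commute b e) (cce : Commute c e) :
    Short D (B.t * b * c * e) := by
  classical
  have hD := cls_of_group_prim hG hp
  set f := bar D B.t
  have hl : IsFac (Et D B.t) (f b * f c * f e) 3 [f b, f c, f e] := by
    refine ⟨?_, rfl, ?_, ?_, by simp [mul_assoc]⟩
    · simp only [List.nodup_cons, List.mem_cons, List.not_mem_nil, or_false, not_or, List.nodup_nil, and_true,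
        not_false_iff]
      exact ⟨⟨fun k => nbc (bar_inj hD B hb hc k), fun k => nbe (bar_inj hD B hb he k)⟩,
        fun k => nce (bar_inj hD B hc he k)⟩
    · intro x hx
      simp only [List.mem_cons, List.not_mem_nil, or_false] at hx
      rcases hx with rfl | rfl | rfl
      exacts [bar_mem hD B hb, bar_mem hD B hc, bar_mem hD B he]
    · intro x hx y hy
      simp only [List.mem_cons, List.not_mem_nil, or_false] at hx hy
      rcases hx with rfl | rfl | rfl <;> rcases hy with rfl | rfl | rfl <;>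
        first
          | exact Commute.refl _ | exact (bar_commute hD B hb hc).mpr cbc | exact (bar_commute hD B hb he).mpr cbe
          | exact (bar_commute hD B hc he).mpr cce | exact ((bar_commute hD B hb hc).mpr cbc).symm
          | exact ((bar_commute hD B hb he).mpr cbe).symm | exact ((bar_commute hD B hc he).mpr cce).symm
  obtain ⟨l₁, l₂, f1, f2, hne, hall⟩ := (M22.factorizations (cls_group B.cls) B.prim B.hs B.hs3 B.hs2 B.ty).2 _ _ hl
  obtain ⟨l, hlF, hlne⟩ : ∃ l, IsFac (Et D B.t) (f b * f c * f e) 3 l ∧ ¬ ∀ x, x ∈ l ↔ x ∈ [f b, f c, f e] := by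
    by_cases h1 : ∀ x, x ∈ l₁ ↔ x ∈ [f b, f c, f e]
    · exact ⟨l₂, f2, fun h2 => hne fun x => (h1 x).trans (h2 x).symm⟩
    · exact ⟨l₁, f1, h1⟩
  obtain ⟨P, Q, R, rfl⟩ := List.length_eq_three.mp hlF.2.1
  obtain ⟨hnd, -, hmem, hcom, hprod⟩ := hlF
  obtain ⟨p, hp', ep⟩ : P ∈ f '' Ds D B.t := (bar_image hD B).symm ▸ hmem P (by simp)
  obtain ⟨q, hq, eq'⟩ : Q ∈ f '' Ds D B.t := (bar_image hD B).symm ▸ hmem Q (by simp)
  obtain ⟨r, hr, er⟩ : R ∈ f '' Ds D B.t := (bar_image hD B).symm ▸ hmem R (by simp)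
  simp only [List.nodup_cons, List.mem_cons, List.not_mem_nil, or_false, not_or, List.nodup_nil, and_true] at hnd
  have cpq : Commute p q := (bar_commute hD B hp' hq).mp (by rw [show bar D B.t p = P from ep, show bar D B.t q = Q from eq']; exact hcom P (by simp) Q (by simp))
  have cpr : Commute p r := (bar_commute hD B hp' hr).mp (by rw [show bar D B.t p = P from ep, show bar D B.t r = R from er]; exact hcom P (by simp) R (by simp))
  have cqr : Commute q r := (bar_commute hD B hq hr).mp (by rw [show bar D B.t q = Q from eq', show bar D B.t r = R from er]; exact hcom Q (by simp) R (by simp))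
  have npq : p ≠ q := fun k => hnd.1.1 (by rw [← ep, ← eq', k])
  have npr : p ≠ r := fun k => hnd.1.2 (by rw [← ep, ← er, k])
  have nqr : q ≠ r := fun k => hnd.2.1 (by rw [← eq', ← er, k])
  have mH : ∀ {x : G}, x ∈ Ds D B.t → x ∈ Hs D B.t := fun hx => Subgroup.subset_closure hx
  have hb1 : f (b * c * e) = f (p * q * r) := by
    simp only [f, bar_mul hD B (mul_mem (mH hb) (mH hc)) (mH he), bar_mul hD B (mH hb) (mH hc),
      bar_mul hD B (mul_mem (mH hp') (mH hq)) (mH hr), bar_mul hD B (mH hp') (mH hq)]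
    simp only [List.prod_cons, List.prod_nil, mul_one] at hprod
    rw [show bar D B.t p = P from ep, show bar D B.t q = Q from eq', show bar D B.t r = R from er, mul_assoc P Q R]
    exact hprod.symm
  have fac : ∀ {u v w : G}, u ∈ Ds D B.t → v ∈ Ds D B.t → w ∈ Ds D B.t → u ≠ v → u ≠ w → v ≠ w → Commute u v →
      Commute u w → Commute v w → IsFac D (u * v * w) 3 [u, v, w] := by
    intro u v w hu hv hw n1 n2 n3 c1 c2 c3
    refine ⟨by simp [n1, n2, n3], rfl, ?_, ?_, by simp [mul_assoc]⟩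
    · intro x hx
      simp only [List.mem_cons, List.not_mem_nil, or_false] at hx
      rcases hx with rfl | rfl | rfl
      exacts [hu.1, hv.1, hw.1]
    · intro x hx y hy
      simp only [List.mem_cons, List.not_mem_nil, or_false] at hx hy
      rcases hx with rfl | rfl | rfl <;> rcases hy with rfl | rfl | rfl <;>
        first | exact Commute.refl _ | assumption | exact Commute.symm ‹_›
  rcases bar_eq_cases hD hp h23.1 B (mul_mem (mul_mem (mH hb) (mH hc)) (mH he))
    (mul_mem (mul_mem (mH hp') (mH hq)) (mH hr)) hb1 with k | k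
  · exfalso
    have hu := factorization_unique hG hp B.ht (core_three hD hp h23.1 B) B.core2 (Or.inl h23) (m := 3) le_rfl
      (fac hb hc he nbc nbe nce cbc cbe cce) (k ▸ fac hp' hq hr npq npr nqr cpq cpr cqr)
    refine hlne fun x => ?_
    rw [show [P, Q, R] = [p, q, r].map f by simp [ep, eq', er], show [f b, f c, f e] = [b, c, e].map f from rfl]
    simp only [List.mem_map, hu]
  · refine ⟨[p, q, r], by simp, (fac hp' hq hr npq npr nqr cpq cpr cqr).1,
      (fac hp' hq hr npq npr nqr cpq cpr cqr).2.2.1, (fac hp' hq hr npq npr nqr cpq cpr cqr).2.2.2.1, ?_⟩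
    have ct : Commute B.t (p * q * r) := (hp'.2.2.mul_right hq.2.2).mul_right hr.2.2
    simp only [List.prod_cons, List.prod_nil, mul_one]
    rw [show B.t * b * c * e = B.t * (b * c * e) by simp only [mul_assoc], k, ← mul_assoc B.t, ct.eq,
      mul_assoc _ B.t B.t, CfsgThreeTrans.mul_self hD.1 B.ht, mul_one, mul_assoc]

/-- A product of pairwise commuting members is short. -/
theorem reduce (l : List G) (hm : ∀ a ∈ l, a ∈ D) (hc : ∀ a ∈ l, ∀ b ∈ l, Commute a b) : Short D l.prod := by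
  classical
  have hD := cls_of_group_prim hG hp
  suffices H : ∀ n, ∀ l : List G, l.length ≤ n → (∀ a ∈ l, a ∈ D) → (∀ a ∈ l, ∀ b ∈ l, Commute a b) →
      Short D l.prod from H _ l le_rfl hm hc
  intro n
  induction n with
  | zero => exact fun l hl hm hc => ⟨l, by omega, by simp [List.eq_nil_of_length_eq_zero (Nat.le_zero.mp hl)],
      hm, hc, rfl⟩
  | succ n ih =>
    intro l hl hm hc
    by_cases hnd : l.Nodup
    swap
    · obtain ⟨a, ha⟩ : ∃ a, 2 ≤ l.count a := by
        by_contra hcon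
        push Not at hcon
        exact hnd (List.nodup_iff_count_le_one.mpr fun a => Nat.lt_succ_iff.mp (hcon a))
      have haL : a ∈ l := List.count_pos_iff.mp (by omega)
      have haE : a ∈ l.erase a := List.count_pos_iff.mp (by rw [List.count_erase_self]; omega)
      have p1 : List.Perm l (a :: a :: (l.erase a).erase a) :=
        (List.perm_cons_erase haL).trans ((List.perm_cons_erase haE).cons a)
      have sub : ∀ x ∈ (l.erase a).erase a, x ∈ l := fun x hx => List.mem_of_mem_erase (List.mem_of_mem_erase hx)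
      rw [List.Perm.prod_eq' p1 (List.pairwise_of_forall_mem_list hc), List.prod_cons, List.prod_cons,
        ← mul_assoc, mul_self hD.1 (hm a haL), one_mul]
      exact ih _ (by have := p1.length_eq; simp only [List.length_cons] at this; omega)
        (fun x hx => hm x (sub x hx)) fun x hx y hy => hc x (sub x hx) y (sub y hy)
    by_cases hlen : l.length ≤ 3
    · exact ⟨l, hlen, hnd, hm, hc, rfl⟩
    match l with
    | [] | [_] | [_, _] | [_, _, _] => simp at hlen
    | a :: b :: c :: e :: r =>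
      obtain ⟨g, hg, hin⟩ := M23.to_base hD B (hm a (by simp))
      simp only [List.nodup_cons, List.mem_cons, not_or] at hnd
      obtain ⟨⟨nab, nac, nae, -⟩, ⟨nbc, nbe, -⟩, ⟨nce, -⟩, -⟩ := hnd
      have inB : ∀ x ∈ a :: b :: c :: e :: r, a ≠ x → g⁻¹ * x * g⁻¹⁻¹ ∈ Ds D B.t := fun x hx hne =>
        hin ⟨hm x hx, hne.symm, hc a (by simp) x hx⟩
      have q := short_cj hD g (M23.quad_short hG hp h23 B (inB b (by simp) nab) (inB c (by simp) nac)
        (inB e (by simp) nae) (fun k => nbc (cj_injective g⁻¹ k)) (fun k => nbe (cj_injective g⁻¹ k))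
        (fun k => nce (cj_injective g⁻¹ k)) ((commute_cj_iff g⁻¹).mpr (hc b (by simp) c (by simp)))
        ((commute_cj_iff g⁻¹).mpr (hc b (by simp) e (by simp)))
        ((commute_cj_iff g⁻¹).mpr (hc c (by simp) e (by simp))))
      rw [show g * (B.t * (g⁻¹ * b * g⁻¹⁻¹) * (g⁻¹ * c * g⁻¹⁻¹) * (g⁻¹ * e * g⁻¹⁻¹)) * g⁻¹ =
        (g * B.t * g⁻¹) * b * c * e by group, hg] at q
      obtain ⟨l', q1', q2', q3', q4', q5'⟩ := q
      have hprod : (a :: b :: c :: e :: r).prod = (l' ++ r).prod := by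
        rw [List.prod_append, q5']; simp [mul_assoc]
      have hr : ∀ x ∈ r, x ∈ a :: b :: c :: e :: r := fun x hx => by simp [hx]
      have cross : ∀ x ∈ r, ∀ y ∈ l', Commute x y := fun x hx => by
        refine commute_members hD.1 q1' q2' q3' q4' (hm x (hr x hx)) ?_
        rw [q5']
        exact (((hc x (hr x hx) a (by simp)).mul_right (hc x (hr x hx) b (by simp))).mul_right
          (hc x (hr x hx) c (by simp))).mul_right (hc x (hr x hx) e (by simp))
      rw [hprod]
      refine ih _ (by simp at hl ⊢; omega) (fun x hx => ?_) fun x hx y hy => ?_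
      · rcases List.mem_append.mp hx with k | k
        exacts [q3' x k, hm x (hr x k)]
      · rcases List.mem_append.mp hx with k | k <;> rcases List.mem_append.mp hy with k' | k'
        exacts [q4' x k y k', (cross y k' x k).symm, cross x k y k', hc x (hr x k) y (hr y k')]

/-- An involution fixes some transposition. -/
theorem invol_fixes {x : G} (hx : x * x = 1) : ∃ d ∈ D, x * d * x⁻¹ = d := by
  classical
  have hD := cls_of_group_prim hG hp
  haveI : Fintype D := Fintype.ofFinite D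
  let σ : D → D := fun d => ⟨x * d.1 * x⁻¹, cls_conj hD x d.2⟩
  have hσ : σ^[2 ^ 1] = id := by
    funext d
    refine Subtype.ext ?_
    show x * (x * d.1 * x⁻¹) * x⁻¹ = d.1
    rw [cj_cj, hx]; group
  haveI : Fact (Nat.Prime 2) := ⟨Nat.prime_two⟩
  have hmod := Equiv.Perm.card_fixedPoints_modEq (f := (σ : Function.End D)) hσ
  rw [← Nat.card_eq_fintype_card (α := D), Nat.card_coe_set_eq, (M23.params hD hp B).1] at hmod
  obtain ⟨⟨d, hd⟩, hfix⟩ : Nonempty (Function.fixedPoints (σ : Function.End D)) := by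
    rw [← Fintype.card_pos_iff]
    by_contra h0
    rw [not_lt, Nat.le_zero] at h0
    rw [h0] at hmod
    exact absurd hmod (by decide)
  exact ⟨d, hd, congrArg Subtype.val hfix⟩

/-- An involution centralising the base transposition. -/
theorem short_base {y : G} (hy : y * y = 1) (hyt : Commute y B.t) : Short D y := by
  have hD := cls_of_group_prim hG hp
  have hyK : y ∈ Hs D B.t :=
    M23.centralizer_eq hD hp h23.1 B hG h23 B.ht ▸ Subgroup.mem_centralizer_singleton_iff.mpr hyt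
  obtain ⟨l, -, -, hm, hc, hprod⟩ := M22.short_invol (cls_group B.cls) B.prim B.hs B.hs3 B.hs2 B.ty B.A
    (x := bar D B.t y) (by rw [← bar_mul hD B hyK hyK, hy, show (1 : G) = ((1 : ↥(Hs D B.t)) : G) from rfl, bar_eq, map_one])
  obtain ⟨L, hLH, hLD, hLc, hLp⟩ : ∃ L : List G, L.prod ∈ Hs D B.t ∧ (∀ a ∈ L, a ∈ Ds D B.t) ∧
      (∀ a ∈ L, ∀ b ∈ L, Commute a b) ∧ bar D B.t L.prod = l.prod := by
    suffices H : ∀ m : List (Qt D B.t), (∀ x ∈ m, x ∈ l) → ∃ L : List G, L.prod ∈ Hs D B.t ∧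
        (∀ a ∈ L, a ∈ Ds D B.t ∧ bar D B.t a ∈ m) ∧ bar D B.t L.prod = m.prod by
      obtain ⟨L, e1, e2, e3⟩ := H l fun x hx => hx
      exact ⟨L, e1, fun a ha => (e2 a ha).1, fun a ha b hb =>
        (bar_commute hD B (e2 a ha).1 (e2 b hb).1).mp (hc _ (e2 a ha).2 _ (e2 b hb).2), e3⟩
    intro m
    induction m with
    | nil =>
      refine fun _ => ⟨[], one_mem _, by simp, ?_⟩
      rw [List.prod_nil, List.prod_nil, show (1 : G) = ((1 : ↥(Hs D B.t)) : G) from rfl, bar_eq, map_one]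
    | cons q m ih =>
      intro hq
      obtain ⟨L, e1, e2, e3⟩ := ih fun x hx => hq x (List.mem_cons_of_mem _ hx)
      obtain ⟨a, ha, rfl⟩ : q ∈ bar D B.t '' Ds D B.t :=
        (bar_image hD B).symm ▸ hm q (hq q (List.mem_cons_self ..))
      refine ⟨a :: L, by rw [List.prod_cons]; exact mul_mem (Subgroup.subset_closure ha) e1, fun b hb => ?_, ?_⟩
      · rcases List.mem_cons.mp hb with rfl | hb
        exacts [⟨ha, List.mem_cons_self ..⟩, ⟨(e2 b hb).1, List.mem_cons_of_mem _ (e2 b hb).2⟩]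
      · rw [List.prod_cons, bar_mul hD B (Subgroup.subset_closure ha) e1, e3, List.prod_cons]
  rcases bar_eq_cases hD hp h23.1 B hyK hLH (by rw [hLp, hprod]) with k | k
  · rw [k]
    exact M23.reduce hG hp h23 B L (fun a ha => (hLD a ha).1) hLc
  · rw [k, show L.prod * B.t = (L ++ [B.t]).prod by simp]
    refine M23.reduce hG hp h23 B _ (fun a ha => ?_) fun a ha b hb => ?_
    · rcases List.mem_append.mp ha with k' | k'
      exacts [(hLD a k').1, (List.mem_singleton.mp k') ▸ B.ht]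
    · rcases List.mem_append.mp ha with k' | k' <;> rcases List.mem_append.mp hb with k'' | k''
      exacts [hLc a k' b k'', (List.mem_singleton.mp k'') ▸ (hLD a k').2.2.symm,
        (List.mem_singleton.mp k') ▸ (hLD b k'').2.2,
        (List.mem_singleton.mp k') ▸ (List.mem_singleton.mp k'') ▸ Commute.refl _]

/-- Every involution is a product of at most three commuting transpositions. -/
theorem short_invol {x : G} (hx : x * x = 1) : Short D x := by
  have hD := cls_of_group_prim hG hp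
  obtain ⟨d, hd, hdx⟩ := M23.invol_fixes hG hp h23 B hx
  obtain ⟨g, hg⟩ := cls_exists_conj hD hd B.ht
  have hxd : Commute x d := mul_inv_eq_iff_eq_mul.mp hdx
  have := short_cj hD g⁻¹ (M23.short_base hG hp h23 B (y := g * x * g⁻¹)
    (by rw [show g * x * g⁻¹ * (g * x * g⁻¹) = g * (x * x) * g⁻¹ by group, hx]; group)
    (hg ▸ (commute_cj_iff g).mpr hxd))
  rwa [show g⁻¹ * (g * x * g⁻¹) * g⁻¹⁻¹ = x by group] at this

/-- A transposition is no product of two or three others. -/
theorem not_short_mem {a b x : G} (ha : a ∈ D) (hb : b ∈ Ds D a)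
    (hall : ∀ e ∈ D, Commute e a → Commute e b) (hx : x = a) : False := by
  have hD := cls_of_group_prim hG hp
  have hsub : Ds D a \ {b} ⊆ Ds D a ∩ Ds D b := fun e he =>
    ⟨he.1, he.1.1, fun k => he.2 k, (hall e he.1.1 he.1.2.2.symm).symm⟩
  have := Set.ncard_le_ncard hsub
  rw [M23.ncard_near hD B ha hb, Set.ncard_sdiff_singleton_of_mem hb, M23.ncard_Ds hD B ha] at this
  omega

theorem ne_two {a b c : G} (ha : a ∈ D) (hb : b ∈ D) (hc : c ∈ D) (hbc : b ≠ c) (cbc : Commute b c) : a ≠ b * c := by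
  have hD := cls_of_group_prim hG hp
  intro e
  have hab : b ≠ a := fun k => by
    subst k
    have : c = 1 := mul_left_cancel (a := b) (by rw [mul_one]; exact e.symm)
    have h2' := hD.1.1 c hc
    rw [this, orderOf_one] at h2'
    norm_num at h2'
  refine not_short_mem hG hp h23 B ha ⟨hb, hab, ?_⟩ (fun q hq hqa => ?_) rfl
  · rw [e]; exact ((Commute.refl b).mul_right cbc).symm
  · exact ((commute_mul_iff hD.1 hb hc hq hbc cbc).mp (e ▸ hqa)).1

theorem ne_three {a b c d : G} (ha : a ∈ D) (hb : b ∈ D) (hc : c ∈ D) (hd : d ∈ D) (hbc : b ≠ c) (hbd : b ≠ d)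
    (hcd : c ≠ d) (cbc : Commute b c) (cbd : Commute b d) (ccd : Commute c d) : a ≠ b * c * d := by
  have hD := cls_of_group_prim hG hp
  intro e
  have hab : b ≠ a := fun k => by
    subst k
    rw [mul_assoc, eq_comm, mul_eq_left] at e
    exact hcd (by rw [← inv_self hD.1 hd]; exact eq_inv_of_mul_eq_one_left e)
  refine not_short_mem hG hp h23 B ha ⟨hb, hab, ?_⟩ (fun q hq hqa => ?_) rfl
  · rw [e]; exact (((Commute.refl b).mul_right cbc).mul_right cbd).symm
  · exact ((commute_mul3_iff hD.1 hb hc hd hq hbc hbd hcd cbc cbd ccd).mp (e ▸ hqa)).1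

theorem two_ne_three {a b c d e : G} (ha : a ∈ D) (hb : b ∈ D) (hc : c ∈ D) (hd : d ∈ D) (he : e ∈ D)
    (hab : a ≠ b) (cab : Commute a b) (hcd : c ≠ d) (hce : c ≠ e) (hde : d ≠ e) (ccd : Commute c d)
    (cce : Commute c e) (cde : Commute d e) : a * b ≠ c * d * e := by
  have hD := cls_of_group_prim hG hp
  intro heq
  have imp : ∀ q ∈ D, Commute q a → Commute q b → Commute q c := fun q hq h1 h2' =>
    ((commute_mul3_iff hD.1 hc hd he hq hcd hce hde ccd cce cde).mp (heq ▸ h1.mul_right h2')).1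
  have hba : b * a = c * d * e := cab.eq.symm.trans heq
  have hca : c ≠ a := fun k => by
    subst k
    rw [mul_assoc] at heq
    exact ne_two hG hp h23 B hb hd he hde cde (mul_left_cancel heq)
  have hcb : c ≠ b := fun k => by
    subst k
    rw [mul_assoc] at hba
    exact ne_two hG hp h23 B ha hd he hde cde (mul_left_cancel hba)
  have cac : Commute a c := imp a ha (Commute.refl a) cab
  have cbc : Commute b c := imp b hb cab.symm (Commute.refl b)
  have hsub : (Ds D a ∩ Ds D b) \ {c} ⊆ Ds D a ∩ Ds D b ∩ Ds D c := fun q hq =>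
    ⟨hq.1, hq.1.1.1, fun k => hq.2 k, (imp q hq.1.1.1 hq.1.1.2.2.symm hq.1.2.2.2.symm).symm⟩
  have := Set.ncard_le_ncard hsub
  rw [Set.ncard_sdiff_singleton_of_mem (show c ∈ Ds D a ∩ Ds D b from ⟨⟨hc, hca, cac⟩, hc, hcb, cbc⟩),
    M23.ncard_near hD B ha ⟨hb, hab.symm, cab⟩] at this
  have hle := (M23.ncard_three hD B ha (b := b) (c := c) ⟨hb, hab.symm, cab⟩ ⟨hc, hca, cac⟩).2 hcb.symm cbc
  omega

/-- The number of factors is an invariant. -/
theorem fac_length {j : G} {m m' : ℕ} (h1 : 1 ≤ m) (h1' : m ≤ 3) (k1 : 1 ≤ m') (k1' : m' ≤ 3)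
    {l l' : List G} (hl : IsFac D j m l) (hl' : IsFac D j m' l') : m = m' := by
  suffices H : ∀ (m m' : ℕ) (l l' : List G), 1 ≤ m → m < m' → m' ≤ 3 → IsFac D j m l → IsFac D j m' l' → False by
    rcases lt_trichotomy m m' with k | k | k
    exacts [(H m m' l l' h1 k k1' hl hl').elim, k, (H m' m l' l k1 k h1' hl' hl).elim]
  intro m m' l l' hm1 hlt hm3 hl hl'
  obtain ⟨hn, hlen, hm, hc, hprod⟩ := hl
  obtain ⟨hn', hlen', hm', hc', hprod'⟩ := hl'
  rcases (show m = 1 ∧ m' = 2 ∨ m = 1 ∧ m' = 3 ∨ m = 2 ∧ m' = 3 by omega) with ⟨rfl, rfl⟩ | ⟨rfl, rfl⟩ | ⟨rfl, rfl⟩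
  · obtain ⟨a, rfl⟩ := List.length_eq_one_iff.mp hlen
    obtain ⟨b, c, rfl⟩ := List.length_eq_two.mp hlen'
    exact ne_two hG hp h23 B (hm a (by simp)) (hm' b (by simp)) (hm' c (by simp)) (by simpa using hn')
      (hc' b (by simp) c (by simp)) (by simpa using hprod.trans hprod'.symm)
  · obtain ⟨a, rfl⟩ := List.length_eq_one_iff.mp hlen
    obtain ⟨b, c, d, rfl⟩ := List.length_eq_three.mp hlen'
    simp only [List.nodup_cons, List.mem_cons, List.not_mem_nil, or_false, not_or, List.nodup_nil, and_true] at hn'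
    exact ne_three hG hp h23 B (hm a (by simp)) (hm' b (by simp)) (hm' c (by simp)) (hm' d (by simp))
      hn'.1.1 hn'.1.2 hn'.2.1 (hc' b (by simp) c (by simp)) (hc' b (by simp) d (by simp))
      (hc' c (by simp) d (by simp)) (by simpa [mul_assoc] using hprod.trans hprod'.symm)
  · obtain ⟨a, b, rfl⟩ := List.length_eq_two.mp hlen
    obtain ⟨c, d, e, rfl⟩ := List.length_eq_three.mp hlen'
    simp only [List.nodup_cons, List.mem_cons, List.not_mem_nil, or_false, not_or, List.nodup_nil, and_true] at hn'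
    exact two_ne_three hG hp h23 B (hm a (by simp)) (hm b (by simp)) (hm' c (by simp)) (hm' d (by simp))
      (hm' e (by simp)) (by simpa using hn) (hc a (by simp) b (by simp)) hn'.1.1 hn'.1.2 hn'.2.1
      (hc' c (by simp) d (by simp)) (hc' c (by simp) e (by simp))
      (hc' d (by simp) e (by simp)) (by simpa [mul_assoc] using hprod.trans hprod'.symm)

end

end CfsgThreeTrans.M23
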