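/-
A class of 3-transpositions of type M(23) is primitive.
-/
import Cfsg.Agent.Lib.ThreeTrans.M23.Facts
import Cfsg.Agent.Lib.ReflClass.Quasi

set_option autoImplicit false
set_option linter.unusedSectionVars false

namespace CfsgThreeTrans

open Cfsg CfsgLib
open scoped commutatorElement

universe u v

/-- An injective map carries a partner group modulo its centre to the image's. -/
theorem quot_closure {X : Type u} {Y : Type v} [Group X] [Group Y] (f : X →* Y) (hf : Function.Injective f)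
    (S : Set X) {T : Set Y} (hT : f '' S = T) :
    ∃ e : (↥(Subgroup.closure S) ⧸ Subgroup.center ↥(Subgroup.closure S)) ≃*
        (↥(Subgroup.closure T) ⧸ Subgroup.center ↥(Subgroup.closure T)),
      ∀ (x : ↥(Subgroup.closure S)) (y : ↥(Subgroup.closure T)), f x = y →
        e (QuotientGroup.mk x) = QuotientGroup.mk y := by
  subst hT
  set g := ((Subgroup.closure S).equivMapOfInjective f hf).trans
    (MulEquiv.subgroupCongr (MonoidHom.map_closure f S))
  refine ⟨QuotientGroup.congr _ _ g ?_, fun x y h => ?_⟩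
  · ext x
    rw [Subgroup.mem_map]
    constructor
    · rintro ⟨y, hy, rfl⟩
      refine Subgroup.mem_center_iff.mpr fun w => ?_
      obtain ⟨v, rfl⟩ := g.surjective w
      show g v * g y = g y * g v
      rw [← map_mul, ← map_mul, Subgroup.mem_center_iff.mp hy v]
    · intro hx
      refine ⟨g.symm x, Subgroup.mem_center_iff.mpr fun v => g.injective ?_, g.apply_symm_apply x⟩
      rw [map_mul, map_mul, g.apply_symm_apply]
      exact Subgroup.mem_center_iff.mp hx _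
  · rw [QuotientGroup.congr_mk]
    exact congrArg _ (Subtype.ext h)

/-- Partner sets along an injective map. -/
theorem Ds_image {X : Type u} {Y : Type v} [Group X] [Group Y] (f : X →* Y) (hf : Function.Injective f)
    (E : Set X) (a : X) : f '' Ds E a = Ds (f '' E) (f a) := by
  ext y
  constructor
  · rintro ⟨x, hx, rfl⟩
    exact ⟨⟨x, hx.1, rfl⟩, fun e => hx.2.1 (hf e), hx.2.2.map f⟩
  · rintro ⟨⟨x, hx, rfl⟩, hne, hc⟩
    exact ⟨x, ⟨hx, fun e => hne (by rw [e]), hf (by rw [map_mul, map_mul]; exact hc.eq)⟩, rfl⟩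

/-- Type M(22) is invariant under isomorphisms. -/
theorem typeM22_congr {X : Type u} {Y : Type v} [Group X] [Group Y] (e : X ≃* Y) {E : Set X}
    (h : IsOfTypeM22 X E) : IsOfTypeM22 Y (e '' E) := by
  obtain ⟨hZ, d, hd, c, hc, hdc, ⟨F, iF, iFt, hF, ⟨eH⟩⟩, c₃, hc₃, Q, hQn, hQ, ⟨eL⟩⟩ := h
  have hinj : Function.Injective e.toMonoidHom := e.injective
  refine ⟨le_bot_iff.mp fun y hy => Subgroup.mem_bot.mpr ?_, e d, ⟨d, hd, rfl⟩, e c, ⟨c, hc, rfl⟩,
    fun h => hdc (e.injective (by rw [map_mul, map_mul]; exact h.eq)), ⟨F, iF, iFt, hF, ?_⟩,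
    c₃, hc₃, Q, hQn, hQ, ?_⟩
  · have : e.symm y ∈ Subgroup.center X := Subgroup.mem_center_iff.mpr fun x => e.injective (by
      rw [map_mul, map_mul, e.apply_symm_apply]; exact Subgroup.mem_center_iff.mp hy _)
    rw [hZ, Subgroup.mem_bot] at this
    rw [← e.apply_symm_apply y, this, map_one]
  · obtain ⟨f, -⟩ := quot_closure e.toMonoidHom hinj (Ds E d) (Ds_image e.toMonoidHom hinj E d)
    exact ⟨f.symm.trans eH⟩
  · obtain ⟨f, -⟩ := quot_closure e.toMonoidHom hinj (Ds E d ∩ Ds E c)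
      (show e.toMonoidHom '' (Ds E d ∩ Ds E c) = Ds (e '' E) (e d) ∩ Ds (e '' E) (e c) by
        rw [Set.image_inter hinj, Ds_image _ hinj, Ds_image _ hinj]; rfl)
    exact ⟨f.symm.trans eL⟩

end CfsgThreeTrans

namespace CfsgThreeTrans.M23

open Cfsg CfsgLib CfsgThreeTrans.M22
open scoped commutatorElement

universe u

variable {G : Type u} [Group G] [Finite G] {D : Set G}

theorem commute_of_bar (hD : IsThreeTranspositionClass D) {t x y : G} (hx : x ∈ Ds D t) (hy : y ∈ Ds D t)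
    (hc : Commute (qt D t ⟨x, Subgroup.subset_closure hx⟩) (qt D t ⟨y, Subgroup.subset_closure hy⟩)) :
    Commute x y := by
  by_contra hnc
  set X : ↥(Hs D t) := ⟨x, Subgroup.subset_closure hx⟩
  set Y : ↥(Hs D t) := ⟨y, Subgroup.subset_closure hy⟩
  have hz : X * Y ∈ Subgroup.center ↥(Hs D t) := by
    rw [← QuotientGroup.eq_one_iff]
    show qt D t (X * Y) = 1
    have e3 : qt D t (X * Y) ^ 3 = 1 := by
      rw [← map_pow, show (X * Y) ^ 3 = 1 from Subtype.ext (pow_three hD.1 hx.1 hy.1 hnc), map_one]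
    have e2 : qt D t (X * Y) ^ 2 = 1 := by
      rw [map_mul, hc.mul_pow, ← map_pow, ← map_pow, show X ^ 2 = 1 from Subtype.ext (by
        rw [pow_two]; exact mul_self hD.1 hx.1), show Y ^ 2 = 1 from Subtype.ext (by
        rw [pow_two]; exact mul_self hD.1 hy.1), map_one, one_mul]
    rwa [pow_succ, e2, one_mul] at e3
  have h1 : Commute x (x * y) := congrArg Subtype.val (Subgroup.mem_center_iff.mp hz X)
  have := (Commute.refl x).inv_right.mul_right h1
  rw [inv_mul_cancel_left] at this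
  exact hnc this

/-- Partners with one image agree when one of them has a noncommuting companion. -/
theorem eq_of_bar (hD : IsThreeTranspositionClass D) {t x y w : G} (hx : x ∈ Ds D t) (hy : y ∈ Ds D t)
    (hw : w ∈ Ds D t) (hwx : ¬ Commute w x)
    (he : qt D t ⟨x, Subgroup.subset_closure hx⟩ = qt D t ⟨y, Subgroup.subset_closure hy⟩) : x = y := by
  set X : ↥(Hs D t) := ⟨x, Subgroup.subset_closure hx⟩
  set Y : ↥(Hs D t) := ⟨y, Subgroup.subset_closure hy⟩
  set W : ↥(Hs D t) := ⟨w, Subgroup.subset_closure hw⟩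
  have hz : X⁻¹ * Y ∈ Subgroup.center ↥(Hs D t) := QuotientGroup.eq.mp he
  set c := x⁻¹ * y
  have cc : ∀ {a : G}, a ∈ Ds D t → Commute a c := fun {a} ha =>
    congrArg Subtype.val (Subgroup.mem_center_iff.mp hz ⟨a, Subgroup.subset_closure ha⟩)
  have hyc : y = x * c := (mul_inv_cancel_left x y).symm
  have hwy : ¬ Commute w y := fun h => hwx (commute_of_bar hD hw hx (by
    rw [he]
    exact Commute.map (show Commute W Y from Subtype.ext h.eq) _))
  have c2 : c ^ 2 = 1 := by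
    have : y ^ 2 = 1 := by rw [pow_two]; exact mul_self hD.1 hy.1
    rwa [hyc, (cc hx).mul_pow, show x ^ 2 = 1 by rw [pow_two]; exact mul_self hD.1 hx.1, one_mul] at this
  have c3 : c ^ 3 = 1 := by
    have := pow_three hD.1 hw.1 hy.1 hwy
    rwa [hyc, ← mul_assoc, ((cc hw).mul_left (cc hx)).mul_pow, pow_three hD.1 hw.1 hx.1 hwx, one_mul] at this
  rw [pow_succ, c2, one_mul] at c3
  rw [hyc, c3, mul_one]

set_option maxHeartbeats 1000000 in
/-- The cores are central in type M(23). -/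
theorem cores (hD : IsThreeTranspositionClass D) (h23 : IsOfTypeM23 G D) :
    pCore 2 G ≤ Subgroup.center G ∧ pCore 3 G ≤ Subgroup.center G := by
  classical
  obtain ⟨-, t, ht, c, -, -, h22, -⟩ := h23
  change IsOfTypeM22 (Qt D t) (Et D t) at h22
  obtain ⟨-, u', hu', c', hc', huc, ⟨F, iF, iFt, hF, ⟨e⟩⟩, -⟩ := h22
  obtain ⟨⟨u, huH⟩, hu, rfl⟩ := hu'
  obtain ⟨⟨a, haH⟩, ha, rfl⟩ := hc'
  change u ∈ Ds D t at hu
  change a ∈ Ds D t at ha
  set K := Subgroup.closure (Ds (Et D t) (qt D t ⟨u, huH⟩))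
  have hau : ¬ Commute a u := fun h =>
    huc (Commute.map (show Commute (⟨u, huH⟩ : ↥(Hs D t)) ⟨a, haH⟩ from Subtype.ext h.symm.eq) _)
  have hin : ∀ {x : G} (hx : x ∈ Ds D t), x ∈ Ds D u →
      qt D t ⟨x, Subgroup.subset_closure hx⟩ ∈ Ds (Et D t) (qt D t ⟨u, huH⟩) := fun {x} hx hxu =>
    ⟨⟨_, hx, rfl⟩, fun k => hxu.2.1 (eq_of_bar hD hu hx ha hau k.symm).symm,
      Commute.map (show Commute (⟨u, huH⟩ : ↥(Hs D t)) ⟨x, Subgroup.subset_closure hx⟩ from
        Subtype.ext hxu.2.2.eq) _⟩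
  have hout : ∀ q ∈ Ds (Et D t) (qt D t ⟨u, huH⟩), ∃ (x : G) (hx : x ∈ Ds D t), x ∈ Ds D u ∧
      qt D t ⟨x, Subgroup.subset_closure hx⟩ = q := by
    rintro _ ⟨⟨⟨x, hxH⟩, hx, rfl⟩, hne, hc⟩
    change x ∈ Ds D t at hx
    exact ⟨x, hx, ⟨hx.1, fun k => hne (by subst k; rfl), commute_of_bar hD hu hx hc⟩, rfl⟩
  obtain ⟨v, hv, w, hw, hvw, hvu, hwu⟩ : ∃ v ∈ Ds D t, ∃ w ∈ Ds D t, ¬ Commute v w ∧ v ∈ Ds D u ∧ w ∈ Ds D u := by
    obtain ⟨p, q, hpq⟩ := psu_not_commutative hF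
    obtain ⟨P, hP, R, hR, hPR⟩ := noncommute_of_quot (D := Et D t) (d := qt D t ⟨u, huH⟩)
      ⟨e.symm p, e.symm q, fun hh => hpq (e.symm.injective (by rw [map_mul, map_mul]; exact hh))⟩
    obtain ⟨v, hv, hvu, rfl⟩ := hout P hP
    obtain ⟨w, hw, hwu, rfl⟩ := hout R hR
    exact ⟨v, hv, w, hw, fun h => hPR (Commute.map (show Commute (⟨v, _⟩ : ↥(Hs D t)) ⟨w, _⟩ from
      Subtype.ext h.eq) _), hvu, hwu⟩
  set V : ↥(Hs D t) := ⟨v, Subgroup.subset_closure hv⟩
  set W : ↥(Hs D t) := ⟨w, Subgroup.subset_closure hw⟩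
  set J := Subgroup.closure (Ds D t ∩ Ds D u)
  have hJH : J ≤ Hs D t := Subgroup.closure_mono Set.inter_subset_left
  let ρ : ↥J →* Qt D t := (qt D t).comp (Subgroup.inclusion hJH)
  have hρK : ∀ x : J, ρ x ∈ K := by
    rintro ⟨x, hx⟩
    induction hx using Subgroup.closure_induction with
    | mem x hx => exact Subgroup.subset_closure (hin hx.1 hx.2)
    | one => exact (map_one ρ).symm ▸ one_mem K
    | mul x y hx hy ihx ihy => exact (map_mul ρ ⟨x, hx⟩ ⟨y, hy⟩).symm ▸ mul_mem ihx ihy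
    | inv x hx ih => exact (map_inv ρ ⟨x, hx⟩).symm ▸ inv_mem ih
  let π : ↥J →* PSU 6 F 2 := e.toMonoidHom.comp ((QuotientGroup.mk' _).comp (ρ.codRestrict K hρK))
  have hρs : Function.Surjective (ρ.codRestrict K hρK) := by
    intro q
    obtain ⟨q, hq⟩ := q
    suffices q ∈ ρ.range by
      obtain ⟨x, hx⟩ := this
      exact ⟨x, Subtype.ext hx⟩
    refine (Subgroup.closure_le _).mpr ?_ hq
    intro p hp
    obtain ⟨x, hx, hxu, rfl⟩ := hout p hp
    exact ⟨⟨x, Subgroup.subset_closure ⟨hx, hxu⟩⟩, rfl⟩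
  have hπ : Function.Surjective π := e.surjective.comp ((QuotientGroup.mk'_surjective _).comp hρs)
  have hP : ∀ p : ℕ, p.Prime → pCore p (PSU 6 F 2) = ⊥ := by
    intro p hp
    haveI : Fact p.Prime := ⟨hp⟩
    haveI : IsSimpleGroup (PSU 6 F 2) :=
      UnitarySimple.simple (F := F) (q := 2) (by rw [hF]; norm_num) (by norm_num) (by norm_num)
    rcases IsSimpleGroup.eq_bot_or_eq_top_of_normal (pCore p (PSU 6 F 2)) inferInstance with e0 | e0
    · exact e0
    exfalso
    obtain ⟨x, y, hxy⟩ := psu_not_commutative hF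
    haveI := (isPGroup_pCore (G := PSU 6 F 2) p).isNilpotent
    haveI : Group.IsSolvable ↥(pCore p (PSU 6 F 2)) := inferInstance
    have hs : Group.IsSolvable (PSU 6 F 2) := by
      rw [e0] at this
      exact Group.isSolvable_of_surjective (f := (⊤ : Subgroup (PSU 6 F 2)).subtype) fun g => ⟨⟨g, trivial⟩, rfl⟩
    exact hxy ((IsSimpleGroup.comm_iff_isSolvable (G := PSU 6 F 2)).mpr hs x y)
  have key : ∀ {p : ℕ}, p.Prime → ∀ {v' : G} (hv' : v' ∈ Ds D t), v' ∈ Ds D u → v * v' ∈ pCore p G →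
      ∀ {x : G} (hx : x ∈ Ds D t), x ∈ Ds D u →
      Commute (qt D t (V * ⟨v', Subgroup.subset_closure hv'⟩)) (qt D t ⟨x, Subgroup.subset_closure hx⟩) := by
    intro p hp v' hv' hv'u hz x hx hxu
    haveI : Fact p.Prime := ⟨hp⟩
    haveI : ((pCore p G).subgroupOf J).Normal := Subgroup.normal_subgroupOf
    haveI := Subgroup.Normal.map (inferInstance : ((pCore p G).subgroupOf J).Normal) π hπ
    have hm : v * v' ∈ J := mul_mem (Subgroup.subset_closure ⟨hv, hvu⟩) (Subgroup.subset_closure ⟨hv', hv'u⟩)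
    have hPG : IsPGroup p ((pCore p G).subgroupOf J) :=
      (isPGroup_pCore p).comap_of_injective J.subtype J.subtype_injective
    have h1 : π ⟨v * v', hm⟩ ∈ (⊥ : Subgroup (PSU 6 F 2)) := hP p hp ▸ le_pCore
      (hPG.map π) (Subgroup.mem_map_of_mem π (Subgroup.mem_subgroupOf.mpr hz))
    have h2 : (ρ.codRestrict K hρK ⟨v * v', hm⟩) ∈ Subgroup.center K :=
      (QuotientGroup.eq_one_iff _).mp (e.injective ((Subgroup.mem_bot.mp h1).trans (map_one e).symm))
    exact (congrArg Subtype.val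
      (Subgroup.mem_center_iff.mp h2 ⟨_, Subgroup.subset_closure (hin hx hxu)⟩)).symm
  constructor
  · by_contra hnc
    obtain ⟨g, hg, hne⟩ := moved_of_core hD hnc hv.1
    set v' := g * v * g⁻¹
    have hD2 : ∃ a ∈ D, ∃ b ∈ D, a ≠ b := ⟨v, hv.1, t, ht, hv.2.1⟩
    have hV : v' ∈ Vs D v := by rw [Vs_eq_orbit hD hD2 hv.1]; exact ⟨g, hg, rfl⟩
    have hne' : ∀ {s : G}, s ∈ D → Commute w s → v' ≠ s := fun {s} hs hws k =>
      hvw (((k ▸ hV).2 w hw.1).mp hws.symm).symm.symm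
    have hv' : v' ∈ Ds D t :=
      ⟨hV.1, hne' ht hw.2.2.symm, ((hV.2 t ht).mpr hv.2.2.symm).symm⟩
    have hv'u : v' ∈ Ds D u :=
      ⟨hV.1, hne' hu.1 hwu.2.2.symm, ((hV.2 u hu.1).mpr hvu.2.2.symm).symm⟩
    have hz : v * v' ∈ pCore 2 G := mul_mem_two_of_Vs hD hv.1 hV
    have hc := key Nat.prime_two hv' hv'u hz hw hwu
    set z := v * v'
    set Z : ↥(Hs D t) := V * ⟨v', Subgroup.subset_closure hv'⟩
    have hzw : z * w * z⁻¹ ∈ Ds D t := cj_mem_Ds hD hw (by
      show z * t * z⁻¹ = t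
      rw [((hv.2.2.symm).mul_left hv'.2.2.symm).eq, mul_inv_cancel_right])
    have heq : qt D t W = qt D t ⟨z * w * z⁻¹, Subgroup.subset_closure hzw⟩ := by
      rw [show (⟨z * w * z⁻¹, Subgroup.subset_closure hzw⟩ : ↥(Hs D t)) = Z * W * Z⁻¹ from rfl, map_mul, map_mul,
        map_inv, hc.eq, mul_inv_cancel_right]
    have h3 := (eq_of_bar hD hw hzw hv hvw heq).symm
    have h4 : Commute w z := (mul_inv_eq_iff_eq_mul.mp h3).symm
    have hvv : Commute v v' := (Vs_comm hV ⟨hv.1, fun _ _ => Iff.rfl⟩).symm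
    exact hvw ((commute_mul_iff hD.1 hv.1 hV.1 hw.1 (Ne.symm hne) hvv).mp h4).1.symm
  · by_contra hnc
    obtain ⟨g, hg, hne⟩ := moved_of_core hD hnc hv.1
    set v' := g * v * g⁻¹
    have hV : v' ∈ Ws D v := by rw [Ws_eq_orbit hD hv.1]; exact ⟨g, hg, rfl⟩
    have hsym : ∀ {s : G}, s ∈ D → v ∈ Ds D s → v' ∈ Ds D s := fun {s} hs hvs => by
      have h : s ∈ Ds D v' := by
        show s ∈ {y : G | y ∈ D ∧ y ≠ v' ∧ Commute v' y}
        rw [← hV.2]
        exact ⟨hs, hvs.2.1.symm, hvs.2.2.symm⟩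
      exact ⟨hV.1, fun k => h.2.1 k.symm, h.2.2.symm⟩
    have hv' := hsym ht hv
    have hv'u := hsym hu.1 hvu
    have hc := key Nat.prime_three hv' hv'u (mul_mem_three_of_Ws hD hv.1 hV) hv hvu
    rw [map_mul] at hc
    have h4 := ((Commute.refl (qt D t V)).inv_left.mul_left hc)
    rw [inv_mul_cancel_left] at h4
    exact Ws_not_commute (⟨hv.1, rfl⟩ : v ∈ Ws D v) hV (Ne.symm hne) (commute_of_bar hD hv hv' h4.symm)

/-- Data exist in a class of type M(23). -/
theorem exists_base' (hD : IsThreeTranspositionClass D) (h23 : IsOfTypeM23 G D) : Nonempty (Base D) := by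
  obtain ⟨c2, c3⟩ := M23.cores hD h23
  obtain ⟨-, t, ht, c, -, -, h22, -⟩ := h23
  change IsOfTypeM22 (Qt D t) (Et D t) at h22
  have hna : ∃ e ∈ Ds D t, ∃ f ∈ Ds D t, ¬ Commute e f := by
    obtain ⟨-, x, -, y, -, hxy, -⟩ := id h22
    exact noncommute_of_quot ⟨x, y, hxy⟩
  have hcls := partner_class hD (Ds_transitive_of_cores hD c2 c3 ht) (by obtain ⟨e, he, -⟩ := hna; exact ⟨e, he⟩)
  have hbar := map_class hcls (qt D t) (QuotientGroup.mk'_surjective _) (image_ne_one hcls hna)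
  have hprim := M22.primitive hbar h22
  obtain ⟨s, hs, h3, h2, F, iF, iFt, iFd, hF, ⟨A⟩⟩ := M22.exists_full (cls_group hbar) hprim h22
  have hcore : pCore 2 ↥(Hs D t) ≤ Subgroup.center ↥(Hs D t) := core_of_quot_bot (le_bot_iff.mp (by
    rw [← h22.1]; exact (cores_of_prim hbar hprim (M22.has_pair A)).1))
  refine ⟨⟨t, ht, hbar, hprim, h22, hcore, ?_, hcls, s, hs, h3, h2, F, hF, A⟩⟩
  obtain ⟨e, he, f, hf, hef⟩ := hna
  exact ⟨⟨e, Subgroup.subset_closure he⟩, he, ⟨f, Subgroup.subset_closure hf⟩, hf,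
    fun h => hef (by rw [show e = f from congrArg Subtype.val h])⟩

/-- Far members have common partners when these generate a reflection group modulo the centre. -/
theorem far_nonempty {d c : G} {n : ℕ} {Q : QuadraticForm (ZMod 3) (Fin n → ZMod 3)} {c₃ : ZMod 3} (hn : 5 ≤ n)
    (hc₃ : c₃ ≠ 0) (hQn : (QuadraticMap.polarBilin Q).Nondegenerate)
    (eL : (↥(Subgroup.closure (Ds D d ∩ Ds D c)) ⧸ Subgroup.center ↥(Subgroup.closure (Ds D d ∩ Ds D c))) ≃*
      (↥(reflectionSubgroup (⇑Q) c₃) ⧸ Subgroup.center ↥(reflectionSubgroup (⇑Q) c₃))) :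
    (Ds D d ∩ Ds D c).Nonempty := by
  by_contra hne
  rw [Set.not_nonempty_iff_eq_empty] at hne
  set R := reflectionSubgroup (⇑Q) c₃
  haveI : Subsingleton ↥(Subgroup.closure (Ds D d ∩ Ds D c)) :=
    have hbot : Subgroup.closure (Ds D d ∩ Ds D c) = ⊥ := by rw [hne, Subgroup.closure_empty]
    ⟨fun a b => Subtype.ext ((Subgroup.mem_bot.mp (hbot.le a.2)).trans (Subgroup.mem_bot.mp (hbot.le b.2)).symm)⟩
  haveI : Subsingleton (↥R ⧸ Subgroup.center ↥R) :=
    ⟨fun a b => eL.symm.injective (by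
      obtain ⟨x, hx⟩ := QuotientGroup.mk_surjective (eL.symm a)
      obtain ⟨y, hy⟩ := QuotientGroup.mk_surjective (eL.symm b)
      rw [← hx, ← hy, Subsingleton.elim x y])⟩
  have hab : ∀ x y : R, x * y = y * x := fun x y =>
    Subgroup.mem_center_iff.mp ((QuotientGroup.eq_one_iff y).mp (Subsingleton.elim _ _)) x
  obtain ⟨-, hsimp⟩ := (CfsgReflClass.s5360 hQn hn hc₃).1
  haveI : Subsingleton ↥(commutator R) := by
    have h : commutator R = ⊥ := by
      rw [commutator_def]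
      exact le_bot_iff.mp (Subgroup.commutator_le.mpr fun x _ y _ =>
        Subgroup.mem_bot.mpr (commutatorElement_eq_one_iff_mul_comm.mpr (hab x y)))
    exact ⟨fun a b => Subtype.ext ((Subgroup.mem_bot.mp (h ▸ a.2)).trans (Subgroup.mem_bot.mp (h ▸ b.2)).symm)⟩
  obtain ⟨a, b, hne'⟩ := hsimp.toNontrivial
  obtain ⟨a, rfl⟩ := QuotientGroup.mk_surjective a
  obtain ⟨b, rfl⟩ := QuotientGroup.mk_surjective b
  exact hne' (by rw [Subsingleton.elim a b])

set_option maxHeartbeats 1000000 in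
/-- A class of type M(23) is primitive. -/
theorem primitive (hD : IsThreeTranspositionClass D) (h23 : IsOfTypeM23 G D) : IsPrimitiveUnderConj D := by
  obtain ⟨h2, h3⟩ := M23.cores hD h23
  obtain ⟨hZ, d, hd, c, hc, hdc, h22, c₃, hc₃, Q, hQn, hQ, ⟨eL⟩⟩ := h23
  classical
  have hD2 : ∃ a ∈ D, ∃ b ∈ D, a ≠ b := ⟨d, hd, c, hc, fun h => hdc (h ▸ Commute.refl d)⟩
  set L := layer G
  set O := {y : G | ∃ g ∈ L, g * d * g⁻¹ = y} with hO
  set R := Subgroup.closure O with hR
  have hOD : O ⊆ D := by rintro _ ⟨g, -, rfl⟩; exact cls_conj hD g hd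
  have hdO : d ∈ O := ⟨1, one_mem _, by simp⟩
  have hOL : ∀ g ∈ L, ∀ y ∈ O, g * y * g⁻¹ ∈ O := by
    rintro g hg _ ⟨k, hk, rfl⟩
    exact ⟨g * k, mul_mem hg hk, (cj_cj g k d).symm⟩
  have hLR : L ≤ R := layer_le_closure hD hD2 h2 h3 hd hdO hOL
  have hOdL : ∀ y ∈ O, d * y ∈ L := by
    rintro _ ⟨g, hg, rfl⟩
    have h1 := mul_mem ((inferInstance : L.Normal).conj_mem g hg d) (inv_mem hg)
    rw [inv_self hD.1 hd] at h1
    simpa only [← mul_assoc] using h1
  have hC : ∀ x ∈ D, d * x ∈ L → x ∈ O := by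
    intro x hx hdx
    by_contra hxO
    have hcom : ∀ y ∈ O, Commute x y := by
      intro y hy
      by_contra hnc
      apply hxO
      have hyx : y * x ∈ L := by
        have := mul_mem (inv_mem (hOdL y hy)) hdx
        rwa [mul_inv_rev, inv_self hD.1 hd, inv_self hD.1 (hOD hy), mul_assoc,
          mul_mul_cancel_self (mul_self hD.1 hd)] at this
      exact cj_pair hD.1 (hOD hy) hx (fun h => hnc h.symm) ▸ hOL _ hyx y hy
    have hle : R ≤ Subgroup.centralizer ({x} : Set G) :=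
      (Subgroup.closure_le _).mpr fun y hy => Subgroup.mem_centralizer_singleton_iff.mpr (hcom y hy).eq.symm
    have hxc : x ∈ Subgroup.center G := centralizer_layer_le hD h2 h3 (Subgroup.mem_centralizer_iff.mpr fun g hg =>
      Subgroup.mem_centralizer_singleton_iff.mp (hle (hLR hg)))
    obtain ⟨e, he, hne⟩ := exists_noncommute hD hD2 hx
    exact hne (Subgroup.mem_center_iff.mp hxc e).symm
  have hDsO : ∀ y ∈ Ds D d, y ∈ O := fun y hy => hC y hy.1 (mul_mem_layer hD hD2 h2 h3 hd hy.1 hy.2.2)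
  have hcO : c ∈ O := by
    obtain ⟨x, hx⟩ := far_nonempty (by norm_num) hc₃ hQn eL
    refine hC c hc ?_
    have := mul_mem (mul_mem_layer hD hD2 h2 h3 hd hx.1.1 hx.1.2.2) (mul_mem_layer hD hD2 h2 h3 hx.1.1 hc hx.2.2.2.symm)
    rwa [mul_assoc, mul_mul_cancel_self (mul_self hD.1 hx.1.1)] at this
  have hOR : ∀ g ∈ R, ∀ y ∈ O, g * y * g⁻¹ ∈ O := by
    have step : ∀ x ∈ O, ∀ y ∈ O, x * y * x⁻¹ ∈ O := fun x hx y hy => by
      refine hC _ (cls_conj hD x (hOD hy)) ?_
      have := mul_mem (mul_mem (hOdL x hx) (inv_mem (hOdL y hy))) (hOdL x hx)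
      rw [mul_inv_rev, inv_self hD.1 hd, inv_self hD.1 (hOD hy)] at this
      rw [inv_self hD.1 (hOD hx)]
      simpa only [mul_assoc, mul_mul_cancel_self (mul_self hD.1 hd)] using this
    intro g hg
    refine Subgroup.closure_induction'' (p := fun g _ => ∀ y ∈ O, g * y * g⁻¹ ∈ O) step ?_ ?_ ?_ hg
    · intro x hx y hy; rw [inv_self hD.1 (hOD hx)]; exact step x hx y hy
    · intro y hy; simpa using hy
    · intro x y _ _ hx hy z hz
      rw [← cj_cj]
      exact hx _ (hy z hz)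
  set E := {x : R | (x : G) ∈ O} with hE
  have hcls : IsThreeTranspositionClass E :=
    isClass_of_orbit ⟨fun x hx => hD.1.1 x (hOD hx), fun x hx y hy => hD.1.2 x (hOD hx) y (hOD hy)⟩ hR.symm hOR hdO
      (by rintro _ ⟨g, hg, rfl⟩; exact ⟨g, hLR hg, rfl⟩)
  set L' := L.subgroupOf R with hL'
  haveI : L'.Normal := inferInstance
  have hLc : IsComponent L' := isComponent_subgroupOf
    ⟨(inferInstance : L.Normal).isSubnormal, layer_quasisimple hD hD2 h2 h3⟩ hLR
  have hcore : ∀ p : ℕ, p.Prime → pCore p R ≤ Subgroup.center R := by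
    intro p hp z hz
    have hzG : (z : G) ∈ Subgroup.center G := centralizer_layer_le hD h2 h3 (Subgroup.mem_centralizer_iff.mpr fun g hg => by
      have h1 : (⟨g, hLR hg⟩ : R) ∈ layer R := le_layer hLc (Subgroup.mem_subgroupOf.mpr hg)
      exact congrArg Subtype.val (Subgroup.mem_centralizer_iff.mp (layer_le_centralizer_fitting h1) z
        (pCore_le_fittingSubgroup hp hz)).symm)
    exact Subgroup.mem_center_iff.mpr fun w => Subtype.ext (Subgroup.mem_center_iff.mp hzG w)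
  set d' : R := ⟨d, Subgroup.subset_closure hdO⟩
  set c' : R := ⟨c, Subgroup.subset_closure hcO⟩
  have hne : d' ≠ c' := fun h => hdc (by rw [show d = c from congrArg Subtype.val h])
  have hE2 : ∃ a ∈ E, ∃ b ∈ E, a ≠ b := ⟨d', hdO, c', hcO, hne⟩
  have hind : (layer R).index ≤ 2 := index_le_two_of_mod hcls (d := d') hdO _ fun x hx => by
    refine le_layer hLc (Subgroup.mem_subgroupOf.mpr ?_)
    show d⁻¹ * (x : G) ∈ L
    rw [inv_self hD.1 hd]
    exact hOdL _ hx
  have hpR := primitive_of_index hcls hE2 (hcore 2 Nat.prime_two) (hcore 3 Nat.prime_three) hind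
  have hZR : Subgroup.center R = ⊥ := by
    refine le_bot_iff.mp fun z hz => Subgroup.mem_bot.mpr (Subtype.ext ?_)
    refine Subgroup.mem_bot.mp (hZ ▸ centralizer_layer_le hD h2 h3 (Subgroup.mem_centralizer_iff.mpr fun g hg => ?_))
    exact congrArg Subtype.val (Subgroup.mem_center_iff.mp hz ⟨g, hLR hg⟩)
  -- the partner groups are unchanged
  have hDsE : R.subtype '' Ds E d' = Ds D d := by
    ext y
    constructor
    · rintro ⟨x, hx, rfl⟩
      exact ⟨hOD hx.1, fun h => hx.2.1 (Subtype.ext h), congrArg Subtype.val hx.2.2.eq⟩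
    · intro hy
      exact ⟨⟨y, Subgroup.subset_closure (hDsO y hy)⟩,
        ⟨hDsO y hy, fun h => hy.2.1 (congrArg Subtype.val h), Subtype.ext hy.2.2.eq⟩, rfl⟩
  have hDsEc : R.subtype '' (Ds E d' ∩ Ds E c') = Ds D d ∩ Ds D c := by
    ext y
    constructor
    · rintro ⟨x, hx, rfl⟩
      exact ⟨hDsE ▸ ⟨x, hx.1, rfl⟩, hOD hx.2.1, fun h => hx.2.2.1 (Subtype.ext h), congrArg Subtype.val hx.2.2.2.eq⟩
    · intro hy
      exact ⟨⟨y, Subgroup.subset_closure (hDsO y hy.1)⟩,
        ⟨⟨hDsO y hy.1, fun h => hy.1.2.1 (congrArg Subtype.val h), Subtype.ext hy.1.2.2.eq⟩,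
          hDsO y hy.1, fun h => hy.2.2.1 (congrArg Subtype.val h), Subtype.ext hy.2.2.2.eq⟩, rfl⟩
  have h22R : IsOfTypeM23 R E := by
    refine ⟨hZR, d', hdO, c', hcO, fun h => hdc (congrArg Subtype.val h.eq), ?_, c₃, hc₃, Q, hQn, hQ, ?_⟩
    · change IsOfTypeM22 (Qt E d') (Et E d')
      obtain ⟨f, hf⟩ := quot_closure R.subtype R.subtype_injective (Ds E d') hDsE
      have himg : f.symm '' Et D d = Et E d' := by
        ext q
        constructor
        · rintro ⟨_, ⟨⟨x, hxH⟩, hx, rfl⟩, rfl⟩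
          obtain ⟨y, hy, hyx⟩ := hDsE.symm.subset (show x ∈ Ds D d from hx)
          refine ⟨⟨y, Subgroup.subset_closure hy⟩, hy, ?_⟩
          exact (f.symm_apply_eq.mpr (hf ⟨y, Subgroup.subset_closure hy⟩ ⟨x, hxH⟩ hyx).symm).symm
        · rintro ⟨⟨y, hyH⟩, hy, rfl⟩
          have hx : (y : G) ∈ Ds D d := hDsE ▸ ⟨y, hy, rfl⟩
          exact ⟨_, ⟨⟨y, Subgroup.subset_closure hx⟩, hx, rfl⟩,
            f.symm_apply_eq.mpr (hf ⟨y, hyH⟩ ⟨y, Subgroup.subset_closure hx⟩ rfl).symm⟩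
      exact himg ▸ typeM22_congr f.symm h22
    · obtain ⟨f, -⟩ := quot_closure R.subtype R.subtype_injective (Ds E d' ∩ Ds E c') hDsEc
      exact ⟨f.trans eL⟩
  have hGR := cls_group hcls
  obtain ⟨B⟩ := M23.exists_base' hcls h22R
  have hperf := M23.perfect_top hGR hpR h22R B
  have hdL : d ∈ L := by
    set Z := Subgroup.zpowers (QuotientGroup.mk' L' d')
    have hgen : ∀ x : R ⧸ L', x ∈ Z := by
      intro x
      obtain ⟨y, rfl⟩ := QuotientGroup.mk'_surjective L' x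
      have : Subgroup.closure E ≤ Z.comap (QuotientGroup.mk' L') := (Subgroup.closure_le _).mpr fun w hw => by
        show QuotientGroup.mk' L' w ∈ Z
        rw [← show QuotientGroup.mk' L' d' = QuotientGroup.mk' L' w from QuotientGroup.eq.mpr (by
          rw [hL', Subgroup.mem_subgroupOf]
          show d⁻¹ * (w : G) ∈ L
          rw [inv_self hD.1 hd]
          exact hOdL _ hw)]
        exact Subgroup.mem_zpowers _
      exact this (hcls.2.2.symm ▸ Subgroup.mem_top y)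
    have hcom : commutator R ≤ L' := by
      rw [commutator_def, Subgroup.commutator_le]
      intro p _ q _
      rw [← QuotientGroup.eq_one_iff (N := L')]
      obtain ⟨i, hi⟩ := Subgroup.mem_zpowers_iff.mp (hgen (QuotientGroup.mk' L' p))
      obtain ⟨j, hj⟩ := Subgroup.mem_zpowers_iff.mp (hgen (QuotientGroup.mk' L' q))
      show QuotientGroup.mk' L' ⁅p, q⁆ = 1
      rw [map_commutatorElement, ← hi, ← hj, commutatorElement_eq_one_iff_mul_comm, ← zpow_add, ← zpow_add, add_comm]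
    exact Subgroup.mem_subgroupOf.mp (hcom (hperf.symm ▸ Subgroup.mem_top d'))
  refine primitive_of_index hD hD2 h2 h3 (index_le_two_of_mod hD hd _ fun a ha => ?_)
  obtain ⟨g, rfl⟩ := cls_exists_conj hD hd ha
  exact mul_mem (inv_mem hdL) ((inferInstance : L.Normal).conj_mem _ hdL g)

end CfsgThreeTrans.M23
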