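/-
The normaliser of the product of two non-commuting transpositions in type M(23).
-/
import Cfsg.Agent.Lib.ThreeTrans.M22.ReflSeven
import Cfsg.Agent.Lib.ThreeTrans.M22.ThreeA
import Cfsg.Agent.Lib.ThreeTrans.M22.ThreeAWidth
import Cfsg.Agent.Lib.ThreeTrans.M23.Facts

set_option autoImplicit false
set_option linter.unusedSectionVars false

namespace CfsgThreeTrans.M23.ThreeA

open Cfsg CfsgLib
open CfsgThreeTrans.M22.ThreeA (inverter_commutes prod_ne_one inverts)

universe u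

variable {G : Type u} [Group G] [Finite G] {D : Set G}

section

variable (hG : IsThreeTranspositionGroup D) (hp : IsPrimitiveUnderConj D) (h23 : IsOfTypeM23 G D) (B : Base D)
include hG hp h23 B

theorem ncard_far {a : G} (ha : a ∈ D) : {y | y ∈ D ∧ ¬ Commute a y}.ncard = 28160 := by
  have hD := cls_of_group_prim hG hp
  have e : {y | y ∈ D ∧ ¬ Commute a y} = D \ insert a (Ds D a) := by
    ext y
    simp only [Set.mem_setOf_eq, Set.mem_sdiff, Set.mem_insert_iff, not_or]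
    constructor
    · rintro ⟨hy, hc⟩
      exact ⟨hy, fun e => hc (e ▸ Commute.refl a), fun e => hc e.2.2⟩
    · rintro ⟨hy, hne, hn⟩
      exact ⟨hy, fun hc => hn ⟨hy, hne, hc⟩⟩
  rw [e, Set.ncard_sdiff (Set.insert_subset ha fun y hy => hy.1), (M23.params hD hp B).1,
    Set.ncard_insert_of_notMem (fun h => h.2.1 rfl), M23.ncard_Ds hD B ha]

theorem card_cent {a d : G} (ha : a ∈ D) (hd : d ∈ D) (hnc : ¬ Commute a d) :
    Nat.card ↥(Subgroup.centralizer ({a, d} : Set G)) = 4585351680 := by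
  classical
  have hD := cls_of_group_prim hG hp
  set C := Subgroup.centralizer ({a} : Set G)
  letI act : MulAction C {y // y ∈ D ∧ ¬ Commute a y} :=
    { smul := fun g y => ⟨(g : G) * y.1 * (g : G)⁻¹, cls_conj hD _ y.2.1, fun hc => y.2.2 (by
        have e : (g : G) * a * (g : G)⁻¹ = a := by
          rw [Subgroup.mem_centralizer_singleton_iff.mp g.2, mul_inv_cancel_right]
        have h2 : Commute ((g : G) * a * (g : G)⁻¹) ((g : G) * y.1 * (g : G)⁻¹) := e.symm ▸ hc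
        exact (commute_cj_iff _).mp h2)⟩
      one_smul := fun y => Subtype.ext (by show ((1 : C) : G) * y.1 * ((1 : C) : G)⁻¹ = y.1; simp)
      mul_smul := fun g k y => Subtype.ext (by
        show ((g * k : C) : G) * y.1 * ((g * k : C) : G)⁻¹ = (g : G) * ((k : G) * y.1 * (k : G)⁻¹) * (g : G)⁻¹
        simp only [Subgroup.coe_mul]; group) }
  haveI : MulAction.IsPretransitive C {y // y ∈ D ∧ ¬ Commute a y} := ⟨fun y y' => by
    obtain ⟨g, hga, hgy⟩ := rank_three_far hD hp (M23.has_pair hD B) ha y.1 y.2.1 y.2.2 y'.1 y'.2.1 y'.2.2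
    exact ⟨⟨g, Subgroup.mem_centralizer_singleton_iff.mpr hga.eq⟩, Subtype.ext hgy⟩⟩
  set y0 : {y // y ∈ D ∧ ¬ Commute a y} := ⟨d, hd, hnc⟩
  have hstab : MulAction.stabilizer C y0 = (Subgroup.centralizer ({a, d} : Set G)).subgroupOf C := by
    ext g
    rw [MulAction.mem_stabilizer_iff, Subgroup.mem_subgroupOf]
    constructor
    · intro h
      rw [Subgroup.mem_centralizer_iff]
      rintro v (rfl | rfl)
      · exact (Subgroup.mem_centralizer_singleton_iff.mp g.2).symm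
      · exact (mul_inv_eq_iff_eq_mul.mp (congrArg Subtype.val h : (g : G) * v * (g : G)⁻¹ = v)).symm
    · intro h
      refine Subtype.ext ?_
      show (g : G) * d * (g : G)⁻¹ = d
      rw [← Subgroup.mem_centralizer_iff.mp h d (Set.mem_insert_of_mem _ rfl), mul_inv_cancel_right]
  have e1 := MulAction.index_stabilizer_of_transitive C y0
  have e2 := Subgroup.card_mul_index (MulAction.stabilizer C y0)
  rw [e1, hstab, Nat.card_congr (Subgroup.subgroupOfEquivOfLe (Subgroup.centralizer_le (by simp))).toEquiv,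
    show Nat.card {y // y ∈ D ∧ ¬ Commute a y} = 28160 by
      rw [← ncard_far hG hp h23 B ha]; exact Nat.card_coe_set_eq _,
    M23.card_centralizer hG hp h23 B ha] at e2
  omega

/-- The members inverting the product of a non-commuting pair. -/
theorem inverter_unique {a d y : G} (ha : a ∈ D) (hd : d ∈ D) (hnc : ¬ Commute a d) (hy : y ∈ D)
    (hyx : y * (a * d) * y = (a * d)⁻¹) : y = a ∨ y = d ∨ y = a * d * a := by
  have hD := cls_of_group_prim hG hp
  obtain ⟨he, hae, hde, hea, hed, -⟩ := M22.third hD ha hd hnc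
  have aa := mul_self hD.1 ha
  have dd := mul_self hD.1 hd
  have yy := mul_self hD.1 hy
  rw [mul_inv_rev, inv_self hD.1 ha, inv_self hD.1 hd] at hyx
  have first : ∀ {a d : G}, a ∈ D → d ∈ D → ¬ Commute a d → y * (a * d) * y = d * a → Commute y a → y = a := by
    intro a d ha hd hnc hyx hc
    have aa := mul_self hD.1 ha
    have dd := mul_self hD.1 hd
    have bad := braid hD.1 ha hd hnc
    have h1 : y * d * y = a * d * a := by
      calc y * d * y = a * (a * y) * d * y := by rw [← mul_assoc a a y, aa, one_mul]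
        _ = a * (y * (a * d) * y) := by rw [← hc.eq]; simp only [mul_assoc]
        _ = a * d * a := by rw [hyx, mul_assoc]
    by_cases hyd : Commute y d
    · exfalso
      apply hnc
      rw [hyd.eq, mul_assoc, yy, mul_one] at h1
      show a * d = d * a
      conv_lhs => rw [h1]
      simp only [mul_assoc, mul_mul_cancel_self aa]
    · rw [braid hD.1 hy hd hyd, bad] at h1
      exact mul_right_cancel (mul_left_cancel (by simpa only [mul_assoc] using h1))
  by_cases h1 : Commute y a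
  · exact Or.inl (first ha hd hnc hyx h1)
  by_cases h2 : Commute y d
  · refine Or.inr (Or.inl (first hd ha (fun h => hnc h.symm) ?_ h2))
    rw [← hyx]
    simp only [mul_assoc, mul_mul_cancel_self yy, yy, mul_one]
  by_cases h3 : Commute y (a * d * a)
  · refine Or.inr (Or.inr (first he ha (fun h => hae h.symm) ?_ h3))
    have e1 : a * d * a * a = a * d := by rw [mul_assoc, aa, mul_one]
    rw [e1, hyx]
    simp only [← mul_assoc, aa, one_mul]
  exfalso
  have hS : Ds D a ∩ Ds D d ⊆ Ds D y := by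
    rintro z ⟨hza, hzd⟩
    have hzy : Commute z y := inverter_commutes hD.1 (pow_three hD.1 ha hd hnc) (prod_ne_one hD.1 ha hnc) hza.1 hy
      (hza.2.2.symm.mul_right hzd.2.2.symm) (by rw [hyx, mul_inv_rev, inv_self hD.1 ha, inv_self hD.1 hd])
    exact ⟨hza.1, fun e => h1 (e ▸ hza.2.2.symm), hzy.symm⟩
  have e := M23.triple hD hp B ha hd hnc hy (fun h => h1 h.1.2.2.symm) (fun e => h1 (e ▸ Commute.refl a))
    (fun e => h2 (e ▸ Commute.refl d)) (fun e => h3 (e ▸ Commute.refl _))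
  rw [Set.inter_eq_left.mpr hS, (M23.params hD hp B).2 a ha d hd hnc] at e
  simp [M22.seen, h1, h2, h3] at e

theorem cent_prod {a d z : G} (ha : a ∈ D) (hd : d ∈ D) (hnc : ¬ Commute a d) (hz : z ∈ D) :
    Commute z (a * d) ↔ z ∈ Ds D a ∩ Ds D d := by
  have hD := cls_of_group_prim hG hp
  refine ⟨fun h => ?_, fun h => h.1.2.2.symm.mul_right h.2.2.2.symm⟩
  have h3 := pow_three hD.1 ha hd hnc
  have h1 := prod_ne_one hD.1 ha hnc
  have ca := inverter_commutes hD.1 h3 h1 hz ha h (inverts hD.1 ha hd).1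
  have cd := inverter_commutes hD.1 h3 h1 hz hd h (inverts hD.1 ha hd).2
  exact ⟨⟨hz, fun e => hnc (e ▸ cd), ca.symm⟩, ⟨hz, fun e => hnc (e ▸ ca).symm, cd.symm⟩⟩

/-- Conjugation is transitive on ordered non-commuting pairs. -/
theorem far_conj {a d a' d' : G} (ha : a ∈ D) (hd : d ∈ D) (hnc : ¬ Commute a d) (ha' : a' ∈ D) (hd' : d' ∈ D)
    (hnc' : ¬ Commute a' d') : ∃ g : G, g * a * g⁻¹ = a' ∧ g * d * g⁻¹ = d' := by
  have hD := cls_of_group_prim hG hp
  obtain ⟨k, hk⟩ := cls_exists_conj hD ha ha'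
  obtain ⟨l, hla, hld⟩ := rank_three_far hD hp (M23.has_pair hD B) ha' (k * d * k⁻¹) (cls_conj hD k hd)
    (fun h => hnc ((commute_cj_iff k).mp (hk.symm ▸ h))) d' hd' hnc'
  exact ⟨l * k, by rw [← cj_cj, hk, hla.eq, mul_inv_cancel_right], by rw [← cj_cj, hld]⟩

/-- The common centraliser of a non-commuting pair. -/
theorem model {a d : G} (ha : a ∈ D) (hd : d ∈ D) (hnc : ¬ Commute a d) :
    Subgroup.closure (Ds D a ∩ Ds D d) = Subgroup.centralizer ({a, d} : Set G) ∧
      Nonempty (↥(Subgroup.closure (Ds D a ∩ Ds D d)) ≃*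
        Cfsg.POmega (ZMod 3) (Cfsg.quadFormOdd 3 (ZMod 3))) := by
  classical
  have hD := cls_of_group_prim hG hp
  obtain ⟨-, d₀, hd₀, c₀, hc₀, hdc, -, c₃, hc₃, Q, hQn, hQ, ⟨eL⟩⟩ := id h23
  change (↥(Subgroup.closure (Ds D d₀ ∩ Ds D c₀)) ⧸ Subgroup.center ↥(Subgroup.closure (Ds D d₀ ∩ Ds D c₀))) ≃* _ at eL
  obtain ⟨⟨eP⟩, hq⟩ := M22.ReflSeven.proj_omega Q hQ hc₃ hQn
  rw [← Nat.card_congr eL.toEquiv] at hq
  obtain ⟨g, g1, g2⟩ := far_conj hG hp h23 B hd₀ hc₀ hdc ha hd hnc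
  set L := Subgroup.closure (Ds D d₀ ∩ Ds D c₀)
  set K := Subgroup.closure (Ds D a ∩ Ds D d)
  have hmap : L.map (MulAut.conj g).toMonoidHom = K := by
    rw [MonoidHom.map_closure]
    refine congrArg Subgroup.closure ?_
    show (fun z => g * z * g⁻¹) '' _ = _
    rw [Set.image_inter (cj_injective g), cj_Ds hD, cj_Ds hD, g1, g2]
  have hle : K ≤ Subgroup.centralizer ({a, d} : Set G) := (Subgroup.closure_le _).mpr fun z hz =>
    Subgroup.mem_centralizer_iff.mpr (by rintro v (rfl | rfl); exacts [hz.1.2.2.eq, hz.2.2.2.eq])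
  let eK : L ≃* K := (L.equivMapOfInjective _ (MulAut.conj g).injective).trans (MulEquiv.subgroupCongr hmap)
  have hKC := Subgroup.card_le_of_le hle
  rw [card_cent hG hp h23 B ha hd hnc, ← Nat.card_congr eK.toEquiv,
    Subgroup.card_eq_card_quotient_mul_card_subgroup (Subgroup.center L), hq] at hKC
  have hz : Nat.card (Subgroup.center L) = 1 := by
    have hpos : 0 < Nat.card (Subgroup.center L) := Nat.card_pos
    omega
  have hbot : Subgroup.center L = ⊥ := Subgroup.eq_bot_of_card_eq _ hz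
  refine ⟨Subgroup.eq_of_le_of_card_ge hle ?_, ⟨eK.symm.trans
    (((QuotientGroup.quotientBot.symm.trans (QuotientGroup.quotientMulEquivOfEq hbot.symm)).trans eL).trans eP)⟩⟩
  rw [card_cent hG hp h23 B ha hd hnc, ← Nat.card_congr eK.toEquiv,
    Subgroup.card_eq_card_quotient_mul_card_subgroup (Subgroup.center L), hz, mul_one, hq]

/-- The width of the common partners of a non-commuting pair. -/
theorem width {a d : G} (ha : a ∈ D) (hd : d ∈ D) (hnc : ¬ Commute a d) :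
    commutingWidth (Ds D a ∩ Ds D d) = 7 := by
  classical
  have hD := cls_of_group_prim hG hp
  -- the picture at one common partner
  have near : ∀ z ∈ Ds D a ∩ Ds D d, ∃ (g : G) (a' d' : G), g * B.t * g⁻¹ = z ∧ a' ∈ Ds D B.t ∧ d' ∈ Ds D B.t ∧
      g * a' * g⁻¹ = a ∧ g * d' * g⁻¹ = d ∧ ¬ Commute (bar D B.t a') (bar D B.t d') := by
    intro z hz
    obtain ⟨g, hg, hin⟩ := M23.to_base hD B hz.1.1
    have ha' := hin (b := a) ⟨ha, hz.1.2.1.symm, hz.1.2.2.symm⟩
    have hd' := hin (b := d) ⟨hd, hz.2.2.1.symm, hz.2.2.2.symm⟩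
    exact ⟨g, _, _, hg, ha', hd', cj_inv g a, cj_inv g d, fun q =>
      hnc ((commute_cj_iff g⁻¹).mp ((M23.bar_commute hD B ha' hd').mp q))⟩
  have hsix := fun (a' d' : G) (h1 : a' ∈ Ds D B.t) (h2 : d' ∈ Ds D B.t)
      (h3 : ¬ Commute (bar D B.t a') (bar D B.t d')) =>
    M22.ThreeAWidth.width B.cls B.prim B.A (M23.bar_mem hD B h1) (M23.bar_mem hD B h2) h3
  refine IsGreatest.csSup_eq ⟨?_, ?_⟩
  · obtain ⟨z, hz⟩ : (Ds D a ∩ Ds D d).Nonempty :=
      Set.nonempty_of_ncard_ne_zero (by rw [(M23.params hD hp B).2 a ha d hd hnc]; norm_num)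
    obtain ⟨g, a', d', hg, ha', hd', ga, gd, hn⟩ := near z hz
    obtain ⟨hw, -⟩ := hsix a' d' ha' hd' hn
    obtain ⟨E, hE, -, hEc, hEn⟩ : (6 : ℕ) ∈ {n : ℕ | ∃ E : Set (Qt D B.t),
        E ⊆ Ds (Et D B.t) (bar D B.t a') ∩ Ds (Et D B.t) (bar D B.t d') ∧ E.Finite ∧
          (∀ x ∈ E, ∀ y ∈ E, Commute x y) ∧ E.ncard = n} := by
      rw [← hw]
      refine Nat.sSup_mem ⟨0, ∅, Set.empty_subset _, Set.finite_empty, by simp, by simp⟩ ⟨Nat.card (Qt D B.t), ?_⟩
      rintro n ⟨E, -, -, -, rfl⟩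
      rw [← Set.ncard_univ]
      exact Set.ncard_le_ncard (Set.subset_univ E)
    set S := {x | x ∈ Ds D B.t ∧ bar D B.t x ∈ E}
    have hS : bar D B.t '' S = E := by
      ext q
      refine ⟨by rintro ⟨x, hx, rfl⟩; exact hx.2, fun hq => ?_⟩
      obtain ⟨x, hx, rfl⟩ := (M23.bar_image hD B).ge (hE hq).1.1
      exact ⟨x, ⟨hx, hq⟩, rfl⟩
    have hSn : S.ncard = 6 := by
      rw [← hEn, ← hS, ((M23.bar_inj hD B).mono fun x hx => hx.1).ncard_image]
    set T := (fun y => g * y * g⁻¹) '' S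
    have hTsub : ∀ y ∈ T, y ∈ Ds D a ∩ Ds D d ∧ y ∈ Ds D z := by
      rintro _ ⟨x, hx, rfl⟩
      have hxe := hE hx.2
      have h1 : x ∈ Ds D a' := ⟨hx.1.1, fun q => hxe.1.2.1 (by rw [q]), (M23.bar_commute hD B ha' hx.1).mp hxe.1.2.2⟩
      have h2 : x ∈ Ds D d' := ⟨hx.1.1, fun q => hxe.2.2.1 (by rw [q]), (M23.bar_commute hD B hd' hx.1).mp hxe.2.2.2⟩
      refine ⟨⟨?_, ?_⟩, ?_⟩
      · rw [← ga, ← cj_Ds hD]; exact ⟨x, h1, rfl⟩
      · rw [← gd, ← cj_Ds hD]; exact ⟨x, h2, rfl⟩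
      · rw [← hg, ← cj_Ds hD]; exact ⟨x, hx.1, rfl⟩
    refine ⟨insert z T, Set.insert_subset hz fun y hy => (hTsub y hy).1, Set.toFinite _, ?_, ?_⟩
    · rintro x (rfl | hx) y (rfl | hy)
      · exact Commute.refl _
      · exact (hTsub y hy).2.2.2
      · exact (hTsub x hx).2.2.2.symm
      · obtain ⟨x', hx', rfl⟩ := hx
        obtain ⟨y', hy', rfl⟩ := hy
        exact (commute_cj_iff g).mpr ((M23.bar_commute hD B hx'.1 hy'.1).mp (hEc _ hx'.2 _ hy'.2))
    · rw [Set.ncard_insert_of_notMem (fun q => (hTsub z q).2.2.1 rfl), Set.ncard_image_of_injective _ (cj_injective g), hSn]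
  · rintro n ⟨C, hC, -, hc, rfl⟩
    rcases C.eq_empty_or_nonempty with rfl | ⟨z, hz⟩
    · simp
    obtain ⟨g, a', d', hg, ha', hd', ga, gd, hn⟩ := near z (hC hz)
    obtain ⟨hw, -⟩ := hsix a' d' ha' hd' hn
    set S := {x | g * x * g⁻¹ ∈ C \ {z}}
    have hS : ∀ x ∈ S, x ∈ Ds D B.t ∧ x ∈ Ds D a' ∧ x ∈ Ds D d' := by
      intro x hx
      have key : ∀ p : G, g * x * g⁻¹ ∈ Ds D (g * p * g⁻¹) → x ∈ Ds D p := fun p h => by
        rw [← cj_Ds hD] at h
        obtain ⟨x', hx', e⟩ := h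
        exact cj_injective g e ▸ hx'
      refine ⟨key _ ?_, key _ (ga.symm ▸ (hC hx.1).1), key _ (gd.symm ▸ (hC hx.1).2)⟩
      rw [hg]
      exact ⟨(hC hx.1).1.1, hx.2, hc z hz _ hx.1⟩
    have hle : S.ncard ≤ 6 := by
      rw [← hw]
      refine le_csSup ⟨Nat.card (Qt D B.t), ?_⟩ ⟨bar D B.t '' S, ?_, Set.toFinite _, ?_,
        ((M23.bar_inj hD B).mono fun x hx => (hS x hx).1).ncard_image⟩
      · rintro n ⟨E, -, -, -, rfl⟩
        rw [← Set.ncard_univ]
        exact Set.ncard_le_ncard (Set.subset_univ E)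
      · rintro _ ⟨x, hx, rfl⟩
        obtain ⟨h0, h1, h2⟩ := hS x hx
        exact ⟨(M23.bar_Ds hD B ha').le ⟨x, ⟨h0, h1⟩, rfl⟩, (M23.bar_Ds hD B hd').le ⟨x, ⟨h0, h2⟩, rfl⟩⟩
      · rintro _ ⟨x, hx, rfl⟩ _ ⟨y, hy, rfl⟩
        exact (M23.bar_commute hD B (hS x hx).1 (hS y hy).1).mpr ((commute_cj_iff g).mp (hc _ hx.1 _ hy.1))
    have hcard : S.ncard + 1 = C.ncard := by
      rw [show S = (fun x => g⁻¹ * x * g⁻¹⁻¹) '' (C \ {z}) from ?_, Set.ncard_image_of_injective _ (cj_injective g⁻¹),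
        Set.ncard_sdiff_singleton_add_one hz]
      ext x
      constructor
      · intro hx; exact ⟨_, hx, by group⟩
      · rintro ⟨y, hy, rfl⟩
        show g * (g⁻¹ * y * g⁻¹⁻¹) * g⁻¹ ∈ C \ {z}
        rw [cj_inv]; exact hy
    omega

end

end CfsgThreeTrans.M23.ThreeA
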