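/-
A group of type M(23) is the presented group Fi23.
-/
import Cfsg.Agent.Lib.ThreeTrans.M23.ThreeA
import Cfsg.Agent.Lib.ThreeTrans.M22.Unique.Iso
import Cfsg.Agent.Lib.ThreeTrans.O7Odd.Main
import Cfsg.Agent.Lib.CosetEnum.Fi22Octet.Main
import Cfsg.Agent.Lib.CosetEnum.Fi23Class.Main
import Cfsg.Agent.S1697

set_option autoImplicit false
set_option maxRecDepth 100000
set_option linter.unusedSectionVars false

namespace CfsgThreeTrans.M23.Unique

open Cfsg CfsgLib.CosetEnum

variable {G : Type*} [Group G] [Finite G] {D : Set G}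

/-- The places of the nine members in the diagram of Fi23. -/
def place (i : ℕ) : ℕ := ([6, 5, 4, 3, 2, 1, 0, 9, 7, 8] : List ℕ).getD i 9

/-- The joins in the diagram of Fi23 through the places. -/
noncomputable def joins (i j : ℕ) : Bool :=
  if i = 7 then Nat.beq (place j) 0 else if j = 7 then Nat.beq (place i) 0 else Fi22Octet.adjB (place i) (place j)

theorem label23 : ∀ i < 10, ∀ j < 10,
    presFi23.m i j = if i = j then 1 else if joins i j then 3 else 2 := by
  decide +kernel

theorem place_lt : ∀ i < 10, i ≠ 7 → place i < 9 := by decide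

theorem extra_words : ∀ w ∈ extraWFi23, ∃ v ∈ presFi22.rels, (∀ x ∈ v, Fi22Aut.sw x < 9 ∧ Fi22Aut.sw x ≠ 0) ∧
    (∀ x ∈ w, x < 10 ∧ x ≠ 7) ∧ w.map place = v.map Fi22Aut.sw := by
  intro w hw
  have hE : ∀ k < 2, extraWFi22.getD k [] ∈ presFi22.rels ∧
      (∀ x ∈ extraWFi22.getD k [], Fi22Aut.sw x < 9 ∧ Fi22Aut.sw x ≠ 0) ∧
      (∀ x ∈ extraWFi23.getD k [], x < 10 ∧ x ≠ 7) ∧
      (extraWFi23.getD k []).map place = (extraWFi22.getD k []).map Fi22Aut.sw := by
    rw [Fi3510.rels_eq]; decide +kernel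
  have hk : ∃ k < 2, w = extraWFi23.getD k [] := by
    simp only [extraWFi23, List.mem_cons, List.not_mem_nil, or_false] at hw
    rcases hw with rfl | rfl
    exacts [⟨0, by norm_num, rfl⟩, ⟨1, by norm_num, rfl⟩]
  obtain ⟨k, hk, rfl⟩ := hk
  exact ⟨_, (hE k hk).1, (hE k hk).2.1, (hE k hk).2.2.1, (hE k hk).2.2.2⟩

theorem gen_conj {x : ℕ} (hx : x < 9) : presFi22.σ x ∈ conjugatesOf Fi22Aut.tz :=
  Fi3510.cert.isPt_mem Fi3510.hlt (Fi22Aut.pt_gen x hx)

section

variable (hG : IsThreeTranspositionGroup D) (hp : IsPrimitiveUnderConj D) (h23 : IsOfTypeM23 G D) (B : Base D)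
include hG hp h23 B

/-- A transitive Sylow-central member of a common neighbourhood: eight members on the diagram of type O7(3). -/
theorem exists_octet {c : G} (hc : c ∈ D) (htc : ¬ Commute B.t c) :
    ∃ y : ℕ → G, (∀ x, 1 ≤ x → x < 9 → y x ∈ Ds D B.t ∩ Ds D c) ∧
      (∀ x, 1 ≤ x → x < 9 → ∀ x', 1 ≤ x' → x' < 9 → y x = y x' → x = x') ∧
      (∀ x, 1 ≤ x → x < 9 → ∀ x', 1 ≤ x' → x' < 9 → (Commute (y x) (y x') ↔ Fi22Octet.adjB x x' = false)) := by
  classical
  haveI : Fact (Nat.Prime 2) := ⟨Nat.prime_two⟩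
  have hD := cls_of_group_prim hG hp
  set T := Ds D B.t ∩ Ds D c with hT
  obtain ⟨hcen, ⟨eK⟩⟩ := ThreeA.model hG hp h23 B B.ht hc htc
  obtain ⟨⟨eR⟩, -⟩ := M22.ReflSeven.proj_omega Fi22Class.O73.Q7 (c := 1) Fi22Class.O73.Q7_det one_ne_zero
    Fi22Class.O73.Q7_nondeg
  set K := Subgroup.closure T
  let eX : K ≃* O7Odd.X7 := eK.trans eR.symm
  have pres : ∀ k : K, ∀ d ∈ T, (k : G) * d * (k : G)⁻¹ ∈ T := by
    intro k d hd
    have hk : (k : G) ∈ Subgroup.centralizer ({B.t, c} : Set G) := hcen ▸ k.2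
    have ht := Subgroup.mem_centralizer_iff.mp hk B.t (Set.mem_insert _ _)
    have hc' := Subgroup.mem_centralizer_iff.mp hk c (Set.mem_insert_of_mem _ rfl)
    have e1 : (k : G) * B.t * (k : G)⁻¹ = B.t := by rw [← ht, mul_inv_cancel_right]
    have e2 : (k : G) * c * (k : G)⁻¹ = c := by rw [← hc', mul_inv_cancel_right]
    refine ⟨?_, ?_⟩
    · rw [← e1, ← cj_Ds hD]; exact ⟨d, hd.1, rfl⟩
    · rw [← e2, ← cj_Ds hD]; exact ⟨d, hd.2, rfl⟩
  obtain ⟨P⟩ : Nonempty (Sylow 2 K) := inferInstance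
  letI act : MulAction P {y // y ∈ T} :=
    { smul := fun g y => ⟨((g : K) : G) * y.1 * ((g : K) : G)⁻¹, pres _ _ y.2⟩
      one_smul := fun y => Subtype.ext (by show (((1 : P) : K) : G) * y.1 * (((1 : P) : K) : G)⁻¹ = y.1; simp)
      mul_smul := fun g k y => Subtype.ext (by
        show (((g * k : P) : K) : G) * y.1 * (((g * k : P) : K) : G)⁻¹ =
          ((g : K) : G) * (((k : K) : G) * y.1 * ((k : K) : G)⁻¹) * ((g : K) : G)⁻¹
        simp only [Subgroup.coe_mul]; group) }
  have hcard : Nat.card {y // y ∈ T} = 351 :=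
    (Nat.card_coe_set_eq T).trans ((M23.params hD hp B).2 B.t B.ht c hc htc)
  obtain ⟨⟨u, hu⟩, hfix⟩ := P.2.nonempty_fixed_point_of_prime_not_dvd_card {y // y ∈ T} (by rw [hcard]; decide)
  set U : K := ⟨u, Subgroup.subset_closure hu⟩ with hU
  have hPU : ∀ p ∈ P, Commute p U := fun p hp' => by
    have h : (p : G) * u * (p : G)⁻¹ = u := congrArg Subtype.val (hfix ⟨p, hp'⟩)
    exact Subtype.ext (mul_inv_eq_iff_eq_mul.mp h)
  have hU1 : U ≠ 1 := fun e => by
    have h2 := hD.1.1 u hu.1.1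
    rw [show u = 1 from congrArg Subtype.val e, orderOf_one] at h2
    omega
  have hU2 : U * U = 1 := Subtype.ext (mul_self hD.1 hu.1.1)
  have h3 : ∀ k : K, (U * (k * U * k⁻¹)) ^ 2 = 1 ∨ (U * (k * U * k⁻¹)) ^ 3 = 1 := by
    intro k
    have hv := (pres k u hu).1.1
    rcases hD.1.2 u hu.1.1 _ hv with e | e
    exacts [Or.inl (Subtype.ext e), Or.inr (Subtype.ext e)]
  obtain ⟨y, hy1, hy2, hy3⟩ := O7Odd.octet (eX U) (by rw [← map_mul, hU2, map_one])
    (fun e => hU1 (eX.injective (e.trans (map_one _).symm))) (P.mapSurjective eX.surjective)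
    (fun p hp' => by
      rw [← SetLike.mem_coe, ← Sylow.coe_coe, Sylow.coe_mapSurjective] at hp'
      obtain ⟨q, hq, rfl⟩ := hp'
      exact (hPU q hq).map eX.toMonoidHom)
    (fun w => by
      obtain ⟨k, rfl⟩ := eX.surjective w
      simp only [← map_mul, ← map_inv, ← map_pow]
      rcases h3 k with e | e
      exacts [Or.inl (by rw [e, map_one]), Or.inr (by rw [e, map_one])])
  refine ⟨fun x => ((eX.symm (y x) : K) : G), fun x a b => ?_, fun x a b x' a' b' e => ?_, fun x a b x' a' b' => ?_⟩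
  · obtain ⟨w, hw⟩ := isConj_iff.mp (hy1 x a b)
    show ((eX.symm (y x) : K) : G) ∈ T
    rw [← hw, map_mul, map_mul, map_inv, eX.symm_apply_apply]
    exact pres (eX.symm w) u hu
  · exact hy2 x a b x' a' b' (eX.symm.injective (Subtype.ext e))
  · rw [← hy3 x a b x' a' b']
    refine ⟨fun h => ?_, fun h => congrArg Subtype.val (h.map eX.symm).eq⟩
    have h' : Commute (eX.symm (y x)) (eX.symm (y x')) := Subtype.ext h
    simpa using h'.map eX

/-- Nine partners of the base point with eight of them at the far point. -/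
theorem exists_nine {c : G} (hc : c ∈ D) (htc : ¬ Commute B.t c) :
    ∃ (ψ : presFi22.Grp ≃* Qt D B.t) (N : ℕ → G), (∀ x < 9, N x ∈ Ds D B.t ∧ bar D B.t (N x) = ψ (presFi22.σ x)) ∧
      (∀ x, 1 ≤ x → x < 9 → Commute c (N x)) ∧ ¬ Commute c (N 0) := by
  classical
  have hD := cls_of_group_prim hG hp
  obtain ⟨y, hyT, hyinj, hycomm⟩ := exists_octet hG hp h23 B hc htc
  obtain ⟨e, he⟩ := M22.Unique.exists_iso (cls_group B.cls) B.prim B.ty
  have htz : Fi22Aut.tz = presFi22.σ 0 := by simp [Fi22Aut.tz]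
  have hy' : ∀ x, 1 ≤ x → x < 9 → y x ∈ Ds D B.t := fun x a b => (hyT x a b).1
  let z : ℕ → presFi22.Grp := fun x => e.symm (bar D B.t (y x))
  have hzmem : ∀ x, 1 ≤ x → x < 9 → z x ∈ conjugatesOf Fi22Aut.tz := by
    intro x a b
    have hm := bar_mem hD B (hy' x a b)
    rw [← he] at hm
    obtain ⟨q, hq, hqe⟩ := hm
    rw [htz, show z x = q from e.symm_apply_eq.mpr hqe.symm]
    exact hq
  obtain ⟨α, hα⟩ := Fi22Octet.octet (y := z) hzmem
    (fun x a b x' a' b' q => hyinj x a b x' a' b' (bar_inj hD B (hy' x a b) (hy' x' a' b') (e.symm.injective q)))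
    (fun x a b x' a' b' => by
      rw [← hycomm x a b x' a' b', ← bar_commute hD B (hy' x a b) (hy' x' a' b')]
      exact ⟨fun h => by simpa [z] using h.map e, fun h => h.map e.symm⟩)
  let ψ : presFi22.Grp ≃* Qt D B.t := α.trans e
  have hex : ∀ x, ∃ d : G, x < 9 → d ∈ Ds D B.t ∧ bar D B.t d = ψ (presFi22.σ x) := by
    intro x
    by_cases hx : x < 9
    · have h1 : α (presFi22.σ x) ∈ conjugatesOf (presFi22.σ 0) := by
        rw [← htz]
        obtain ⟨g, hg⟩ := isConj_iff.mp (gen_conj hx)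
        obtain ⟨k, hk⟩ := isConj_iff.mp (Fi22Aut.aut_mem α)
        refine isConj_iff.mpr ⟨α g * k, ?_⟩
        rw [← hg, map_mul, map_mul, map_inv, ← hk]
        group
      have h2 : ψ (presFi22.σ x) ∈ Et D B.t := he ▸ ⟨_, h1, rfl⟩
      rw [← bar_image hD B] at h2
      obtain ⟨d, hd, hde⟩ := h2
      exact ⟨d, fun _ => ⟨hd, hde⟩⟩
    · exact ⟨1, fun h => absurd h hx⟩
  choose N hN using hex
  have hT : ∀ x, 1 ≤ x → x < 9 → N x ∈ Ds D c := by
    intro x a b
    have key : ∃ x', 1 ≤ x' ∧ x' < 9 ∧ α (presFi22.σ x) = z x' := by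
      rcases hα with h | h
      · exact ⟨x, a, b, h x a b⟩
      · exact ⟨_, (Fi22Octet.sw8_ok x b a).1, (Fi22Octet.sw8_ok x b a).2.1, h x a b⟩
    obtain ⟨x', a', b', hx'⟩ := key
    have e2 : bar D B.t (N x) = bar D B.t (y x') := by
      rw [(hN x b).2]
      show e (α (presFi22.σ x)) = _
      rw [hx', e.apply_symm_apply]
    rw [bar_inj hD B (hN x b).1 (hy' x' a' b') e2]
    exact (hyT x' a' b').2
  refine ⟨ψ, N, fun x hx => hN x hx, fun x a b => (hT x a b).2.2, fun h0 => ?_⟩
  -- otherwise every partner of the base point would commute with the far point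
  have hall : ∀ x < 9, Commute c (N x) := fun x hx => by
    rcases Nat.eq_zero_or_pos x with rfl | a
    exacts [h0, (hT x a hx).2.2]
  set L : Subgroup (Qt D B.t) := ((Subgroup.centralizer ({c} : Set G)).subgroupOf (Hs D B.t)).map (qt D B.t)
  have hL : ∀ g : presFi22.Grp, ψ g ∈ L := by
    intro g
    have hg : g ∈ L.comap ψ.toMonoidHom := by
      have hle : Subgroup.closure (presFi22.σ '' Set.Iio presFi22.k) ≤ L.comap ψ.toMonoidHom := by
        rw [Subgroup.closure_le]
        rintro _ ⟨i, hi, rfl⟩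
        have hi9 : i < 9 := hi
        show ψ (presFi22.σ i) ∈ L
        rw [← (hN i hi9).2]
        exact ⟨⟨N i, Subgroup.subset_closure (hN i hi9).1⟩,
          Subgroup.mem_centralizer_singleton_iff.mpr (hall i hi9).eq.symm,
          (bar_eq (⟨N i, Subgroup.subset_closure (hN i hi9).1⟩ : ↥(Hs D B.t))).symm⟩
      exact hle (by rw [presFi22.gen_closure]; exact Subgroup.mem_top g)
    exact hg
  have hsub : Ds D B.t ⊆ Ds D B.t ∩ Ds D c := by
    intro d hd
    have hm := bar_mem hD B hd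
    rw [← he] at hm
    obtain ⟨q, hq, hqe⟩ := hm
    obtain ⟨k, hk⟩ := isConj_iff.mp (show IsConj (α (presFi22.σ 0)) q from by
      refine IsConj.trans (IsConj.symm ?_) hq
      rw [← htz]; exact Fi22Aut.aut_mem α)
    obtain ⟨s, hs, hse⟩ := hL (α.symm k)
    have hs' : Commute (s : G) c := (Subgroup.mem_centralizer_singleton_iff.mp hs : _)
    have hst : Commute (s : G) B.t := closure_Ds_commute s.2
    have h0m := (hN 0 (by norm_num)).1
    have hd' : (s : G) * N 0 * (s : G)⁻¹ ∈ Ds D B.t := by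
      have e1 : (s : G) * B.t * (s : G)⁻¹ = B.t := by rw [hst.eq, mul_inv_cancel_right]
      have e4 := cj_Ds hD (s : G) B.t
      rw [e1] at e4
      exact e4.subset ⟨_, h0m, rfl⟩
    have e2 : d = (s : G) * N 0 * (s : G)⁻¹ := by
      refine bar_inj hD B hd hd' ?_
      set n0 : ↥(Hs D B.t) := ⟨N 0, Subgroup.subset_closure h0m⟩
      rw [show (s : G) * N 0 * (s : G)⁻¹ = ((s * n0 * s⁻¹ : ↥(Hs D B.t)) : G) from rfl, bar_eq, map_mul, map_mul,
        map_inv, hse, ← bar_eq n0, show bar D B.t (n0 : G) = ψ (presFi22.σ 0) from (hN 0 (by norm_num)).2, ← hqe, ← hk]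
      show _ = e (α (α.symm k)) * e (α (presFi22.σ 0)) * (e (α (α.symm k)))⁻¹
      rw [α.apply_symm_apply, map_mul, map_mul, map_inv]
    refine ⟨hd, hd.1, fun q' => htc (q' ▸ hd.2.2), ?_⟩
    rw [e2]
    have e3 : (s : G) * c * (s : G)⁻¹ = c := by rw [hs'.eq, mul_inv_cancel_right]
    exact e3 ▸ (commute_cj_iff (s : G)).mpr h0
  have := Set.ncard_le_ncard hsub (Set.toFinite _)
  rw [M23.ncard_partners hD B, (M23.params hD hp B).2 B.t B.ht c hc htc] at this
  omega

end

/-- A group of type M(23) is the presented group, and its class is that of a generator. -/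
theorem exists_iso (hG : IsThreeTranspositionGroup D) (hp : IsPrimitiveUnderConj D) (h23 : IsOfTypeM23 G D) :
    ∃ e : presFi23.Grp ≃* G, e '' conjugatesOf (presFi23.σ 7) = D := by
  classical
  have hD := cls_of_group_prim hG hp
  obtain ⟨B⟩ := exists_base hD hp h23
  obtain ⟨c, hc, htc⟩ := exists_noncommute hD hp.2.1 B.ht
  obtain ⟨ψ, N, hN, hcN, hc0⟩ := exists_nine hG hp h23 B hc htc
  let τ : ℕ → G := fun i => if i = 7 then c else if i < 10 then N (place i) else 1
  have τ7 : τ 7 = c := if_pos rfl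
  have τn : ∀ i < 10, i ≠ 7 → τ i = N (place i) := fun i hi hne => by
    show (if i = 7 then c else if i < 10 then N (place i) else 1) = _
    rw [if_neg hne, if_pos hi]
  have τmem : ∀ i < 10, τ i ∈ D := fun i hi => by
    by_cases hne : i = 7
    · rw [hne, τ7]; exact hc
    · rw [τn i hi hne]; exact (hN _ (place_lt i hi hne)).1.1
  have τsq : ∀ i, τ i * τ i = 1 := fun i => by
    by_cases hi : i < 10
    · exact mul_self hD.1 (τmem i hi)
    · show (if i = 7 then c else if i < 10 then N (place i) else 1) * _ = 1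
      simp [τ, hi, show i ≠ 7 by omega]
  have hNc : ∀ x < 9, ∀ x' < 9, (Commute (N x) (N x') ↔ Fi22Octet.adjB x x' = false) := by
    intro x hx x' hx'
    rw [← bar_commute hD B (hN x hx).1 (hN x' hx').1, (hN x hx).2, (hN x' hx').2, ← Fi22Octet.gen_comm hx hx']
    exact ⟨fun h => by simpa using h.map ψ.symm, fun h => h.map ψ⟩
  have pow2 : ∀ {a b : G}, a ∈ D → b ∈ D → Commute a b → (a * b) ^ 2 = 1 := fun ha hb h => by
    rw [h.mul_pow, pow_two, pow_two, mul_self hD.1 ha, mul_self hD.1 hb, one_mul]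
  have hcen : ∀ x, x < 9 → x ≠ 0 → Commute c (N x) := fun x hx h => hcN x (Nat.pos_of_ne_zero h) hx
  have hrel : ∀ w ∈ presFi23.rels, (w.map τ).prod = 1 := by
    intro w hw
    rcases presFi23.mem_rels hw with ⟨i, hi, j, hj, rfl⟩ | hw'
    · rw [prod_coxWord]
      have hi' : i < 10 := hi
      have hj' : j < 10 := hj
      rw [label23 i hi' j hj']
      by_cases hij : i = j
      · rw [if_pos hij, hij, pow_one, τsq]
      rw [if_neg hij]
      have key : Commute (τ i) (τ j) ↔ joins i j = false := by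
        have side : ∀ x < 10, x ≠ 7 → (Commute c (τ x) ↔ Nat.beq (place x) 0 = false) := fun x hx h7 => by
          rw [τn x hx h7]
          by_cases h : place x = 0
          · rw [h]; exact ⟨fun q => absurd q hc0, fun q => absurd q (by decide)⟩
          · exact ⟨fun _ => by rw [← Bool.not_eq_true]; exact fun q => h (Nat.eq_of_beq_eq_true q),
              fun _ => hcen _ (place_lt x hx h7) h⟩
        unfold joins
        by_cases hi7 : i = 7
        · rw [if_pos hi7, hi7, τ7]
          exact side j hj' (fun e => hij (hi7.trans e.symm))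
        rw [if_neg hi7]
        by_cases hj7 : j = 7
        · rw [if_pos hj7, hj7, τ7, Commute.symm_iff]
          exact side i hi' hi7
        rw [if_neg hj7, τn i hi' hi7, τn j hj' hj7]
        exact hNc _ (place_lt i hi' hi7) _ (place_lt j hj' hj7)
      by_cases hjn : joins i j = true
      · rw [if_pos hjn]
        exact pow_three hD.1 (τmem i hi') (τmem j hj') fun q => Bool.false_ne_true ((key.mp q).symm.trans hjn)
      · rw [if_neg hjn]
        exact pow2 (τmem i hi') (τmem j hj') (key.mpr (Bool.eq_false_iff.mpr hjn))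
    · obtain ⟨v, hv, hv9, hw10, hmap⟩ := extra_words w hw'
      have hval : (w.map τ).prod = (v.map fun x => N (Fi22Aut.sw x)).prod := by
        rw [show w.map τ = w.map (fun x => N (place x)) from List.map_congr_left fun x hx => τn x (hw10 x hx).1 (hw10 x hx).2,
          show (fun x => N (place x)) = N ∘ place from rfl, ← List.map_map, hmap, List.map_map]
        rfl
      rw [hval]
      let H : ℕ → ↥(Hs D B.t) := fun x => if h : x < 9 then ⟨N x, Subgroup.subset_closure (hN x h).1⟩ else 1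
      have hH : ∀ x < 9, ((H x : ↥(Hs D B.t)) : G) = N x ∧ qt D B.t (H x) = ψ (presFi22.σ x) := fun x hx => by
        show ((dite _ _ _ : ↥(Hs D B.t)) : G) = _ ∧ qt D B.t (dite _ _ _) = _
        rw [dif_pos hx]
        exact ⟨rfl, (bar_eq _).symm.trans (hN x hx).2⟩
      set r : ↥(Hs D B.t) := (v.map fun x => H (Fi22Aut.sw x)).prod with hr
      have hrv : (r : G) = (v.map fun x => N (Fi22Aut.sw x)).prod := by
        rw [hr, Subgroup.val_list_prod, List.map_map]
        exact congrArg List.prod (List.map_congr_left fun x hx => (hH _ (hv9 x hx).1).1)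
      have hrc : Commute c (r : G) := by
        rw [hrv]
        exact Commute.list_prod_right _ _ fun a ha => by
          obtain ⟨x, hx, rfl⟩ := List.mem_map.mp ha
          exact hcen _ (hv9 x hx).1 (hv9 x hx).2
      have hbar : bar D B.t (r : G) = 1 := by
        rw [bar_eq, hr, map_list_prod, List.map_map,
          show (v.map (qt D B.t ∘ fun x => H (Fi22Aut.sw x))) = v.map (ψ.toMonoidHom ∘ Fi22Aut.τ) from
            List.map_congr_left fun x hx => (hH _ (hv9 x hx).1).2,
          ← List.map_map, ← map_list_prod, Fi22Aut.τ_rels v hv, map_one]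
      rw [← hrv]
      rcases ker_cases hD hp h23.1 B r.2 hbar with h | h
      · exact h
      · exact absurd (h ▸ hrc).symm htc
  obtain ⟨f, hf⟩ := presFi23.exists_hom τ τsq hrel Fi23Class.hid
  have hS : IsSimpleGroup presFi23.Grp := Cfsg.Agent.S1697.result.1
  have hfin : Finite presFi23.Grp := Cfsg.Agent.S1697.upper.1
  have h7 : f (presFi23.σ 7) = c := (hf 7 (by decide)).trans τ7
  have hfinj : Function.Injective f := by
    rw [← MonoidHom.ker_eq_bot_iff]
    refine (f.normal_ker.eq_bot_or_eq_top).resolve_right fun htop => ?_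
    have h0 : f (presFi23.σ 7) = 1 := MonoidHom.mem_ker.mp (htop ▸ Subgroup.mem_top _)
    rw [h7] at h0
    exact htc (h0 ▸ Commute.one_right _)
  have hbij : Function.Bijective f := (Nat.bijective_iff_injective_and_card f).mpr ⟨hfinj, by
    rw [M23.card_group hG hp h23 B, show Nat.card presFi23.Grp = 4089470473293004800 from Cfsg.Agent.S1697.result.2]⟩
  let e : presFi23.Grp ≃* G := MulEquiv.ofBijective f hbij
  have he7 : e (presFi23.σ 7) = c := h7
  refine ⟨e, Set.ext fun d => ⟨?_, fun hd => ?_⟩⟩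
  · rintro ⟨x, hx, rfl⟩
    obtain ⟨u, rfl⟩ := isConj_iff.mp hx
    rw [map_mul, map_mul, map_inv, he7]
    exact cls_conj hD _ hc
  · obtain ⟨g, rfl⟩ := cls_exists_conj hD hc hd
    refine ⟨e.symm g * presFi23.σ 7 * (e.symm g)⁻¹, isConj_iff.mpr ⟨_, rfl⟩, ?_⟩
    rw [map_mul, map_mul, map_inv, he7, e.apply_symm_apply]

end CfsgThreeTrans.M23.Unique
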