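/-
Subgroups of order eleven in a group of type M(23).
-/
import Cfsg.Agent.Lib.ThreeTrans.M22.ElevenLevel
import Cfsg.Agent.Lib.ThreeTrans.M23.Facts
import Cfsg.Agent.Lib.ThreeTrans.M23.Invol

set_option autoImplicit false
set_option linter.unusedSectionVars false

namespace CfsgThreeTrans.M23

open Cfsg CfsgLib Eleven

universe u

variable {G : Type u} [Group G] [Finite G] {D : Set G}

/-- Every subgroup of order eleven centralises exactly two transpositions. -/
theorem eleven_level (hG : IsThreeTranspositionGroup D) (hp : IsPrimitiveUnderConj D) (h23 : IsOfTypeM23 G D)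
    (B : Base D) :
    ¬ 121 ∣ Nat.card G ∧
      (∀ X Y : Subgroup G, Nat.card X = 11 → Nat.card Y = 11 → ∃ g : G, X.map (MulAut.conj g).toMonoidHom = Y) ∧
      ∀ X : Subgroup G, Nat.card X = 11 → GoodAt D X 2 := by
  have hD := cls_of_group_prim hG hp
  have hCe : Subgroup.centralizer ({B.t} : Set G) = Hs D B.t :=
    M23.centralizer_eq hD hp h23.1 B hG h23 B.ht
  set C := Subgroup.centralizer ({B.t} : Set G) with hC
  set q : C →* Qt D B.t := (qt D B.t).comp (MulEquiv.subgroupCongr hCe).toMonoidHom with hq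
  have hqv : ∀ y : C, q y = bar D B.t y := fun y =>
    (bar_eq (MulEquiv.subgroupCongr hCe y)).symm
  have hin : ∀ y : C, (y : G) ∈ Hs D B.t := fun y => hCe ▸ y.2
  refine step hD hp (M23.has_pair hD B) B.ht hC q ?_ ?_ ?_ (E := Et D B.t) ?_ ?_ ?_
    (M23.params hD hp B).1 (M23.ncard_Ds hD B B.ht) (by norm_num) (by norm_num) (card_quot hG hp h23 B)
    (by norm_num) (by norm_num) (M22.eleven_level B.cls B.prim (local_of_M22 B.ty) B.ty.1 B.A).2.2
  · intro z
    obtain ⟨x, hx⟩ := QuotientGroup.mk'_surjective _ z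
    exact ⟨⟨x, hCe.symm ▸ x.2⟩, hx⟩
  · intro z hz
    exact ker_cases hD hp h23.1 B (hin z) ((hqv z).symm.trans hz)
  · intro z hz
    rw [hqv]
    set T : ↥(Hs D B.t) := ⟨B.t, hz ▸ hin z⟩
    rw [hz, show B.t = (T : G) from rfl, bar_eq]
    refine (QuotientGroup.eq_one_iff T).mpr ?_
    rw [M23.center_closure hD hp h23.1 B hG h23 B.ht]
    exact Subgroup.mem_zpowers B.t
  · ext e
    constructor
    · rintro ⟨x, hx, rfl⟩
      exact ⟨⟨x, hCe.symm ▸ x.2⟩, hx, rfl⟩
    · rintro ⟨y, hy, rfl⟩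
      rw [hqv]
      exact bar_mem hD B hy
  · intro y hy y' hy' e
    rw [hqv, hqv] at e
    exact Subtype.ext (bar_inj hD B hy hy' e)
  · intro y y' hy hy' e
    rw [hqv, hqv] at e
    exact (bar_commute hD B hy hy').mp e

end CfsgThreeTrans.M23
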