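/-
Subgroups of order thirteen in a group of type M(23).
-/
import Cfsg.Agent.Lib.ThreeTrans.M22.ThirteenLevel
import Cfsg.Agent.Lib.ThreeTrans.M22.SevenLevel
import Cfsg.Agent.Lib.ThreeTrans.M23.Facts
import Cfsg.Agent.Lib.ThreeTrans.M23.Invol

set_option autoImplicit false
set_option linter.unusedSectionVars false

namespace CfsgThreeTrans.M23.Thirteen

open Cfsg CfsgLib

universe u v

variable {G : Type u} [Group G] [Finite G] {D : Set G}

/-- The conclusions at a subgroup of order thirteen. -/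
structure Good (D : Set G) (X : Subgroup G) : Prop where
  num : (Seven.fx D X).ncard = 3
  nc : ∀ x ∈ Seven.fx D X, ∀ y ∈ Seven.fx D X, x ≠ y → ¬ Commute x y
  cent : Nat.card ↥(Subgroup.centralizer (X : Set G)) = 78
  norm : Nat.card ↥(Subgroup.normalizer (X : Set G)) = 468
  product : ∃ E : Subgroup G, Nat.card E = 78 ∧ X ≤ E ∧ E ⊓ Subgroup.centralizer (X : Set G) = X ∧
      E ⊓ Subgroup.closure (Seven.fx D X) = ⊥ ∧ (∀ x ∈ E, ∀ y ∈ Subgroup.closure (Seven.fx D X), x * y = y * x) ∧
      E ⊔ Subgroup.closure (Seven.fx D X) = Subgroup.normalizer (X : Set G)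
  perm : Nonempty (↥(Subgroup.closure (Seven.fx D X)) ≃* Equiv.Perm (Fin 3))

/-- The counts at a transposition centralising a subgroup of order thirteen. -/
structure At (D : Set G) (X : Subgroup G) (t : G) : Prop where
  near : ∀ y ∈ Seven.fx D X, y ≠ t → ¬ Commute t y
  cent : Nat.card ↥(Subgroup.centralizer (X : Set G) ⊓ Subgroup.centralizer ({t} : Set G)) = 26
  norm : Nat.card ↥(Subgroup.normalizer (X : Set G) ⊓ Subgroup.centralizer ({t} : Set G)) = 156

theorem At.map {X : Subgroup G} {t : G} (h : At D X t) (e : G ≃* G) (he : e '' D = D) :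
    At D (X.map e.toMonoidHom) (e t) := by
  have hC : Subgroup.centralizer ((X.map e.toMonoidHom : Subgroup G) : Set G) =
      (Subgroup.centralizer (X : Set G)).map e.toMonoidHom := by
    rw [Eleven.map_centralizer, Subgroup.coe_map]; rfl
  have hfx : Seven.fx D (X.map e.toMonoidHom) = e '' Seven.fx D X := by
    show D ∩ _ = _
    rw [hC, Subgroup.coe_map, Set.image_inter e.injective, he]
    rfl
  have hsing : ({e t} : Set G) = e '' {t} := (Set.image_singleton).symm
  refine ⟨?_, ?_, ?_⟩
  · rw [hfx]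
    rintro _ ⟨y, hy, rfl⟩ hne hc
    exact h.near y hy (fun k => hne (by rw [k])) (e.injective (by rw [map_mul, map_mul]; exact hc) : Commute t y)
  · rw [hC, hsing, ← Eleven.map_centralizer, ← Subgroup.map_inf _ _ _ e.injective, Eleven.card_map, h.cent]
  · rw [← Subgroup.map_equiv_normalizer_eq, hsing, ← Eleven.map_centralizer, ← Subgroup.map_inf _ _ _ e.injective,
      Eleven.card_map, h.norm]

/-- Fixed members are congruent to all members. -/
theorem fixed_mod {S : Set G} {X : Subgroup G} (hX : Nat.card X = 13) (hst : ∀ g ∈ X, ∀ y ∈ S, g * y * g⁻¹ ∈ S) :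
    {y | y ∈ S ∧ ∀ g ∈ X, Commute g y}.ncard % 13 = S.ncard % 13 := by
  haveI : Fact (Nat.Prime 13) := ⟨by norm_num⟩
  letI : MulAction X S :=
    { smul := fun g y => ⟨(g : G) * y * (g : G)⁻¹, hst g g.2 y y.2⟩
      one_smul := fun y => Subtype.ext (by show ((1 : X) : G) * y * ((1 : X) : G)⁻¹ = y; simp)
      mul_smul := fun g k y => Subtype.ext (by
        show ((g * k : X) : G) * y * ((g * k : X) : G)⁻¹ = g * (k * y * (k : G)⁻¹) * (g : G)⁻¹
        simp only [Subgroup.coe_mul]; group) }
  have hPG : IsPGroup 13 X := IsPGroup.of_card (n := 1) (by rw [hX, pow_one])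
  have hmod := hPG.card_modEq_card_fixedPoints S
  have e : Nat.card (MulAction.fixedPoints X S) = {y | y ∈ S ∧ ∀ g ∈ X, Commute g y}.ncard := by
    rw [← Nat.card_coe_set_eq]
    exact Nat.card_congr
      { toFun := fun y => ⟨y.1.1, y.1.2, fun g hg => mul_inv_eq_iff_eq_mul.mp (congrArg Subtype.val (y.2 ⟨g, hg⟩))⟩
        invFun := fun y => ⟨⟨y.1, y.2.1⟩, fun g => Subtype.ext (mul_inv_eq_iff_eq_mul.mpr (y.2.2 g g.2))⟩
        left_inv := fun y => rfl
        right_inv := fun y => rfl }
  rw [e, Nat.card_coe_set_eq] at hmod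
  exact hmod.symm

/-- The normaliser as a product, once the orders are known. -/
theorem product {X : Subgroup G} (hX : Nat.card X = 13)
    (hF : Nat.card ↥(Subgroup.normalizer (X : Set G) ⊓ Subgroup.centralizer (Seven.fx D X)) = 78)
    (hC : Nat.card ↥(Subgroup.centralizer (X : Set G) ⊓ Subgroup.centralizer (Seven.fx D X)) = 13)
    (hN : Nat.card ↥(Subgroup.normalizer (X : Set G)) = 78 * Nat.card ↥(Subgroup.closure (Seven.fx D X)))
    (h13 : ¬ 13 ∣ Nat.card ↥(Subgroup.closure (Seven.fx D X))) :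
    ∃ F : Subgroup G, Nat.card F = 78 ∧ X ≤ F ∧ F ⊓ Subgroup.centralizer (X : Set G) = X ∧
      F ⊓ Subgroup.closure (Seven.fx D X) = ⊥ ∧ (∀ x ∈ F, ∀ y ∈ Subgroup.closure (Seven.fx D X), x * y = y * x) ∧
      F ⊔ Subgroup.closure (Seven.fx D X) = Subgroup.normalizer (X : Set G) := by
  haveI : Fact (Nat.Prime 13) := ⟨by norm_num⟩
  set S := Seven.fx D X
  set V := Subgroup.closure S
  set F := Subgroup.normalizer (X : Set G) ⊓ Subgroup.centralizer S
  have hVX : V ≤ Subgroup.centralizer (X : Set G) := (Subgroup.closure_le _).mpr fun y hy => hy.2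
  have hXS : X ≤ Subgroup.centralizer S := fun x hx => Subgroup.mem_centralizer_iff.mpr fun y hy =>
    (Subgroup.mem_centralizer_iff.mp hy.2 x hx).symm
  have hVc : ∀ g ∈ F, ∀ v ∈ V, g * v = v * g := by
    intro g hg v hv
    have : V ≤ Subgroup.centralizer ({g} : Set G) := (Subgroup.closure_le _).mpr fun y hy =>
      Subgroup.mem_centralizer_singleton_iff.mpr (Subgroup.mem_centralizer_iff.mp hg.2 y hy)
    exact (Subgroup.mem_centralizer_singleton_iff.mp (this hv)).symm
  have hXF : X ≤ F := le_inf Subgroup.le_normalizer hXS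
  have hXC : X ≤ Subgroup.centralizer (X : Set G) := by
    haveI : IsCyclic X := isCyclic_of_prime_card (p := 13) hX
    exact fun x hx => Subgroup.mem_centralizer_iff.mpr fun y hy =>
      congrArg Subtype.val (IsCyclic.commGroup.mul_comm (⟨y, hy⟩ : X) ⟨x, hx⟩)
  have hFX : F ⊓ Subgroup.centralizer (X : Set G) = X := by
    refine (Subgroup.eq_of_le_of_card_ge (le_inf hXF hXC) ?_).symm
    rw [hX, ← hC]
    exact Subgroup.card_le_of_le (le_inf inf_le_right (inf_le_left.trans inf_le_right))
  have hbot : F ⊓ V = ⊥ := by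
    refine le_bot_iff.mp ((show F ⊓ V ≤ X ⊓ V from le_inf ((le_inf inf_le_left (inf_le_right.trans hVX)).trans hFX.le)
      inf_le_right).trans (le_of_eq (Subgroup.inf_eq_bot_of_coprime ?_)))
    rw [hX]
    exact (Nat.Prime.coprime_iff_not_dvd (by norm_num)).mpr h13
  refine ⟨F, hF, hXF, hFX, hbot, hVc, ?_⟩
  refine Subgroup.eq_of_le_of_card_ge (sup_le inf_le_left (hVX.trans (Subgroup.centralizer_le_normalizer _))) ?_
  rw [hN, ← hF, ← Nat.card_prod]
  refine Nat.card_le_card_of_injective (fun p : F × V => (⟨p.1 * p.2, Subgroup.mul_mem_sup p.1.2 p.2.2⟩ :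
    ↥(F ⊔ V))) fun p r e => ?_
  have e' : (p.1 : G) * p.2 = r.1 * r.2 := congrArg Subtype.val e
  have e1 : (r.1 : G)⁻¹ * p.1 = r.2 * (p.2 : G)⁻¹ := by
    rw [eq_mul_inv_iff_mul_eq, mul_assoc, e']; group
  have hm : (r.1 : G)⁻¹ * p.1 ∈ F ⊓ V := Subgroup.mem_inf.mpr
    ⟨F.mul_mem (F.inv_mem r.1.2) p.1.2, e1 ▸ V.mul_mem r.2.2 (V.inv_mem p.2.2)⟩
  rw [hbot, Subgroup.mem_bot, inv_mul_eq_one] at hm
  refine Prod.ext (Subtype.ext hm.symm) (Subtype.ext ?_)
  rw [← hm] at e'
  exact mul_left_cancel e'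

set_option maxHeartbeats 1000000 in
/-- Every subgroup of order thirteen centralises exactly three transpositions. -/
theorem thirteen_level (hG : IsThreeTranspositionGroup D) (hp : IsPrimitiveUnderConj D) (h23 : IsOfTypeM23 G D)
    (B : Base D) :
    (∀ X Y : Subgroup G, Nat.card X = 13 → Nat.card Y = 13 → ∃ g : G, X.map (MulAut.conj g).toMonoidHom = Y) ∧
      ∀ X : Subgroup G, Nat.card X = 13 → Good D X := by
  classical
  haveI : Fact (Nat.Prime 13) := ⟨by norm_num⟩
  have hD := cls_of_group_prim hG hp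
  obtain ⟨hn, hmu⟩ := M23.params hD hp B
  have hGc : Nat.card G = 31671 * 129123503308800 := M23.card_group hG hp h23 B
  have hfac : (Nat.card G).factorization 13 = 1 := by
    refine le_antisymm ?_ ?_
    · by_contra hlt
      have h2 := (Nat.Prime.pow_dvd_iff_le_factorization (by norm_num) Nat.card_pos.ne').mpr
        (by omega : 2 ≤ (Nat.card G).factorization 13)
      rw [hGc] at h2
      norm_num at h2
    · refine (Nat.Prime.pow_dvd_iff_le_factorization (by norm_num) Nat.card_pos.ne').mp ?_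
      rw [hGc]; norm_num
  let syl : ∀ X : Subgroup G, Nat.card X = 13 → Sylow 13 G := fun X hX => Sylow.ofCard X (by rw [hX, hfac, pow_one])
  refine ⟨fun X Y hX hY => ?_, ?_⟩
  · obtain ⟨g, hg⟩ := MulAction.exists_smul_eq G (syl X hX) (syl Y hY)
    exact ⟨g, congrArg (fun P : Sylow 13 G => (P : Subgroup G)) hg⟩
  -- at the base
  have hCe : Subgroup.centralizer ({B.t} : Set G) = Hs D B.t := M23.centralizer_eq hD hp h23.1 B hG h23 B.ht
  set C := Subgroup.centralizer ({B.t} : Set G) with hC
  set q : C →* Qt D B.t := (qt D B.t).comp (MulEquiv.subgroupCongr hCe).toMonoidHom with hq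
  have hqv : ∀ y : C, q y = bar D B.t y := fun y =>
    (bar_eq (MulEquiv.subgroupCongr hCe y)).symm
  have hin : ∀ y : C, (y : G) ∈ Hs D B.t := fun y => hCe ▸ y.2
  have hsur : Function.Surjective q := by
    intro z
    obtain ⟨x, hx⟩ := QuotientGroup.mk'_surjective _ z
    exact ⟨⟨x, hCe.symm ▸ x.2⟩, hx⟩
  have hker : ∀ z : C, q z = 1 → (z : G) = 1 ∨ (z : G) = B.t := fun z hz =>
    ker_cases hD hp h23.1 B (hin z) ((hqv z).symm.trans hz)
  have htC : B.t ∈ C := Subgroup.mem_centralizer_singleton_iff.mpr rfl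
  set T : C := ⟨B.t, htC⟩
  have hqt : q T = 1 := by
    rw [hqv]
    show bar D B.t B.t = 1
    set T' : ↥(Hs D B.t) := ⟨B.t, hin T⟩
    rw [show B.t = (T' : G) from rfl, bar_eq]
    refine (QuotientGroup.eq_one_iff T').mpr ?_
    rw [M23.center_closure hD hp h23.1 B hG h23 B.ht]
    exact Subgroup.mem_zpowers B.t
  have ht2 : orderOf B.t = 2 := hD.1.1 B.t B.ht
  have hk2 : Nat.card q.ker = 2 := by
    have : q.ker = Subgroup.zpowers T := by
      refine le_antisymm (fun z hz => ?_) (Subgroup.zpowers_le.mpr hqt)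
      rcases hker z hz with e | e
      · rw [show z = 1 from Subtype.ext e]; exact one_mem _
      · rw [show z = T from Subtype.ext e]; exact Subgroup.mem_zpowers _
    rw [this, Nat.card_zpowers, ← ht2, ← Subgroup.orderOf_coe]
  have hcC : Nat.card C = 2 * 64561751654400 := by
    rw [Subgroup.card_eq_card_quotient_mul_card_subgroup q.ker,
      Nat.card_congr (QuotientGroup.quotientKerEquivOfSurjective q hsur).toEquiv, M23.card_quot hG hp h23 B, hk2]
  have hcomap : ∀ K : Subgroup (Qt D B.t), Nat.card (K.comap q) = 2 * Nat.card K := by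
    intro K
    have e2 := (K.comap q).card_mul_index
    have e3 := K.card_mul_index
    rw [M23.card_quot hG hp h23 B] at e3
    rw [Subgroup.index_comap_of_surjective _ hsur, hcC, ← e3] at e2
    exact Nat.eq_of_mul_eq_mul_right (Nat.pos_of_ne_zero K.index_ne_zero_of_finite) (by rw [e2]; ring)
  obtain ⟨-, -, hlow⟩ := M22.Thirteen.thirteen_level (cls_group B.cls) B.prim B.hs B.hs3 B.hs2 B.ty B.A
  have main : ∀ X : Subgroup G, Nat.card X = 13 → X ≤ C → At D X B.t := by
    intro X hX hXC
    set X' := X.subgroupOf C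
    have hpow : ∀ x : C, (x : G) ∈ X → x ^ 13 = 1 := by
      intro x hx
      refine Subtype.ext ?_
      have := pow_card_eq_one' (G := X) (x := ⟨x, hx⟩)
      rw [hX] at this
      simpa using congrArg (fun z : X => (z : G)) this
    have huniq : ∀ u w : C, u ^ 13 = 1 → w ^ 13 = 1 → q u = q w → u = w := by
      intro u w hu hw' e
      rcases hker (u * w⁻¹) (by rw [map_mul, map_inv, e, mul_inv_cancel]) with h | h
      · exact mul_inv_eq_one.mp (Subtype.ext h)
      · exfalso
        have e1 : u = T * w := by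
          rw [← show u * w⁻¹ = T from Subtype.ext h, inv_mul_cancel_right]
        have hTw : Commute T w := Subtype.ext (Subgroup.mem_centralizer_singleton_iff.mp w.2).symm
        rw [e1, hTw.mul_pow, hw', mul_one] at hu
        have h7 := orderOf_dvd_of_pow_eq_one hu
        rw [← Subgroup.orderOf_coe] at h7
        change orderOf B.t ∣ 13 at h7
        rw [ht2] at h7
        norm_num at h7
    set Xb := X'.map q with hXb
    have hXb13 : Nat.card Xb = 13 := by
      have hi : Function.Injective (q.comp X'.subtype) := fun u w e => Subtype.ext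
        (huniq u w (hpow u u.2) (hpow w w.2) e)
      rw [← hX, ← Nat.card_congr (Subgroup.subgroupOfEquivOfLe hXC).toEquiv,
        Nat.card_congr (MonoidHom.ofInjective hi).toEquiv, MonoidHom.range_comp, Subgroup.range_subtype]
    obtain ⟨gn, gc⟩ := hlow Xb hXb13
    have hlift : ∀ u : C, u ^ 13 = 1 → q u ∈ Xb → (u : G) ∈ X := by
      rintro u hu ⟨w, hw', e⟩
      rw [huniq u w hu (hpow w hw') e.symm]
      exact hw'
    have hmemX : ∀ y : C, (y : G) ∈ Subgroup.centralizer (X : Set G) ↔
        q y ∈ Subgroup.centralizer (Xb : Set (Qt D B.t)) := by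
      intro y
      constructor
      · intro hy
        refine Subgroup.mem_centralizer_iff.mpr ?_
        rintro _ ⟨x, hx, rfl⟩
        rw [← map_mul, ← map_mul, show x * y = y * x from Subtype.ext (Subgroup.mem_centralizer_iff.mp hy x hx)]
      · intro hy
        refine Subgroup.mem_centralizer_iff.mpr fun x hx => ?_
        set x' : C := ⟨x, hXC hx⟩
        have e : y * x' * y⁻¹ = x' := huniq _ _ (by rw [conj_pow, hpow x' hx, mul_one, mul_inv_cancel]) (hpow x' hx)
          (by
            rw [map_mul, map_mul, map_inv, ← Subgroup.mem_centralizer_iff.mp hy _ ⟨x', hx, rfl⟩,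
              mul_inv_cancel_right])
        exact (congrArg Subtype.val (mul_inv_eq_iff_eq_mul.mp e)).symm
    refine ⟨fun y hy hne hc => ?_, ?_, ?_⟩
    · set y' : C := ⟨y, Subgroup.mem_centralizer_singleton_iff.mpr hc.eq.symm⟩
      have hy' := (hmemX y').mp hy.2
      rw [gc] at hy'
      have := Subgroup.orderOf_dvd_natCard Xb hy'
      rw [hXb13, hqv, B.cls.1.1 _ (bar_mem hD B (show y ∈ Ds D B.t from ⟨hy.1, hne, hc⟩))] at this
      norm_num at this
    · rw [← hC, ← Nat.card_congr (Subgroup.subgroupOfEquivOfLe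
          (inf_le_right : Subgroup.centralizer (X : Set G) ⊓ C ≤ C)).toEquiv,
        show (Subgroup.centralizer (X : Set G) ⊓ C).subgroupOf C =
            (Subgroup.centralizer (Xb : Set (Qt D B.t))).comap q from
          Subgroup.ext fun g => by
            simp only [Subgroup.mem_subgroupOf, Subgroup.mem_inf, Subgroup.mem_comap]
            exact ⟨fun h => (hmemX g).mp h.1, fun h => ⟨(hmemX g).mpr h, g.2⟩⟩, hcomap, gc, hXb13]
    · rw [← hC, ← Nat.card_congr (Subgroup.subgroupOfEquivOfLe
          (inf_le_right : Subgroup.normalizer (X : Set G) ⊓ C ≤ C)).toEquiv,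
        show (Subgroup.normalizer (X : Set G) ⊓ C).subgroupOf C =
            (Subgroup.normalizer (Xb : Set (Qt D B.t))).comap q from
          Subgroup.ext fun g => by
            simp only [Subgroup.mem_subgroupOf, Subgroup.mem_inf, Subgroup.mem_comap]
            constructor
            · rintro ⟨h1, -⟩
              refine Eleven.mem_norm ?_
              rintro _ ⟨x, hx, rfl⟩
              exact ⟨g * x * g⁻¹, (Subgroup.mem_normalizer_iff.mp h1 x).mp hx, by simp⟩
            · refine fun h1 => ⟨Eleven.mem_norm fun x hx => ?_, g.2⟩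
              refine hlift (g * ⟨x, hXC hx⟩ * g⁻¹) ?_ ?_
              · rw [conj_pow, hpow ⟨x, hXC hx⟩ hx, mul_one, mul_inv_cancel]
              · rw [map_mul, map_mul, map_inv]
                exact (Subgroup.mem_normalizer_iff.mp h1 _).mp ⟨⟨x, hXC hx⟩, hx, rfl⟩, hcomap, gn]
  intro X hX
  set S := Seven.fx D X
  have hat : ∀ s ∈ S, At D X s := by
    intro s hs
    obtain ⟨k', hk'⟩ := cls_exists_conj hD B.ht hs.1
    have hkD : MulAut.conj k' '' D = D := Set.eq_of_subset_of_ncard_le
      (by rintro _ ⟨d, hd, rfl⟩; exact cls_conj hD k' hd)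
      (Set.ncard_image_of_injective _ (MulAut.conj k').injective).ge
    have hXs : X.map (MulAut.conj k'⁻¹).toMonoidHom ≤ C := by
      rintro _ ⟨x, hx, rfl⟩
      refine Subgroup.mem_centralizer_singleton_iff.mpr ?_
      have := (commute_cj_iff k'⁻¹).mpr (show Commute x s from Subgroup.mem_centralizer_iff.mp hs.2 x hx)
      rw [show k'⁻¹ * s * k'⁻¹⁻¹ = B.t by rw [← hk']; group] at this
      exact this.eq
    have h1 := (main _ (by rw [Eleven.card_map, hX]) hXs).map (MulAut.conj k') hkD
    have e : (X.map (MulAut.conj k'⁻¹).toMonoidHom).map (MulAut.conj k').toMonoidHom = X := by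
      ext x
      simp [Subgroup.mem_map, mul_assoc]
    rw [e, show MulAut.conj k' B.t = s from hk'] at h1
    exact h1
  have hnc : ∀ x ∈ S, ∀ y ∈ S, x ≠ y → ¬ Commute x y := fun x hx y hy hne => (hat x hx).near y hy hne.symm
  have hSmod : S.ncard % 13 = 3 := by
    have := fixed_mod (S := D) hX fun g _ y hy => cls_conj hD g hy
    rw [hn] at this
    refine Eq.trans ?_ this
    congr 2
  obtain ⟨s, hs, a, ha, hsa⟩ := (Set.one_lt_ncard_iff (Set.toFinite S)).mp (by omega : 1 < S.ncard) |>
    fun ⟨a, b, ha, hb, hab⟩ => (⟨a, ha, b, hb, hab⟩ : ∃ a ∈ S, ∃ b ∈ S, a ≠ b)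
  have hncsa := hnc s hs a ha hsa
  have hss := mul_self hD.1 hs.1
  have haa := mul_self hD.1 ha.1
  have hbr := braid hD.1 hs.1 ha.1 hncsa
  have hVX : Subgroup.closure S ≤ Subgroup.centralizer (X : Set G) := (Subgroup.closure_le _).mpr fun y hy => hy.2
  have hVN : Subgroup.closure S ≤ Subgroup.normalizer (X : Set G) := hVX.trans (Subgroup.centralizer_le_normalizer _)
  have hsV : s ∈ Subgroup.closure S := Subgroup.subset_closure hs
  have haV : a ∈ Subgroup.closure S := Subgroup.subset_closure ha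
  have hbS : s * a * s ∈ S := by
    have := M22.SevenNorm.fx_stable hD (hVN hsV) ha
    rwa [inv_self hD.1 hs.1] at this
  obtain ⟨-, -, hsb, hbs, hba, -⟩ := M22.third hD hs.1 ha.1 hncsa
  -- a fourth member would see twenty-seven of the common partners
  have hSeq : S = {s, a, s * a * s} := by
    refine Set.Subset.antisymm (fun c hc => ?_) ?_
    · by_contra hcn
      simp only [Set.mem_insert_iff, Set.mem_singleton_iff, not_or] at hcn
      set W := Ds D s ∩ Ds D a ∩ Ds D c
      have hcs : ¬ Commute c s := fun h => hnc c hc s hs hcn.1 h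
      have hW : W.ncard = 27 := by
        rw [M23.triple hD hp B hs.1 ha.1 hncsa hc.1 (fun h => hcs h.1.2.2.symm) hcn.1 hcn.2.1 hcn.2.2]
        have : M22.seen s a c = 0 := by
          unfold M22.seen
          rw [if_neg hcs, if_neg (fun h => hnc c hc a ha hcn.2.1 h), if_neg (fun h => hnc c hc _ hbS hcn.2.2 h)]
        rw [this]
      have hgs : ∀ g ∈ X, ∀ u ∈ S, g * u * g⁻¹ = u := fun g hg u hu =>
        mul_inv_eq_iff_eq_mul.mpr (Subgroup.mem_centralizer_iff.mp hu.2 g hg)
      have hmod := fixed_mod (S := W) hX fun g hg y hy => by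
        have k1 := M22.cj_mem_Ds hD hy.1.1 (hgs g hg s hs)
        have k2 := M22.cj_mem_Ds hD hy.1.2 (hgs g hg a ha)
        have k3 := M22.cj_mem_Ds hD hy.2 (hgs g hg c hc)
        exact ⟨⟨k1, k2⟩, k3⟩
      rw [hW] at hmod
      obtain ⟨y, hyW, hyX⟩ := Set.nonempty_of_ncard_ne_zero (fun k => by rw [k] at hmod; norm_num at hmod :
        {y | y ∈ W ∧ ∀ g ∈ X, Commute g y}.ncard ≠ 0)
      exact hnc s hs y ⟨hyW.1.1.1, Subgroup.mem_centralizer_iff.mpr fun g hg => (hyX g hg).eq⟩
        hyW.1.1.2.1.symm hyW.1.1.2.2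
    · rintro y (rfl | rfl | rfl)
      exacts [hs, ha, hbS]
  have hnum : S.ncard = 3 := by
    rw [hSeq, Set.ncard_eq_three]
    exact ⟨s, a, s * a * s, hsa, hbs.symm, hba.symm, rfl⟩
  obtain ⟨φ, e0, e1⟩ := exists_hom_S3 hss haa hbr.symm
  have htrans : ∀ y ∈ S, ∃ k ∈ Subgroup.closure S, k * s * k⁻¹ = y := by
    intro y hy
    rw [hSeq] at hy
    rcases hy with e | e | e <;> rw [e]
    · exact ⟨1, one_mem _, by simp⟩
    · refine ⟨s * a, mul_mem hsV haV, ?_⟩
      rw [mul_inv_rev, inv_eq_of_mul_eq_one_right hss, inv_eq_of_mul_eq_one_right haa]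
      calc s * a * s * (a * s) = s * (a * s * a) * s := by group
        _ = s * (s * a * s) * s := by rw [hbr]
        _ = (s * s) * a * (s * s) := by group
        _ = a := by rw [hss, one_mul, mul_one]
    · exact ⟨a, haV, by rw [inv_eq_of_mul_eq_one_right haa, hbr]⟩
  have hf : {y | y ∈ S ∧ ¬ Commute s y}.ncard = 2 := by
    have : {y | y ∈ S ∧ ¬ Commute s y} = S \ {s} := by
      ext y
      exact ⟨fun h => ⟨h.1, fun e => h.2 (by rw [Set.mem_singleton_iff.mp e])⟩,
        fun h => ⟨h.1, hnc s hs y h.1 (fun e => h.2 e.symm)⟩⟩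
    rw [this, Set.ncard_diff_singleton_of_mem hs, hnum]
  have hcount : ∀ H : Subgroup G, Subgroup.closure S ≤ H → H ≤ Subgroup.normalizer (X : Set G) →
      Nat.card H = 3 * Nat.card ↥(H ⊓ Subgroup.centralizer ({s} : Set G)) ∧
      Nat.card ↥(H ⊓ Subgroup.centralizer ({s} : Set G)) = 2 * Nat.card ↥(H ⊓ Subgroup.centralizer S) := by
    intro H hVH hHN
    have hperm : ∀ k ∈ H, ∀ y ∈ S, k * y * k⁻¹ ∈ S := fun k hk y hy => M22.SevenNorm.fx_stable hD (hHN hk) hy
    refine ⟨by rw [← hnum]; exact M22.card_orbit_stab H s S (fun k hk => hperm k hk s hs) (fun y hy => by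
      obtain ⟨k, hk, e⟩ := htrans y hy
      exact ⟨k, hVH hk, e⟩), ?_⟩
    rw [← hf, M22.card_orbit_stab (H ⊓ Subgroup.centralizer ({s} : Set G)) a {y | y ∈ S ∧ ¬ Commute s y}
      (fun k hk => ⟨hperm k hk.1 a ha, fun h => hncsa ((commute_cj_iff k).mp (by
        rwa [show k * s * k⁻¹ = s from M22.mem_cent.mp hk.2]))⟩) (fun y hy => by
      have hy' : y = a ∨ y = s * a * s := by
        have := hy.1
        rw [hSeq] at this
        rcases this with rfl | h | h
        · exact absurd (Commute.refl _) hy.2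
        · exact Or.inl h
        · exact Or.inr h
      rcases hy' with e | e
      · exact ⟨1, one_mem _, by simp [e]⟩
      · exact ⟨s, ⟨hVH hsV, Subgroup.mem_centralizer_singleton_iff.mpr rfl⟩, by
          rw [inv_eq_of_mul_eq_one_right hss]; exact e.symm⟩)]
    congr 1
    refine Nat.card_congr (Equiv.setCongr (congrArg (fun K : Subgroup G => (K : Set G)) ?_))
    ext k
    simp only [Subgroup.mem_inf, Subgroup.mem_centralizer_singleton_iff]
    refine ⟨fun h => ⟨h.1.1, Subgroup.mem_centralizer_iff.mpr fun y hy => ?_⟩, fun h =>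
      ⟨⟨h.1, (Subgroup.mem_centralizer_iff.mp h.2 s hs).symm⟩, (Subgroup.mem_centralizer_iff.mp h.2 a ha).symm⟩⟩
    rw [hSeq] at hy
    rcases hy with rfl | rfl | rfl
    · exact h.1.2.symm
    · exact h.2.symm
    · exact (((show Commute k s from h.1.2).mul_right h.2).mul_right (show Commute k s from h.1.2)).eq.symm
  obtain ⟨c1, c2⟩ := hcount _ hVX (Subgroup.centralizer_le_normalizer _)
  obtain ⟨n1, n2⟩ := hcount _ hVN le_rfl
  rw [(hat s hs).cent] at c1 c2
  rw [(hat s hs).norm] at n1 n2
  have hφ : Function.Injective φ := injective_S3_hom (by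
    rw [map_mul, e0, e1]
    intro e
    exact hncsa (by rw [eq_inv_of_mul_eq_one_left e]; exact (Commute.refl a).inv_left))
  have hrange : φ.range = Subgroup.closure S := by
    refine le_antisymm ?_ ((Subgroup.closure_le _).mpr fun y hy => ?_)
    · rintro _ ⟨σ, rfl⟩
      rcases M22.SevenNorm.perm_three σ with rfl | rfl | rfl | rfl | rfl | rfl <;>
        simp [e0, e1, hsV, haV, mul_mem]
    · rw [hSeq] at hy
      rcases hy with rfl | rfl | rfl
      · exact ⟨_, e0⟩
      · exact ⟨_, e1⟩
      · exact mul_mem (mul_mem ⟨_, e0⟩ ⟨_, e1⟩) ⟨_, e0⟩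
  have eV : ↥(Subgroup.closure S) ≃* Equiv.Perm (Fin 3) :=
    ((MonoidHom.ofInjective hφ).trans (MulEquiv.subgroupCongr hrange)).symm
  have hV6 : Nat.card ↥(Subgroup.closure S) = 6 := by
    rw [Nat.card_congr eV.toEquiv, Nat.card_perm, Nat.card_fin]; rfl
  exact ⟨hnum, hnc, by omega, by omega,
    product hX
      (show Nat.card ↥(Subgroup.normalizer (X : Set G) ⊓ Subgroup.centralizer S) = 78 by omega)
      (show Nat.card ↥(Subgroup.centralizer (X : Set G) ⊓ Subgroup.centralizer S) = 13 by omega) (by rw [hV6]; omega)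
      (by rw [hV6]; norm_num), ⟨eV⟩⟩

end CfsgThreeTrans.M23.Thirteen
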