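/-
Subgroups of order five in a group of type M(23).
-/
import Cfsg.Agent.Lib.ThreeTrans.M22.FiveLevel
import Cfsg.Agent.Lib.ThreeTrans.M23.Facts
import Cfsg.Agent.Lib.ThreeTrans.SymChain

set_option autoImplicit false
set_option linter.unusedSectionVars false

namespace CfsgThreeTrans.M23.FiveNorm

open Cfsg CfsgLib

universe u

variable {G : Type u} [Group G] [Finite G] {D : Set G}

abbrev P5 := Equiv.Perm (Fin 5)
abbrev P7 := Equiv.Perm (Fin 7)

/-- The ten pairs of five points. -/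
def pr : Fin 10 → Fin 5 × Fin 5 :=
  ![(0, 1), (0, 2), (0, 3), (0, 4), (1, 2), (1, 3), (1, 4), (2, 3), (2, 4), (3, 4)]

/-- The transposition of a pair. -/
def pk (k : Fin 10) : P5 := Equiv.swap (pr k).1 (pr k).2

/-- Disjoint pairs. -/
def disj (k l : Fin 10) : Bool :=
  decide ((pr k).1 ≠ (pr l).1 ∧ (pr k).1 ≠ (pr l).2 ∧ (pr k).2 ≠ (pr l).1 ∧ (pr k).2 ≠ (pr l).2)

theorem pr_facts : (∀ i j : Fin 5, i ≠ j → ∃ k, pk k = Equiv.swap i j) ∧
    (∀ k, (pr k).1 ≠ (pr k).2) ∧ (∀ k l, pk k = pk l → k = l) ∧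
    ∀ k l, disj k l = true ↔ (pk k * pk l = pk l * pk k ∧ pk l ≠ pk k) := by decide +kernel

theorem six_pairs : ∀ T ∈ (Finset.univ : Finset (Fin 10)).powersetCard 6,
    (∀ k ∈ T, (T.filter fun l => disj k l).card = 1) →
    ∃ p : Fin 5, ∀ k, k ∈ T ↔ ((pr k).1 ≠ p ∧ (pr k).2 ≠ p) := by decide +kernel

theorem pr_conj : ∀ p : Fin 5,
    ((∃ k, pk k = Equiv.swap 0 p * Equiv.swap 0 1 * (Equiv.swap 0 p)⁻¹ ∧ ¬ ((pr k).1 ≠ p ∧ (pr k).2 ≠ p)) ∧
    (∃ k, pk k = Equiv.swap 0 p * Equiv.swap 1 2 * (Equiv.swap 0 p)⁻¹ ∧ (pr k).1 ≠ p ∧ (pr k).2 ≠ p)) ∧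
    (∃ k, pk k = Equiv.swap 0 p * Equiv.swap 2 3 * (Equiv.swap 0 p)⁻¹ ∧ (pr k).1 ≠ p ∧ (pr k).2 ≠ p) ∧
    (∃ k, pk k = Equiv.swap 0 p * Equiv.swap 3 4 * (Equiv.swap 0 p)⁻¹ ∧ (pr k).1 ≠ p ∧ (pr k).2 ≠ p) := by
  decide +kernel

theorem five_facts : (Equiv.swap (3 : Fin 5) 4 ≠ Equiv.swap 0 1 ∧ Equiv.swap (3 : Fin 5) 4 ≠ Equiv.swap 1 2 ∧
    Equiv.swap 0 1 * Equiv.swap 3 4 = Equiv.swap 3 4 * Equiv.swap (0 : Fin 5) 1 ∧
    Equiv.swap 1 2 * Equiv.swap 3 4 = Equiv.swap 3 4 * Equiv.swap (1 : Fin 5) 2) ∧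
    (¬ (Equiv.swap 1 2 * Equiv.swap 0 1 = Equiv.swap 0 1 * Equiv.swap (1 : Fin 5) 2) ∧
    ¬ (Equiv.swap 2 3 * Equiv.swap 1 2 = Equiv.swap 1 2 * Equiv.swap (2 : Fin 5) 3) ∧
    ¬ (Equiv.swap 3 4 * Equiv.swap 2 3 = Equiv.swap 2 3 * Equiv.swap (3 : Fin 5) 4)) ∧
    (Equiv.swap 0 1 * Equiv.swap 2 3 = Equiv.swap 2 3 * Equiv.swap (0 : Fin 5) 1 ∧
    Equiv.swap (0 : Fin 5) 1 ≠ Equiv.swap 2 3) := by decide +kernel

theorem seven_last : ∀ i j : Fin 7, i ≠ j →
    ¬ (Equiv.swap 0 1 * Equiv.swap i j = Equiv.swap i j * Equiv.swap (0 : Fin 7) 1) →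
    Equiv.swap 3 4 * Equiv.swap i j = Equiv.swap i j * Equiv.swap (3 : Fin 7) 4 →
    Equiv.swap 4 5 * Equiv.swap i j = Equiv.swap i j * Equiv.swap (4 : Fin 7) 5 →
    Equiv.swap 5 6 * Equiv.swap i j = Equiv.swap i j * Equiv.swap (5 : Fin 7) 6 →
    Equiv.swap i j = Equiv.swap 1 2 ∨ Equiv.swap i j = Equiv.swap 0 2 := by decide +kernel

/-- The twenty-one pairs of seven points. -/
theorem seven_facts : (Equiv.swap (0 : Fin 7) 1 * Equiv.swap 1 2 * (Equiv.swap 0 1)⁻¹ = Equiv.swap 0 2) ∧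
    ((Finset.univ.filter fun p : Fin 7 × Fin 7 => p.1 < p.2).card = 21 ∧
      ∀ p q : Fin 7 × Fin 7, p.1 < p.2 → q.1 < q.2 → Equiv.swap p.1 p.2 = Equiv.swap q.1 q.2 → p = q) := by
  decide +kernel

/-- The conclusions at a subgroup of order five. -/
structure Good (D : Set G) (X : Subgroup G) : Prop where
  num : (Five.fx D X).ncard = 21
  near : ∀ x ∈ Five.fx D X, (Five.nr D X x).ncard = 10
  sub : ∀ x ∈ Five.fx D X, ∀ b ∈ Five.nr D X x, (Five.nr D X x ∩ Ds D b).ncard = 3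
  cent : Nat.card ↥(Subgroup.centralizer (X : Set G)) = 25200
  norm : Nat.card ↥(Subgroup.normalizer (X : Set G)) = 100800
  product : ∃ E : Subgroup G, Nat.card E = 20 ∧ X ≤ E ∧ E ⊓ Subgroup.centralizer (X : Set G) = X ∧
      E ⊓ Subgroup.closure (Five.fx D X) = ⊥ ∧ (∀ x ∈ E, ∀ y ∈ Subgroup.closure (Five.fx D X), x * y = y * x) ∧
      E ⊔ Subgroup.closure (Five.fx D X) = Subgroup.normalizer (X : Set G)
  model : ∃ φ : P7 →* G, Function.Injective φ ∧ φ.range = Subgroup.closure (Five.fx D X) ∧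
      (∀ i j : Fin 7, i ≠ j → φ (Equiv.swap i j) ∈ Five.fx D X) ∧
      ∀ y ∈ Five.fx D X, ∃ i j : Fin 7, i ≠ j ∧ φ (Equiv.swap i j) = y

set_option maxHeartbeats 1000000 in
/-- Every subgroup of order five centralises twenty-one transpositions. -/
theorem five_level (hG : IsThreeTranspositionGroup D) (hp : IsPrimitiveUnderConj D) (h23 : IsOfTypeM23 G D)
    (B : Base D) :
    (∀ X Y : Subgroup G, Nat.card X = 5 → Nat.card Y = 5 → ∃ g : G, X.map (MulAut.conj g).toMonoidHom = Y) ∧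
      ∀ X : Subgroup G, Nat.card X = 5 → Good D X := by
  classical
  haveI : Fact (Nat.Prime 5) := ⟨by norm_num⟩
  haveI : Fintype G := Fintype.ofFinite G
  have hD := cls_of_group_prim hG hp
  have hCe : Subgroup.centralizer ({B.t} : Set G) = Hs D B.t :=
    M23.centralizer_eq hD hp h23.1 B hG h23 B.ht
  set C := Subgroup.centralizer ({B.t} : Set G) with hC
  set q : C →* Qt D B.t := (qt D B.t).comp (MulEquiv.subgroupCongr hCe).toMonoidHom with hq
  have hqv : ∀ y : C, q y = bar D B.t y := fun y =>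
    (bar_eq (MulEquiv.subgroupCongr hCe y)).symm
  have hin : ∀ y : C, (y : G) ∈ Hs D B.t := fun y => hCe ▸ y.2
  have h22 := M22.FiveNorm.five_level B.cls B.prim (local_of_M22 B.ty) B.ty.1 B.A
  obtain ⟨hconj, -, hat⟩ := Five.step True (E := Et D B.t) (k := 10) (j := 3) (c := 600) (n := 31671) (m := 3510)
    (a := 64561751654400) hD hp (M23.has_pair hD B) B.ht hC q (by
      intro z
      obtain ⟨x, hx⟩ := QuotientGroup.mk'_surjective _ z
      exact ⟨⟨x, hCe.symm ▸ x.2⟩, hx⟩)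
    (fun z hz => ker_cases hD hp h23.1 B (hin z) ((hqv z).symm.trans hz))
    (fun z hz => by
      rw [hqv]
      set T : ↥(Hs D B.t) := ⟨B.t, hz ▸ hin z⟩
      rw [hz, show B.t = (T : G) from rfl, bar_eq]
      refine (QuotientGroup.eq_one_iff T).mpr ?_
      rw [M23.center_closure hD hp h23.1 B hG h23 B.ht]
      exact Subgroup.mem_zpowers B.t)
    (by
      ext e
      constructor
      · rintro ⟨x, hx, rfl⟩
        exact ⟨⟨x, hCe.symm ▸ x.2⟩, hx, rfl⟩
      · rintro ⟨y, hy, rfl⟩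
        rw [hqv]
        exact bar_mem hD B hy)
    (fun y hy y' hy' e => by
      rw [hqv, hqv] at e
      exact Subtype.ext (bar_inj hD B hy hy' e))
    (fun y y' hy hy' e => by
      rw [hqv, hqv] at e
      exact (bar_commute hD B hy hy').mp e)
    (M23.params hD hp B).1 (M23.ncard_Ds hD B B.ht) (card_quot hG hp h23 B) (by norm_num) (fun _ => by norm_num) h22.1
    (fun Y hY => by
      have hg := h22.2 Y hY
      refine ⟨hg.num, hg.cent, by rw [hg.norm], fun b hb => ?_, fun h4 => absurd h4 (by norm_num)⟩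
      have e : Five.fx (Et D B.t) Y ∩ Ds (Et D B.t) b = Five.nr (Et D B.t) Y b := rfl
      exact ⟨by rw [e, hg.near b hb], fun _ x hx y hy => hg.nc b hb x (e ▸ hx) y (e ▸ hy)⟩)
  have hall5 : ∀ X : Subgroup G, Nat.card X = 5 → (Five.fx D X).Nonempty := by
    intro X hX
    letI : MulAction X D :=
      { smul := fun x y => ⟨x * y * (x : G)⁻¹, cls_conj hD _ y.2⟩
        one_smul := fun y => Subtype.ext (by show (1 : G) * y * (1 : G)⁻¹ = y; simp)
        mul_smul := fun x x' y => Subtype.ext (by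
          show ((x : G) * x') * y * ((x : G) * x')⁻¹ = x * (x' * y * (x' : G)⁻¹) * (x : G)⁻¹
          group) }
    have hPG : IsPGroup 5 X := IsPGroup.of_card (n := 1) (by rw [hX, pow_one])
    have hmod := hPG.card_modEq_card_fixedPoints D
    rw [Nat.card_coe_set_eq, (M23.params hD hp B).1] at hmod
    have hne : Nat.card (MulAction.fixedPoints X D) ≠ 0 := fun e => by
      rw [e] at hmod
      exact absurd hmod (by decide)
    obtain ⟨⟨y, hy⟩⟩ := (Nat.card_ne_zero.mp hne).1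
    exact ⟨y.1, y.2, Subgroup.mem_centralizer_iff.mpr fun x hx =>
      mul_inv_eq_iff_eq_mul.mp (congrArg Subtype.val (hy ⟨x, hx⟩))⟩
  refine ⟨fun X Y hX hY => hconj X Y hX hY (hall5 X hX) (hall5 Y hY), fun X hX => ?_⟩
  obtain ⟨s, hs⟩ := hall5 X hX
  set S := Five.fx D X with hSdef
  have hall : ∀ x ∈ S, Five.At D X x 10 3 600 ((31671 - 1 - 3510) % 5) True := hat X hX
  have hVX : Subgroup.closure S ≤ Subgroup.centralizer (X : Set G) := (Subgroup.closure_le _).mpr fun y hy => hy.2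
  have hVN : Subgroup.closure S ≤ Subgroup.normalizer (X : Set G) := hVX.trans (Subgroup.centralizer_le_normalizer _)
  have hst : ∀ g ∈ Subgroup.normalizer (X : Set G), ∀ x ∈ S, g * x * g⁻¹ ∈ S := fun g hg x hx =>
    M22.FiveNorm.fx_stable hD hg hx
  have hcS : ∀ x ∈ S, ∀ y ∈ S, x * y * x⁻¹ ∈ S := fun x hx =>
    hst x (hVN (Subgroup.subset_closure hx))
  set nr : G → Set G := Five.nr D X with hnr
  have hsymm : ∀ {x y}, x ∈ S → y ∈ nr x → x ∈ nr y := fun hx hy => ⟨hx, hx.1, hy.2.2.1.symm, hy.2.2.2.symm⟩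
  have hnrS : ∀ x, ∀ y ∈ nr x, y ∈ S := fun x y hy => hy.1
  have hncl : ∀ x ∈ S, ∀ y ∈ nr x, ∀ z ∈ nr x, y * z * y⁻¹ ∈ nr x := fun x hx y hy z hz =>
    ⟨hcS y hy.1 z hz.1, M22.cj_mem_Ds hD hz.2 (mul_inv_eq_iff_eq_mul.mpr hy.2.2.2.eq.symm)⟩
  have hmod : ∀ x ∈ S, ∃ φ : P5 →* G, Function.Injective φ ∧ φ.range = Subgroup.closure (nr x) ∧
      (∀ i j : Fin 5, i ≠ j → φ (Equiv.swap i j) ∈ nr x) ∧
      (∀ y ∈ nr x, ∃ i j : Fin 5, i ≠ j ∧ φ (Equiv.swap i j) = y) ∧
      (∀ H : Subgroup G, Subgroup.closure (nr x) ≤ H → (∀ k ∈ H, ∀ y ∈ nr x, k * y * k⁻¹ ∈ nr x) →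
        Nat.card H = 120 * Nat.card ↥(H ⊓ Subgroup.centralizer (nr x))) ∧
      ∀ H : Subgroup G, Subgroup.closure (nr x) ≤ H → (∀ k ∈ H, ∀ y ∈ nr x, k * y * k⁻¹ ∈ nr x) → ∀ y ∈ nr x,
        Nat.card ↥(H ⊓ Subgroup.centralizer ({y} : Set G)) = 12 * Nat.card ↥(H ⊓ Subgroup.centralizer (nr x)) :=
    fun x hx => Petersen.main hD.1 (fun y hy => hy.1.1) (hncl x hx) (hall x hx).near (hall x hx).sub ((hall x hx).nc (by norm_num))
  set W := {y | y ∈ S ∧ ¬ Commute s y} with hWdef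
  have hWb : ∀ b ∈ nr s, (W ∩ nr b).ncard = 6 := by
    intro b hb
    have e : W ∩ nr b = nr b \ insert s (nr b ∩ Ds D s) := by
      ext y
      refine ⟨fun h => ⟨h.2, ?_⟩, fun h => ⟨⟨h.1.1, fun hc => h.2 ?_⟩, h.1⟩⟩
      · rintro (e | h')
        · exact h.1.2 (by rw [e])
        · exact h.1.2 h'.2.2.2
      · by_cases e : y = s
        · exact Or.inl e
        · exact Or.inr ⟨h.1, h.1.1.1, e, hc⟩
    rw [e, Set.ncard_diff (Set.insert_subset (hsymm hs hb) fun y hy => hy.1),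
      Set.ncard_insert_of_notMem (fun h => h.2.2.1 rfl), (hall b hb.1).near, (hall b hb.1).sub s (hsymm hs hb)]
  -- one common neighbour inside each triple
  have hone : ∀ a ∈ W, ∀ b ∈ nr s ∩ nr a, ((nr s ∩ nr a) ∩ Ds D b).ncard = 1 := by
    intro a ha b hb
    obtain ⟨φ, hφ, -, hsw, hsurj, -, -⟩ := hmod b hb.1.1
    have hsb : s ∈ nr b := hsymm hs hb.1
    have hab : a ∈ nr b := hsymm ha.1 hb.2
    obtain ⟨i, j, hij, es⟩ := hsurj s hsb
    obtain ⟨σ, hσ⟩ := Petersen.perm_pair i j hij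
    obtain ⟨k, l, hkl, ea⟩ := hsurj a hab
    have hq : σ⁻¹ * Equiv.swap k l * σ = Equiv.swap (σ⁻¹ k) (σ⁻¹ l) := by
      rw [Equiv.swap_apply_apply, inv_inv]
    obtain ⟨ρ, hρ1, hρ2⟩ := Petersen.perm_far (σ⁻¹ k) (σ⁻¹ l) (fun e => hkl (σ⁻¹.injective e)) (fun e => ha.2 (by
      rw [← es, ← ea, ← hσ, show Equiv.swap k l = σ * (σ⁻¹ * Equiv.swap k l * σ) * σ⁻¹ by group, hq]
      exact ((commute_cj_iff σ).mpr (show Commute _ _ from e)).map φ))
    set τ := σ * ρ
    have t1 : φ (τ * Equiv.swap 0 1 * τ⁻¹) = s := by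
      rw [← es, ← hσ, show τ * Equiv.swap 0 1 * τ⁻¹ = σ * (ρ * Equiv.swap 0 1 * ρ⁻¹) * σ⁻¹ by simp [τ, mul_assoc],
        show ρ * Equiv.swap 0 1 * ρ⁻¹ = Equiv.swap 0 1 from mul_inv_eq_iff_eq_mul.mpr hρ1]
    have t2 : φ (τ * Equiv.swap 1 2 * τ⁻¹) = a := by
      rw [← ea, show τ * Equiv.swap 1 2 * τ⁻¹ = σ * (ρ * Equiv.swap 1 2 * ρ⁻¹) * σ⁻¹ by simp [τ, mul_assoc], hρ2, ← hq]
      congr 1
      group
    let ψ : P5 →* G := φ.comp (MulAut.conj τ).toMonoidHom
    have hψ : Function.Injective ψ := hφ.comp (MulAut.conj τ).injective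
    have hψsw : ∀ i j : Fin 5, i ≠ j → ψ (Equiv.swap i j) ∈ nr b := fun i j hij => by
      show φ (τ * Equiv.swap i j * τ⁻¹) ∈ _
      rw [← Equiv.swap_apply_apply]
      exact hsw _ _ fun e => hij (τ.injective e)
    obtain ⟨⟨n34s, n34a, c34s, c34a⟩, -, -⟩ := five_facts
    rw [Set.ncard_eq_one]
    refine ⟨ψ (Equiv.swap 3 4), Set.eq_singleton_iff_unique_mem.mpr ⟨?_, ?_⟩⟩
    · have hm := hψsw 3 4 (by decide)
      refine ⟨⟨⟨hm.1, hm.1.1, fun e => n34s (hψ (e.trans t1.symm)), ?_⟩,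
        ⟨hm.1, hm.1.1, fun e => n34a (hψ (e.trans t2.symm)), ?_⟩⟩, hm.2⟩
      · rw [← t1]; exact (show Commute _ _ from c34s).map ψ
      · rw [← t2]; exact (show Commute _ _ from c34a).map ψ
    · rintro y ⟨⟨hys, hya⟩, hyb⟩
      obtain ⟨i', j', hij', e⟩ := hsurj y ⟨hys.1, hyb⟩
      have e2 : ψ (Equiv.swap (τ⁻¹ i') (τ⁻¹ j')) = y := by
        show φ (τ * _ * τ⁻¹) = y
        rw [Equiv.swap_apply_apply, inv_inv, ← e]
        congr 1
        group
      rw [← e2, Petersen.perm_last _ _ (fun h => hij' (τ⁻¹.injective h))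
        (fun h => hys.2.2.1 (by rw [← e2, h]; exact t1))
        (hψ (by rw [map_mul, map_mul, e2, show ψ (Equiv.swap 0 1) = s from t1]; exact hys.2.2.2.eq))
        (hψ (by rw [map_mul, map_mul, e2, show ψ (Equiv.swap 1 2) = a from t2]; exact hya.2.2.2.eq))]
  obtain ⟨b0, hb0⟩ : (nr s).Nonempty := Set.nonempty_of_ncard_ne_zero (by rw [(hall s hs).near]; norm_num)
  obtain ⟨a, haW, ha0⟩ : (W ∩ nr b0).Nonempty := Set.nonempty_of_ncard_ne_zero (by rw [hWb b0 hb0]; norm_num)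
  set M := nr s ∩ nr a with hMdef
  have hb0M : b0 ∈ M := ⟨hb0, hsymm hb0.1 ha0⟩
  have hMc : ∀ y ∈ W, (nr s ∩ nr y).ncard = M.ncard := by
    intro y hy
    obtain ⟨g, ⟨hgN, hgs⟩, rfl⟩ := (hall s hs).farTrans trivial a haW y hy
    have hgs' : g * s * g⁻¹ = s := M22.mem_cent.mp hgs
    have key : ∀ (g : G), g ∈ Subgroup.normalizer (X : Set G) → ∀ x : G,
        (fun z => g * z * g⁻¹) '' nr x ⊆ nr (g * x * g⁻¹) := by
      rintro g hg x _ ⟨z, hz, rfl⟩
      exact ⟨hst g hg z hz.1, cls_conj hD g hz.2.1, fun e => hz.2.2.1 (cj_injective g e),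
        (commute_cj_iff g).mpr hz.2.2.2⟩
    have hnrc : ∀ x ∈ S, nr (g * x * g⁻¹) = (fun z => g * z * g⁻¹) '' nr x := fun x hx =>
      (Set.eq_of_subset_of_ncard_le (key g hgN x) (by
        rw [Set.ncard_image_of_injective _ (cj_injective g), (hall x hx).near, (hall _ (hst g hgN x hx)).near])).symm
    conv_lhs => rw [← hgs']
    rw [hnrc s hs, hnrc a haW.1, ← Set.image_inter (cj_injective g), Set.ncard_image_of_injective _ (cj_injective g)]
  have hdc : W.ncard * M.ncard = 60 := by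
    have e := Finset.sum_card_bipartiteAbove_eq_sum_card_bipartiteBelow (fun y b : G => b ∈ nr y)
      (s := W.toFinset) (t := (nr s).toFinset)
    rw [Finset.sum_congr rfl (g := fun _ => M.ncard) (fun y hy => ?_),
      Finset.sum_congr rfl (s₁ := (nr s).toFinset) (g := fun _ => 6) (fun b hb => ?_),
      Finset.sum_const, Finset.sum_const, smul_eq_mul, smul_eq_mul,
      ← Set.ncard_eq_toFinset_card' W, ← Set.ncard_eq_toFinset_card' (nr s), (hall s hs).near] at e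
    · exact e
    · rw [← hWb b (Set.mem_toFinset.mp hb), ← Set.ncard_coe_finset]
      congr 1
      ext y
      simp only [Finset.bipartiteBelow, Finset.coe_filter, Set.mem_ofPred_eq, Set.mem_toFinset, Set.mem_inter_iff]
      exact ⟨fun h => ⟨h.1, hsymm h.1.1 h.2⟩, fun h => ⟨h.1, hsymm (hnrS _ _ (Set.mem_toFinset.mp hb)) h.2⟩⟩
    · rw [← hMc y (Set.mem_toFinset.mp hy), ← Set.ncard_coe_finset]
      congr 1
      ext b
      simp [Finset.bipartiteAbove]
  have hf : W.ncard = 10 := by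
    obtain ⟨b1, hb1⟩ := Set.ncard_eq_one.mp (hone a haW b0 hb0M)
    have hb1M : b1 ∈ M ∩ Ds D b0 := hb1.symm ▸ Set.mem_singleton b1
    have h2 : 2 ≤ M.ncard := by
      refine (Set.one_lt_ncard (Set.toFinite _)).mpr ⟨b0, hb0M, b1, hb1M.1, hb1M.2.2.1.symm⟩
    have h10 : M.ncard ≤ 10 := (hall s hs).near ▸ Set.ncard_le_ncard Set.inter_subset_left (Set.toFinite _)
    have heven : 2 ∣ W.ncard := by
      haveI : Fact (Nat.Prime 2) := ⟨by norm_num⟩
      let f : Function.End W := fun y => ⟨s * y.1 * s⁻¹, hcS s hs _ y.2.1, fun h => y.2.2 ((commute_cj_iff s).mp (by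
        rwa [show s * s * s⁻¹ = s by group]))⟩
      have hf : f^[2 ^ 1] = id := funext fun y => Subtype.ext (by
        show s * (s * y.1 * s⁻¹) * s⁻¹ = y.1
        rw [cj_cj, mul_self hD.1 hs.1]; group)
      have hm := Equiv.Perm.card_fixedPoints_modEq (f := f) hf
      haveI : IsEmpty (Function.fixedPoints f) := ⟨fun y => y.1.2.2 (mul_inv_eq_iff_eq_mul.mp (congrArg Subtype.val y.2))⟩
      rw [Fintype.card_eq_zero (α := Function.fixedPoints f), ← Nat.card_eq_fintype_card, Nat.card_coe_set_eq] at hm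
      exact Nat.modEq_zero_iff_dvd.mp hm
    have hdvd : (1 + 10 + W.ncard) * 4800 ∣ Nat.card G := by
      have hsplit : S = insert s (nr s) ∪ W := by
        ext y
        refine ⟨fun hy => ?_, ?_⟩
        · by_cases e : y = s
          · exact Or.inl (Or.inl e)
          by_cases hc : Commute s y
          · exact Or.inl (Or.inr ⟨hy, hy.1, e, hc⟩)
          · exact Or.inr ⟨hy, hc⟩
        · rintro ((rfl | h) | h)
          exacts [hs, h.1, h.1]
      have hT : S.ncard = 1 + 10 + W.ncard := by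
        rw [hsplit, Set.ncard_union_eq ?_, Set.ncard_insert_of_notMem (fun h => h.2.2.1 rfl), (hall s hs).near]
        rw [Set.disjoint_left]
        rintro y (rfl | h) h'
        exacts [h'.2 (Commute.refl _), h'.2 h.2.2.2]
      have step1 : ∀ x ∈ S, ∀ y ∈ S, ¬ Commute x y → ∃ v ∈ Subgroup.normalizer (X : Set G), v * x * v⁻¹ = y := by
        intro x hx y hy hxy
        refine ⟨x * y, mul_mem (hVN (Subgroup.subset_closure hx)) (hVN (Subgroup.subset_closure hy)), ?_⟩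
        have hbr := braid hD.1 hx.1 hy.1 hxy
        have hxx := mul_self hD.1 hx.1
        rw [mul_inv_rev, inv_self hD.1 hx.1, inv_self hD.1 hy.1]
        calc x * y * x * (y * x) = x * (y * x * y) * x := by group
          _ = x * (x * y * x) * x := by rw [hbr]
          _ = (x * x) * y * (x * x) := by group
          _ = y := by rw [hxx, one_mul, mul_one]
      have htr : ∀ y ∈ S, ∃ v ∈ Subgroup.normalizer (X : Set G), v * s * v⁻¹ = y := by
        intro y hy
        rw [hsplit] at hy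
        rcases hy with (e | hy) | hy
        · exact ⟨1, one_mem _, by rw [e]; simp⟩
        · obtain ⟨c, hc, hcy⟩ : ∃ c ∈ W, ¬ Commute c y := by
            by_contra hcon
            push Not at hcon
            have hsubW : W ⊆ W ∩ nr y := fun c hc => ⟨hc, hc.1, hc.1.1, fun e => hc.2 (by rw [e]; exact hy.2.2.2),
              (hcon c hc).symm⟩
            have h6 := Set.ncard_le_ncard hsubW (Set.toFinite _)
            rw [hWb y hy] at h6
            have : W.ncard * M.ncard ≤ 6 * M.ncard := Nat.mul_le_mul_right _ h6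
            rw [hdc] at this
            have hr : W.ncard % 5 = 0 := (hall s hs).far
            interval_cases hw : W.ncard <;> omega
          obtain ⟨v, hv, e⟩ := step1 s hs c hc.1 hc.2
          obtain ⟨v', hv', e'⟩ := step1 c hc.1 y hy.1 hcy
          exact ⟨v' * v, mul_mem hv' hv, by rw [← cj_cj, e, e']⟩
        · exact step1 s hs y hy.1 hy.2
      have hN := M22.card_orbit_stab (Subgroup.normalizer (X : Set G)) s S (fun k hk => hst k hk s hs) htr
      rw [(hall s hs).norm, hT] at hN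
      have h := Subgroup.card_subgroup_dvd_card (Subgroup.normalizer (X : Set G))
      rw [hN] at h
      exact h
    rw [M23.card_group hG hp h23 B] at hdvd
    have hfd : W.ncard ∣ 60 := Dvd.intro _ hdc
    have hf30 : W.ncard ≤ 30 := by
      have := Nat.mul_le_mul_left W.ncard h2
      omega
    have hr : W.ncard % 5 = 0 := (hall s hs).far
    generalize W.ncard = f at hdc hfd hf30 hr heven hdvd ⊢
    interval_cases f <;> first | rfl | omega | (norm_num at hfd) | (norm_num at hdvd)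
  have hM6 : M.ncard = 6 := by rw [hf] at hdc; omega
  -- the six pairs
  obtain ⟨φs, hφs, hrs, hsws, hsurjs, hcs, -⟩ := hmod s hs
  obtain ⟨hpk, hpr, hpinj, hdisj⟩ := pr_facts
  have hpkS : ∀ k, φs (pk k) ∈ nr s := fun k => hsws _ _ (hpr k)
  have hpksur : ∀ y ∈ nr s, ∃ k, φs (pk k) = y := fun y hy => by
    obtain ⟨i, j, hij, e⟩ := hsurjs y hy
    obtain ⟨k, hk⟩ := hpk i j hij
    exact ⟨k, by rw [hk, e]⟩
  have hφk : Function.Injective fun k => φs (pk k) := fun k l e => hpinj k l (hφs e)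
  let T : Finset (Fin 10) := Finset.univ.filter fun k => φs (pk k) ∈ M
  have hTM : ∀ (U : Finset (Fin 10)) (A : Set G), (∀ k, k ∈ U ↔ φs (pk k) ∈ A) → A ⊆ nr s → U.card = A.ncard := by
    intro U A hU hA
    rw [← Set.ncard_coe_finset, ← Set.ncard_image_of_injective _ hφk]
    congr 1
    ext y
    refine ⟨?_, fun hy => ?_⟩
    · rintro ⟨k, hk, rfl⟩
      exact (hU k).mp hk
    · obtain ⟨k, rfl⟩ := hpksur y (hA hy)
      exact ⟨k, (hU k).mpr hy, rfl⟩
  obtain ⟨p, hp'⟩ := six_pairs T (Finset.mem_powersetCard.mpr ⟨Finset.subset_univ _,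
      (hTM T M (fun k => by simp [T]) Set.inter_subset_left).trans hM6⟩) (fun k hk => by
      have hkM : φs (pk k) ∈ M := (Finset.mem_filter.mp hk).2
      refine (hTM _ (M ∩ Ds D (φs (pk k))) (fun l => ?_) fun y hy => hy.1.1).trans (hone a haW _ hkM)
      rw [Finset.mem_filter, hdisj]
      constructor
      · rintro ⟨hl, hc, hne⟩
        exact ⟨(Finset.mem_filter.mp hl).2, (hpkS l).1.1, fun e => hne (hφs e), (show Commute _ _ from hc).map φs⟩
      · rintro ⟨hl, -, hne, hc⟩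
        exact ⟨Finset.mem_filter.mpr ⟨Finset.mem_univ _, hl⟩, hφs (by rw [map_mul, map_mul]; exact hc.eq),
          fun e => hne (by rw [e])⟩)
  set π := Equiv.swap (0 : Fin 5) p
  let ψ : P5 →* G := φs.comp (MulAut.conj π).toMonoidHom
  have hψ : Function.Injective ψ := hφs.comp (MulAut.conj π).injective
  have hψv : ∀ σ, ψ σ = φs (π * σ * π⁻¹) := fun σ => rfl
  have hψsw : ∀ i j : Fin 5, i ≠ j → ψ (Equiv.swap i j) ∈ nr s := fun i j hij => by
    rw [hψv, ← Equiv.swap_apply_apply]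
    exact hsws _ _ fun e => hij (π.injective e)
  have hψM : ∀ σ k, pk k = π * σ * π⁻¹ → (ψ σ ∈ M ↔ (pr k).1 ≠ p ∧ (pr k).2 ≠ p) := fun σ k e => by
    rw [hψv, ← e, ← hp' k]
    simp [T]
  obtain ⟨⟨⟨k0, q0, nk0⟩, ⟨k1, q1, hk1⟩⟩, ⟨k2, q2, hk2⟩, ⟨k3, q3, hk3⟩⟩ := pr_conj p
  set b := ψ (Equiv.swap 0 1)
  set c := ψ (Equiv.swap 1 2)
  set e := ψ (Equiv.swap 2 3)
  set g := ψ (Equiv.swap 3 4)
  have hb : b ∈ nr s := hψsw 0 1 (by decide)
  have hc : c ∈ M := (hψM _ k1 q1).mpr hk1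
  have he : e ∈ M := (hψM _ k2 q2).mpr hk2
  have hg : g ∈ M := (hψM _ k3 q3).mpr hk3
  have nsa : ¬ Commute s a := haW.2
  have nab : ¬ Commute a b := fun h => nk0 ((hψM _ k0 q0).mp ⟨hb, hb.1, hb.1.1,
    fun e => nsa (e ▸ hb.2.2.2), h⟩)
  obtain ⟨⟨-, -, c34b, c34c⟩, ⟨n10, n21, n32⟩, c02, -⟩ := five_facts
  have hmapc : ∀ {σ τ : P5}, σ * τ = τ * σ → Commute (ψ σ) (ψ τ) := fun h => (show Commute _ _ from h).map ψ
  have hmapn : ∀ {σ τ : P5}, ¬ σ * τ = τ * σ → ¬ Commute (ψ τ) (ψ σ) := fun h h' =>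
    h (hψ (by rw [map_mul, map_mul]; exact h'.symm.eq))
  obtain ⟨φ, hφ, hgen, hrange0⟩ := SymChain.exists_hom_chain 6 (by norm_num) hD.1 ![s, a, b, c, e, g]
    (by intro i; fin_cases i <;> first | exact hs.1 | exact haW.1.1 | exact hb.1.1 | exact hc.1.1.1 | exact he.1.1.1 | exact hg.1.1.1)
    (by
      intro i j hij
      fin_cases i <;> fin_cases j <;> simp at hij ⊢ <;> first
        | exact hb.2.2.2 | exact hc.1.2.2.2 | exact he.1.2.2.2 | exact hg.1.2.2.2
        | exact hc.2.2.2.2 | exact he.2.2.2.2 | exact hg.2.2.2.2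
        | exact hmapc c02 | exact hmapc c34b | exact hmapc c34c)
    (by
      intro i j hij
      fin_cases i <;> fin_cases j <;> simp at hij ⊢ <;> first
        | exact nsa | exact nab | exact hmapn n10 | exact hmapn n21 | exact hmapn n32)
    (fun e' => hb.2.2.1 (by simpa using e'.symm))
  have hgV : ∀ i, (![s, a, b, c, e, g] : Fin 6 → G) i ∈ S := by
    intro i; fin_cases i <;> first | exact hs | exact haW.1 | exact hb.1 | exact hc.1.1 | exact he.1.1 | exact hg.1.1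
  set V := Subgroup.closure S
  have hrV : φ.range ≤ V := by
    rw [hrange0, Subgroup.closure_le]
    rintro x ⟨i, rfl⟩
    exact Subgroup.subset_closure (hgV i)
  have f0 : φ (Equiv.swap 0 1) = s := hgen 0
  have f1 : φ (Equiv.swap 1 2) = a := hgen 1
  have f2 : φ (Equiv.swap 2 3) = b := hgen 2
  have f3 : φ (Equiv.swap 3 4) = c := hgen 3
  have f4 : φ (Equiv.swap 4 5) = e := hgen 4
  have f5 : φ (Equiv.swap 5 6) = g := hgen 5
  have hsw : ∀ i j : Fin 7, i ≠ j → φ (Equiv.swap i j) ∈ S := by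
    intro i j hij
    obtain ⟨σ, hσ⟩ := SymChain.pair_conj i j hij
    rw [← hσ, map_mul, map_mul, map_inv, f0]
    exact hst _ (hVN (hrV ⟨σ, rfl⟩)) s hs
  have hnum : S.ncard = 21 := by
    have hsplit : S = insert s (nr s) ∪ W := by
      ext y
      refine ⟨fun hy => ?_, ?_⟩
      · by_cases e : y = s
        · exact Or.inl (Or.inl e)
        by_cases hc : Commute s y
        · exact Or.inl (Or.inr ⟨hy, hy.1, e, hc⟩)
        · exact Or.inr ⟨hy, hc⟩
      · rintro ((rfl | h) | h)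
        exacts [hs, h.1, h.1]
    rw [hsplit, Set.ncard_union_eq ?_, Set.ncard_insert_of_notMem (fun h => h.2.2.1 rfl), hf, (hall s hs).near]
    rw [Set.disjoint_left]
    rintro y (rfl | h) h'
    exacts [h'.2 (Commute.refl _), h'.2 h.2.2.2]
  obtain ⟨h02, h21, hinj21⟩ := seven_facts
  have hsurj : ∀ y ∈ S, ∃ i j : Fin 7, i ≠ j ∧ φ (Equiv.swap i j) = y := by
    let Pf := Finset.univ.filter fun p : Fin 7 × Fin 7 => p.1 < p.2
    have e : (fun p : Fin 7 × Fin 7 => φ (Equiv.swap p.1 p.2)) '' ↑Pf = S := by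
      refine Set.eq_of_subset_of_ncard_le ?_ ?_
      · rintro _ ⟨p, hp, rfl⟩
        exact hsw _ _ (ne_of_lt (Finset.mem_filter.mp hp).2)
      · rw [Set.InjOn.ncard_image ?_, Set.ncard_coe_finset, h21, hnum]
        intro p hp p' hp' e
        exact hinj21 p p' (Finset.mem_filter.mp hp).2 (Finset.mem_filter.mp hp').2 (hφ e)
    intro y hy
    rw [← e] at hy
    obtain ⟨p, hp, rfl⟩ := hy
    exact ⟨_, _, ne_of_lt (Finset.mem_filter.mp hp).2, rfl⟩
  have hrange : φ.range = V := le_antisymm hrV ((Subgroup.closure_le _).mpr fun y hy => by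
    obtain ⟨i, j, -, e⟩ := hsurj y hy
    exact ⟨_, e⟩)
  have hcount : ∀ H : Subgroup G, V ≤ H → H ≤ Subgroup.normalizer (X : Set G) →
      Nat.card H = 21 * Nat.card ↥(H ⊓ Subgroup.centralizer ({s} : Set G)) ∧
      Nat.card ↥(H ⊓ Subgroup.centralizer ({s} : Set G)) = 240 * Nat.card ↥(H ⊓ Subgroup.centralizer S) := by
    intro H hVH hHN
    refine ⟨hnum ▸ M22.card_orbit_stab H s S (fun k hk => hst k (hHN hk) s hs) (fun y hy => by
      obtain ⟨i, j, hij, rfl⟩ := hsurj y hy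
      obtain ⟨σ, hσ⟩ := SymChain.pair_conj i j hij
      exact ⟨φ σ, hVH (hrV ⟨σ, rfl⟩), by rw [← hσ, map_mul, map_mul, map_inv, f0]⟩), ?_⟩
    set H1 := H ⊓ Subgroup.centralizer ({s} : Set G)
    have e1 := hcs H1 ((Subgroup.closure_le _).mpr fun y hy => ⟨hVH (Subgroup.subset_closure hy.1),
        Subgroup.mem_centralizer_singleton_iff.mpr hy.2.2.2.symm.eq⟩)
      fun k hk y hy => ⟨hst k (hHN hk.1) y hy.1, M22.cj_mem_Ds hD hy.2 (M22.mem_cent.mp hk.2)⟩
    set H2 := H1 ⊓ Subgroup.centralizer (nr s)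
    have hH2 : ∀ k ∈ H2, ∀ y ∈ nr s, k * y * k⁻¹ = y := fun k hk y hy =>
      mul_inv_eq_iff_eq_mul.mpr (Subgroup.mem_centralizer_iff.mp hk.2 y hy).symm
    set a' := φ (Equiv.swap 0 2)
    have haa' : a ≠ a' := by
      rw [← f1]
      intro h
      exact absurd (hφ h) (by decide +kernel)
    have e2 := M22.card_orbit_stab H2 a {a, a'} (fun k hk => by
      obtain ⟨i, j, hij, hy⟩ := hsurj _ (hst k (hHN hk.1.1) a haW.1)
      rw [← hy]
      have ks : k * s * k⁻¹ = s := M22.mem_cent.mp hk.1.2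
      have hmc : ∀ {x σ}, φ σ = x → x ∈ M → σ * Equiv.swap i j = Equiv.swap i j * σ := by
        intro x σ ex hx
        refine hφ ?_
        rw [map_mul, map_mul, ex, hy]
        have h := (commute_cj_iff k).mpr hx.2.2.2.2
        rw [hH2 k hk x hx.1] at h
        exact h.symm.eq
      have hn : ¬ (Equiv.swap 0 1 * Equiv.swap i j = Equiv.swap i j * Equiv.swap (0 : Fin 7) 1) := fun h => nsa (by
        refine (commute_cj_iff k).mp ?_
        rw [ks, ← hy, ← f0]
        exact (show Commute _ _ from h).map φ)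
      rcases seven_last i j hij hn (hmc f3 hc) (hmc f4 he) (hmc f5 hg) with h | h
      · exact Or.inl (by rw [h, f1])
      · exact Or.inr (by rw [h]; rfl)) (fun y hy => by
      rcases hy with rfl | rfl
      · exact ⟨1, one_mem _, by simp⟩
      · refine ⟨s, ⟨⟨hVH (Subgroup.subset_closure hs), Subgroup.mem_centralizer_singleton_iff.mpr rfl⟩,
          Subgroup.mem_centralizer_iff.mpr fun z hz => hz.2.2.2.symm.eq⟩, ?_⟩
        rw [← f0, ← f1, ← map_inv, ← map_mul, ← map_mul, h02])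
    rw [Set.ncard_pair haa'] at e2
    have hlast : H2 ⊓ Subgroup.centralizer ({a} : Set G) = H ⊓ Subgroup.centralizer S := by
      refine le_antisymm ?_ ?_
      · intro k hk
        refine ⟨hk.1.1.1, Subgroup.mem_centralizer_iff.mpr fun y hy => ?_⟩
        have hle : φ.range ≤ Subgroup.centralizer ({k} : Set G) := by
          rw [hrange0, Subgroup.closure_le]
          rintro x ⟨i, rfl⟩
          refine Subgroup.mem_centralizer_singleton_iff.mpr ?_
          have hks := Subgroup.mem_centralizer_singleton_iff.mp hk.1.1.2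
          have hka := Subgroup.mem_centralizer_singleton_iff.mp hk.2
          have hkn : ∀ z ∈ nr s, z * k = k * z := fun z hz => Subgroup.mem_centralizer_iff.mp hk.1.2 z hz
          fin_cases i
          exacts [hks.symm, hka.symm, hkn b hb, hkn c hc.1, hkn e he.1, hkn g hg.1]
        exact Subgroup.mem_centralizer_singleton_iff.mp (hle (hrange.symm ▸ Subgroup.subset_closure hy))
      · intro k hk
        have hcc : ∀ x ∈ S, k ∈ Subgroup.centralizer ({x} : Set G) := fun x hx =>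
          Subgroup.mem_centralizer_singleton_iff.mpr (Subgroup.mem_centralizer_iff.mp hk.2 x hx).symm
        exact ⟨⟨⟨hk.1, hcc s hs⟩, Subgroup.mem_centralizer_iff.mpr fun z hz =>
          Subgroup.mem_centralizer_iff.mp hk.2 z hz.1⟩, hcc a haW.1⟩
    rw [hlast] at e2
    rw [e1, e2]
    ring
  obtain ⟨c1, c2⟩ := hcount _ hVX (Subgroup.centralizer_le_normalizer _)
  obtain ⟨n1, n2⟩ := hcount _ hVN le_rfl
  rw [(hall s hs).cent] at c1 c2
  rw [(hall s hs).norm] at n1 n2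
  have hbot : X ⊓ V = ⊥ := by
    rw [eq_bot_iff]
    rintro x ⟨hx, hx'⟩
    rw [SetLike.mem_coe, ← hrange] at hx'
    obtain ⟨σ, rfl⟩ := hx'
    have : σ = 1 := SymChain.central_triv 6 (by norm_num) σ fun i => hφ (by
      rw [map_mul, map_mul]
      exact Subgroup.mem_centralizer_iff.mp
        (hsw i.castSucc i.succ (ne_of_lt Fin.castSucc_lt_succ)).2 _ hx)
    rw [Subgroup.mem_bot, this, map_one]
  have hV : Nat.card ↥V = 5040 := by
    rw [← hrange, ← Nat.card_congr (MonoidHom.ofInjective hφ).toEquiv, Nat.card_perm, Nat.card_fin]; rfl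
  exact ⟨hnum, fun x hx => (hall x hx).near, fun x hx => (hall x hx).sub, by omega, by omega, Five.product hX
    (show Nat.card ↥(Subgroup.normalizer (X : Set G) ⊓ Subgroup.centralizer S) = 20 by omega)
    (show Nat.card ↥(Subgroup.centralizer (X : Set G) ⊓ Subgroup.centralizer S) = 5 by omega)
    (show _ = 20 * Nat.card ↥V by rw [hV]; omega) hbot, φ, hφ, hrange, hsw, hsurj⟩

end CfsgThreeTrans.M23.FiveNorm
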