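/-
Subgroups of order seventeen and twenty-three in a group of type M(23).
-/
import Cfsg.Agent.Lib.ThreeTrans.ExceptChar
import Cfsg.Agent.Lib.ThreeTrans.RootQuad
import Cfsg.Agent.Lib.ThreeTrans.M22.ThirteenLevel
import Cfsg.Agent.Lib.ThreeTrans.M23.ThirteenLevel
import Cfsg.Agent.Lib.ThreeTrans.M23.FiveLevel
import Cfsg.Agent.Lib.ThreeTrans.M23.SevenLevel
import Cfsg.Agent.Lib.ThreeTrans.M23.Eleven
import Mathlib.GroupTheory.Transfer

set_option autoImplicit false
set_option linter.unusedSectionVars false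

namespace CfsgThreeTrans.M23.Seventeen

open Cfsg CfsgLib CfsgThreeTrans.M22.ThirteenFix

universe u

variable {G : Type u} [Group G] [Finite G] {D : Set G}

set_option maxHeartbeats 1000000 in
/-- The double count of fusion in the centraliser of a transposition. -/
theorem pair_sum (hD : IsThreeTranspositionClass D) (hp : IsPrimitiveUnderConj D)
    (hw : ∃ a ∈ D, ∃ b ∈ D, a ≠ b ∧ Commute a b) {t c : G} (ht : t ∈ D) (hc : c ∈ D) (htc : ¬ Commute t c)
    (hnne : (Ds D t).Nonempty) :
    Nat.card {p : ↥(Subgroup.centralizer ({t} : Set G)) × G //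
      p.2⁻¹ * (p.1 : G) * p.2 ∈ Subgroup.centralizer ({t} : Set G)} =
      3 * Nat.card ↥(Subgroup.centralizer ({t} : Set G)) * Nat.card ↥(Subgroup.centralizer ({t} : Set G)) := by
  classical
  haveI : Fintype G := Fintype.ofFinite G
  set H := Subgroup.centralizer ({t} : Set G)
  set h := Nat.card H
  let f : G → ℕ := fun d => Nat.card ↥(H ⊓ Subgroup.centralizer ({d} : Set G))
  have hgrp : ∀ g : G, Nat.card {k : H // g⁻¹ * (k : G) * g ∈ H} = f (g * t * g⁻¹) := by
    intro g
    refine Nat.card_congr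
      { toFun := fun k => ⟨k.1, k.1.2, ?_⟩
        invFun := fun k => ⟨⟨k.1, k.2.1⟩, ?_⟩
        left_inv := fun k => rfl
        right_inv := fun k => rfl }
    · have := (M22.mem_cent (k := g⁻¹ * (k.1 : G) * g) (x := t)).mp k.2
      refine M22.mem_cent.mpr ?_
      calc (k.1 : G) * (g * t * g⁻¹) * (k.1 : G)⁻¹ =
          g * (g⁻¹ * (k.1 : G) * g * t * (g⁻¹ * (k.1 : G) * g)⁻¹) * g⁻¹ := by group
        _ = g * t * g⁻¹ := by rw [this]
    · have hk := (M22.mem_cent (k := (k.1 : G))).mp k.2.2
      refine M22.mem_cent.mpr (cj_injective g ?_)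
      show g * (g⁻¹ * (k.1 : G) * g * t * (g⁻¹ * (k.1 : G) * g)⁻¹) * g⁻¹ = g * t * g⁻¹
      calc g * (g⁻¹ * (k.1 : G) * g * t * (g⁻¹ * (k.1 : G) * g)⁻¹) * g⁻¹ =
          (k.1 : G) * (g * t * g⁻¹) * (k.1 : G)⁻¹ := by group
        _ = _ := hk
  have e1 : Nat.card {p : ↥H × G // p.2⁻¹ * (p.1 : G) * p.2 ∈ H} = ∑ g : G, f (g * t * g⁻¹) := by
    rw [← Finset.sum_congr rfl fun g _ => hgrp g, ← Nat.card_sigma]
    exact Nat.card_congr
      { toFun := fun p => ⟨p.1.2, p.1.1, p.2⟩
        invFun := fun p => ⟨(p.2.1, p.1), p.2.2⟩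
        left_inv := fun p => rfl
        right_inv := fun p => rfl }
  set DF := (Set.toFinite D).toFinset
  have e2 : ∑ g : G, f (g * t * g⁻¹) = ∑ d ∈ DF, h * f d := by
    rw [← Finset.sum_fiberwise_of_maps_to (s := Finset.univ) (t := DF) (g := fun g : G => g * t * g⁻¹)
      (fun g _ => by simpa [DF] using cls_conj hD g ht)]
    refine Finset.sum_congr rfl fun d hd => ?_
    have hd' : d ∈ D := by simpa [DF] using hd
    rw [Finset.sum_congr rfl (fun g hg => by rw [(Finset.mem_filter.mp hg).2]), Finset.sum_const, smul_eq_mul]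
    congr 1
    obtain ⟨g0, hg0⟩ := cls_exists_conj hD ht hd'
    have : (Finset.univ.filter fun g : G => g * t * g⁻¹ = d) =
        (Finset.univ.filter fun g : G => g ∈ H).map (Equiv.mulLeft g0).toEmbedding := by
      ext g
      simp only [Finset.mem_filter, Finset.mem_univ, true_and, Finset.mem_map_equiv, Equiv.mulLeft_symm,
        Equiv.coe_mulLeft]
      rw [← hg0, show H = Subgroup.centralizer ({t} : Set G) from rfl, M22.mem_cent, ← cj_cj, inv_inv]
      constructor
      · intro k; rw [k]; group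
      · intro k
        conv_rhs => rw [← k]
        group
    rw [this, Finset.card_map, ← Fintype.card_subtype, ← Nat.card_eq_fintype_card]
  rw [e1, e2, ← Finset.mul_sum, mul_comm 3 h, mul_assoc]
  congr 1
  have hmaps : ∀ k ∈ H, k * t * k⁻¹ = t := fun k hk => M22.mem_cent.mp hk
  have hnearsum : ∀ d ∈ Ds D t, (Ds D t).ncard * f d = h := by
    intro d hd
    refine (M22.card_orbit_stab H d (Ds D t) (fun k hk => M22.cj_mem_Ds hD hd (hmaps k hk)) fun y hy => ?_).symm
    obtain ⟨k, hk, e⟩ := Ds_transitive hD hp hw ht d hd y hy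
    exact ⟨k, Subgroup.mem_centralizer_singleton_iff.mpr (closure_Ds_commute hk).eq, e⟩
  set far := {y : G | y ∈ D ∧ ¬ Commute t y}
  have hfarsum : ∀ d ∈ far, far.ncard * f d = h := by
    intro d hd
    refine (M22.card_orbit_stab H d far (fun k hk => ⟨cls_conj hD k hd.1, fun c => hd.2 ((commute_cj_iff k).mp
      (by rw [hmaps k hk]; exact c))⟩) fun y hy => ?_).symm
    obtain ⟨k, hk, e⟩ := rank_three_far hD hp hw ht d hd.1 hd.2 y hy.1 hy.2
    exact ⟨k, Subgroup.mem_centralizer_singleton_iff.mpr hk.eq, e⟩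
  have hsplit : DF = insert t ((Set.toFinite (Ds D t)).toFinset ∪ (Set.toFinite far).toFinset) := by
    ext y
    simp only [DF, Set.Finite.mem_toFinset, Finset.mem_insert, Finset.mem_union, far, Ds, Set.mem_ofPred_eq]
    constructor
    · intro hy
      by_cases k : y = t
      · exact Or.inl k
      by_cases k' : Commute t y
      · exact Or.inr (Or.inl ⟨hy, k, k'⟩)
      · exact Or.inr (Or.inr ⟨hy, k'⟩)
    · rintro (rfl | k | k); exacts [ht, k.1, k.1]
  rw [hsplit, Finset.sum_insert (by simp [far, Ds]), Finset.sum_union (by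
    rw [Finset.disjoint_left]
    intro y h1 h2'
    simp only [Set.Finite.mem_toFinset] at h1 h2'
    exact h2'.2 h1.2.2)]
  have hfne : far.Nonempty := ⟨c, hc, htc⟩
  have s1 : ∀ S : Set G, S.Nonempty → (∀ d ∈ S, S.ncard * f d = h) → ∑ d ∈ (Set.toFinite S).toFinset, f d = h := by
    intro S ⟨d0, hd0⟩ hS
    have hpos : 0 < S.ncard := (Set.ncard_pos).mpr ⟨d0, hd0⟩
    rw [Finset.sum_congr rfl fun d hd => Nat.eq_of_mul_eq_mul_left hpos
      ((hS d (by simpa using hd)).trans (hS d0 hd0).symm), Finset.sum_const, smul_eq_mul,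
      ← Set.ncard_eq_toFinset_card S, hS d0 hd0]
  have ht : f t = h := by simp only [f, h]; rw [inf_idem]
  rw [ht, s1 _ hnne hnearsum, s1 _ hfne hfarsum]
  ring

/-- Only finitely many primes divide the order. -/
theorem primes_of_order {q : ℕ} (hq : q.Prime) (h : q ∣ 4089470473293004800) :
    q = 2 ∨ q = 3 ∨ q = 5 ∨ q = 7 ∨ q = 11 ∨ q = 13 ∨ q = 17 ∨ q = 23 := by
  have h' : q ∣ 2 ^ 18 * (3 ^ 13 * (5 ^ 2 * (7 * (11 * (13 * (17 * 23)))))) := by norm_num; exact h
  have one : ∀ p : ℕ, p.Prime → q ∣ p → q = p := fun p hp' h' => (Nat.prime_dvd_prime_iff_eq hq hp').mp h'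
  have pw : ∀ p n : ℕ, p.Prime → q ∣ p ^ n → q = p := fun p n hp' h' => one p hp' (hq.dvd_of_dvd_pow h')
  rcases hq.dvd_mul.mp h' with h | h
  · exact Or.inl (pw 2 18 (by norm_num) h)
  rcases hq.dvd_mul.mp h with h | h
  · have := pw 3 13 (by norm_num) h; tauto
  rcases hq.dvd_mul.mp h with h | h
  · have := pw 5 2 (by norm_num) h; tauto
  rcases hq.dvd_mul.mp h with h | h
  · have := one 7 (by norm_num) h; tauto
  rcases hq.dvd_mul.mp h with h | h
  · have := one 11 (by norm_num) h; tauto
  rcases hq.dvd_mul.mp h with h | h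
  · have := one 13 (by norm_num) h; tauto
  rcases hq.dvd_mul.mp h with h | h
  · have := one 17 (by norm_num) h; tauto
  · have := one 23 (by norm_num) h; tauto

theorem options_both : ∀ b : Fin 14, ∀ k : Fin 23,
    (k.val ∣ 22 ∧ 23 * (17 * 3 ^ b.val) * k.val ∣ 4089470473293004800) →
    (4089470473293004800 / (23 * (17 * 3 ^ b.val) * k.val)) % 23 = 1 →
    k.val = 1 ∨ k.val = 2 := by
  decide +kernel

def badDeg (d : ℕ) : Bool :=
  decide (d ∣ 4089470473293004800) && (decide ((31670 - d) ∣ 4089470473293004800) &&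
    (decide (2 ≤ d) && (decide (d < 31670) && decide ((d - 1) ∣ 4089470473293004800))))

theorem badDeg_false : ∀ a : Fin 180, ∀ b : Fin 180, badDeg (a.val * 180 + b.val) = false := by decide +kernel

theorem deg_arith {d : ℕ} (h : d < 31670) (h1 : d ∣ 4089470473293004800)
    (h2 : (31670 - d) ∣ 4089470473293004800) (h3 : 2 ≤ d) : ¬ (d - 1) ∣ 4089470473293004800 := by
  intro h4
  have := badDeg_false ⟨d / 180, by omega⟩ ⟨d % 180, Nat.mod_lt _ (by norm_num)⟩
  simp only [badDeg, Nat.div_add_mod' d 180, h1, h2, h3, h, h4, decide_true, Bool.and_self, reduceCtorEq] at this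

theorem options_seventeen : ∀ b : Fin 14, ∀ k : Fin 17,
    (k.val ∣ 16 ∧ 17 * 3 ^ b.val * k.val ∣ 4089470473293004800) →
    (4089470473293004800 / (17 * 3 ^ b.val * k.val)) % 17 = 1 →
    (b.val = 0 ∧ k.val = 16) ∨ (b.val = 8 ∧ k.val = 1) ∨ (b.val = 10 ∧ k.val = 2) ∨ (b.val = 12 ∧ k.val = 4) := by
  decide +kernel

theorem options_twentythree : ∀ b : Fin 14, ∀ k : Fin 23,
    (k.val ∣ 22 ∧ 23 * 3 ^ b.val * k.val ∣ 4089470473293004800) →
    (4089470473293004800 / (23 * 3 ^ b.val * k.val)) % 23 = 1 →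
    (b.val = 0 ∧ k.val = 11) ∨ (b.val = 11 ∧ k.val = 11) ∨ (b.val = 4 ∧ k.val = 22) := by
  decide +kernel

section

variable (hG : IsThreeTranspositionGroup D) (hp : IsPrimitiveUnderConj D) (h23 : IsOfTypeM23 G D) (B : Base D)
include hG hp h23 B

theorem card_eq : Nat.card G = 4089470473293004800 := by rw [M23.card_group hG hp h23 B]

/-- The number of members fixed by an involution. -/
theorem fix_count {s : G} (hs : s * s = 1) (hs1 : s ≠ 1) :
    {e | e ∈ D ∧ Commute e s}.ncard = 3511 ∨ {e | e ∈ D ∧ Commute e s}.ncard = 695 ∨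
      {e | e ∈ D ∧ Commute e s}.ncard = 183 := by
  have hD := cls_of_group_prim hG hp
  obtain ⟨l, hlen, hnd, hm, hc, hprod⟩ := M23.short_invol hG hp h23 B hs
  have hall : ∀ e ∈ D, Commute e s ↔ ∀ a ∈ l, Commute e a := fun e he =>
    ⟨fun h => M22.commute_members hD.1 hlen hnd hm hc he (hprod ▸ h),
      fun h => hprod ▸ Commute.list_prod_right l e h⟩
  match l, hlen, hnd, hm, hc, hprod, hall with
  | [], _, _, _, _, hprod, _ => exact absurd (by simpa using hprod.symm) hs1
  | [a], _, _, hm, _, _, hall =>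
    left
    have ha : a ∈ D := hm a (by simp)
    have e : {e | e ∈ D ∧ Commute e s} = insert a (Ds D a) := by
      ext e
      simp only [Set.mem_ofPred_eq, Set.mem_insert_iff, Ds]
      refine ⟨fun ⟨he, h⟩ => ?_, ?_⟩
      · by_cases k : e = a
        · exact Or.inl k
        · exact Or.inr ⟨he, k, ((hall e he).mp h a (by simp)).symm⟩
      · rintro (rfl | ⟨he, -, h⟩)
        · exact ⟨ha, (hall e ha).mpr (by simp)⟩
        · exact ⟨he, (hall e he).mpr (by simpa using h.symm)⟩
    rw [e, Set.ncard_insert_of_notMem (fun k => k.2.1 rfl), M23.ncard_Ds hD B ha]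
  | [a, b], _, hnd, hm, hc, _, hall =>
    right; left
    simp only [List.nodup_cons, List.mem_cons, List.not_mem_nil, or_false, List.nodup_nil, and_true,
      not_false_iff] at hnd
    have ha : a ∈ D := hm a (by simp)
    have hb : b ∈ D := hm b (by simp)
    have cab : Commute a b := hc a (by simp) b (by simp)
    have e : {e | e ∈ D ∧ Commute e s} = insert a (insert b (Ds D a ∩ Ds D b)) := by
      ext e
      simp only [Set.mem_ofPred_eq, Set.mem_insert_iff, Set.mem_inter_iff, Ds]
      refine ⟨fun ⟨he, h⟩ => ?_, ?_⟩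
      · have h' := (hall e he).mp h
        by_cases k : e = a
        · exact Or.inl k
        by_cases k' : e = b
        · exact Or.inr (Or.inl k')
        exact Or.inr (Or.inr ⟨⟨he, k, (h' a (by simp)).symm⟩, he, k', (h' b (by simp)).symm⟩)
      · rintro (rfl | rfl | ⟨⟨he, -, h1⟩, -, -, h2⟩)
        · exact ⟨ha, (hall e ha).mpr (by simp [cab])⟩
        · exact ⟨hb, (hall e hb).mpr (by simp [cab.symm])⟩
        · exact ⟨he, (hall e he).mpr (by simp [h1.symm, h2.symm])⟩
    rw [e, Set.ncard_insert_of_notMem, Set.ncard_insert_of_notMem fun k => k.2.2.1 rfl,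
      M23.ncard_near hD B ha ⟨hb, fun k => hnd k.symm, cab⟩]
    rintro (k | k)
    · exact hnd k
    · exact k.1.2.1 rfl
  | [a, b, c], _, hnd, hm, hc, _, hall =>
    right; right
    simp only [List.nodup_cons, List.mem_cons, List.not_mem_nil, or_false, not_or, List.nodup_nil, and_true] at hnd
    obtain ⟨⟨hab, hac⟩, hbc, -⟩ := hnd
    have ha : a ∈ D := hm a (by simp)
    have hb : b ∈ D := hm b (by simp)
    have hcD : c ∈ D := hm c (by simp)
    have cab : Commute a b := hc a (by simp) b (by simp)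
    have cac : Commute a c := hc a (by simp) c (by simp)
    have cbc : Commute b c := hc b (by simp) c (by simp)
    have e : {e | e ∈ D ∧ Commute e s} = insert a (insert b (insert c (Ds D a ∩ Ds D b ∩ Ds D c))) := by
      ext e
      simp only [Set.mem_ofPred_eq, Set.mem_insert_iff, Set.mem_inter_iff, Ds]
      refine ⟨fun ⟨he, h⟩ => ?_, ?_⟩
      · have h' := (hall e he).mp h
        by_cases k : e = a
        · exact Or.inl k
        by_cases k' : e = b
        · exact Or.inr (Or.inl k')
        by_cases k'' : e = c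
        · exact Or.inr (Or.inr (Or.inl k''))
        exact Or.inr (Or.inr (Or.inr ⟨⟨⟨he, k, (h' a (by simp)).symm⟩, he, k', (h' b (by simp)).symm⟩, he, k'',
          (h' c (by simp)).symm⟩))
      · rintro (rfl | rfl | rfl | ⟨⟨⟨he, -, h1⟩, -, -, h2⟩, -, -, h3⟩)
        · exact ⟨ha, (hall e ha).mpr (by simp [cab, cac])⟩
        · exact ⟨hb, (hall e hb).mpr (by simp [cab.symm, cbc])⟩
        · exact ⟨hcD, (hall e hcD).mpr (by simp [cac.symm, cbc.symm])⟩
        · exact ⟨he, (hall e he).mpr (by simp [h1.symm, h2.symm, h3.symm])⟩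
    rw [e, Set.ncard_insert_of_notMem, Set.ncard_insert_of_notMem, Set.ncard_insert_of_notMem fun k => k.2.2.1 rfl,
      (M23.ncard_three hD B ha ⟨hb, Ne.symm hab, cab⟩ ⟨hcD, Ne.symm hac, cac⟩).2 hbc cbc]
    · rintro (k | k)
      · exact hbc k
      · exact k.1.2.2.1 rfl
    · rintro (k | k | k)
      · exact hab k
      · exact hac k
      · exact k.1.1.2.1 rfl
  | _ :: _ :: _ :: _ :: _, hlen, _, _, _, _, _ => simp only [List.length_cons] at hlen; omega

/-- A fixed-point-free subgroup is centralised by no root. -/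
theorem no_root {X : Subgroup G} {p : ℕ} (hX : Nat.card X = p) (hp351 : ¬ p ∣ 351)
    (hfree : ∀ g ∈ X, ∀ y ∈ D, g * y * g⁻¹ = y → g = 1) {r : G} (hr : RootQuad.Root D r)
    (hrX : ∀ g ∈ X, Commute r g) : False := by
  have hD := cls_of_group_prim hG hp
  obtain ⟨-, hmu⟩ := M23.params hD hp B
  obtain ⟨a, ha, d, hd, had, rfl⟩ := hr
  have haa := mul_self hD.1 ha
  have hdd := mul_self hD.1 hd
  have hFx : {e | e ∈ D ∧ Commute (a * d) e} = Ds D a ∩ Ds D d := by
    ext e
    constructor
    · rintro ⟨he, hc⟩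
      have hae : Commute a e := by
        by_contra hn
        have hde : ¬ Commute d e := fun h => hn (by
          have := hc.mul_left h
          rwa [mul_assoc, hdd, mul_one] at this)
        have hee := mul_self hD.1 he
        have k : e * (a * d) * e = a * d := by rw [← hc.eq, mul_assoc, hee, mul_one]
        have k2 : (a * e * a) * (d * e * d) = a * d := by
          rw [← braid hD.1 he ha (fun h => hn h.symm), ← braid hD.1 he hd (fun h => hde h.symm)]
          calc (e * a * e) * (e * d * e) = e * a * (e * e) * d * e := by group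
            _ = a * d := by rw [hee, mul_one, ← k]; group
        have k3 : e * (a * d) * e = 1 := by
          calc e * (a * d) * e = (a * a) * (e * (a * d) * e) * (d * d) := by rw [haa, hdd, one_mul, mul_one]
            _ = a * ((a * e * a) * (d * e * d)) * d := by group
            _ = a * (a * d) * d := by rw [k2]
            _ = (a * a) * (d * d) := by group
            _ = 1 := by rw [haa, hdd, one_mul]
        rw [k3] at k
        exact had (by rw [eq_inv_of_mul_eq_one_left k.symm, inv_self hD.1 hd])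
      have hde : Commute d e := by
        have := (show Commute (a * (a * d)) e from hae.mul_left hc)
        rwa [← mul_assoc, haa, one_mul] at this
      exact ⟨⟨he, fun k => had (k ▸ hde.symm), hae⟩, ⟨he, fun k => had (k ▸ hae), hde⟩⟩
    · rintro ⟨h1, h2⟩
      exact ⟨h1.1, h1.2.2.mul_left h2.2.2⟩
  have := dvd_of_stable (Y := X) (S := {e | e ∈ D ∧ Commute (a * d) e}) (fun g hg e he => ⟨cls_conj hD g he.1, by
    have := (commute_cj_iff g).mpr he.2
    rwa [← (hrX g hg).eq, mul_inv_cancel_right] at this⟩) (fun g hg e he => hfree g hg e he.1)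
  rw [hFx, hX, hmu a ha d hd had] at this
  exact hp351 this

/-- An element of order seventeen or twenty-three fixes no member. -/
theorem free_of_order {p : ℕ} (hq : p = 17 ∨ p = 23) {g : G} (hg : orderOf g = p) {y : G} (hy : y ∈ D)
    (e : g * y * g⁻¹ = y) : False := by
  have := Subgroup.orderOf_dvd_natCard (Subgroup.centralizer ({y} : Set G)) (M22.mem_cent.mpr e)
  rw [hg, M23.card_centralizer hG hp h23 B hy] at this
  rcases hq with rfl | rfl <;> norm_num at this

theorem free {X : Subgroup G} {p : ℕ} (hq : p = 17 ∨ p = 23) (hX : Nat.card X = p) :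
    ∀ g ∈ X, ∀ y ∈ D, g * y * g⁻¹ = y → g = 1 := by
  intro g hg y hy e
  by_contra hg1
  haveI : Fact p.Prime := ⟨by rcases hq with rfl | rfl <;> norm_num⟩
  refine free_of_order hG hp h23 B hq (orderOf_eq_prime ?_ hg1) hy e
  have := pow_card_eq_one' (G := X) (x := ⟨g, hg⟩)
  rw [hX] at this
  exact congrArg Subtype.val this

set_option maxHeartbeats 1000000 in
/-- Elements of prime order centralising a free subgroup of prime order. -/
theorem cent_primes {X : Subgroup G} {p : ℕ} (hq : p = 17 ∨ p = 23) (hX : Nat.card X = p) {q : ℕ} (hq' : q.Prime)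
    (hdvd : q ∣ Nat.card ↥(Subgroup.centralizer (X : Set G))) : q = 3 ∨ q = 17 ∨ q = 23 := by
  have hD := cls_of_group_prim hG hp
  have hGc := card_eq hG hp h23 B
  have hfree := free hG hp h23 B hq hX
  haveI := Fact.mk hq'
  obtain ⟨s', hs'⟩ := exists_prime_orderOf_dvd_card' (G := ↥(Subgroup.centralizer (X : Set G))) q hdvd
  obtain ⟨s, hs⟩ := s'
  rw [← Subgroup.orderOf_coe] at hs'
  change orderOf s = q at hs'
  have hCX : ∀ g ∈ X, Commute s g := fun g hg => (Subgroup.mem_centralizer_iff.mp hs g hg).symm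
  have hY : ∀ g ∈ X, ∀ y, y ∈ D ∩ (Subgroup.centralizer (Subgroup.zpowers s : Set G) : Set G) →
      g * y * g⁻¹ ∈ D ∩ (Subgroup.centralizer (Subgroup.zpowers s : Set G) : Set G) := by
    intro g hg y hy
    refine ⟨cls_conj hD g hy.1, Subgroup.mem_centralizer_iff.mpr fun z hz => ?_⟩
    obtain ⟨k, rfl⟩ := Subgroup.mem_zpowers_iff.mp hz
    have hy' : Commute (s ^ k) y := Subgroup.mem_centralizer_iff.mp hy.2 _ (Subgroup.mem_zpowers_iff.mpr ⟨k, rfl⟩)
    have := (commute_cj_iff g).mpr hy'
    rw [← ((hCX g hg).zpow_left k).eq, mul_inv_cancel_right] at this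
    exact this.eq
  have small : ∀ {n : ℕ}, (D ∩ (Subgroup.centralizer (Subgroup.zpowers s : Set G) : Set G)).ncard = n →
      ¬ p ∣ n → False := by
    intro n hn hnd
    have := dvd_of_stable (Y := X) hY fun g hg y hy => hfree g hg y hy.1
    rw [hX, hn] at this
    exact hnd this
  have hcard : Nat.card ↥(Subgroup.zpowers s) = q := by rw [Nat.card_zpowers, hs']
  rcases primes_of_order hq' (hGc ▸ hs' ▸ orderOf_dvd_natCard s) with rfl | rfl | rfl | rfl | rfl | rfl | rfl | rfl
  · exfalso
    have hss : s * s = 1 := by rw [← pow_two, ← hs', pow_orderOf_eq_one]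
    have hs1 : s ≠ 1 := fun k => by rw [k, orderOf_one] at hs'; norm_num at hs'
    have := dvd_of_stable (Y := X) (S := {e | e ∈ D ∧ Commute e s}) (fun g hg y hy => ⟨cls_conj hD g hy.1, by
      have := (commute_cj_iff g).mpr hy.2
      rwa [← (hCX g hg).eq, mul_inv_cancel_right] at this⟩) fun g hg y hy => hfree g hg y hy.1
    rw [hX] at this
    rcases fix_count hG hp h23 B hss hs1 with k | k | k <;> rw [k] at this <;>
      rcases hq with rfl | rfl <;> norm_num at this
  · exact Or.inl rfl
  · exact (small ((FiveNorm.five_level hG hp h23 B).2 _ hcard).num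
      (by rcases hq with rfl | rfl <;> norm_num)).elim
  · exact (small ((SevenNorm.seven_level hG hp h23 B).2.2 _ hcard).num
      (by rcases hq with rfl | rfl <;> norm_num)).elim
  · exact (small ((M23.eleven_level hG hp h23 B).2.2 _ hcard).num
      (by rcases hq with rfl | rfl <;> norm_num)).elim
  · exact (small ((Thirteen.thirteen_level hG hp h23 B).2 _ hcard).num
      (by rcases hq with rfl | rfl <;> norm_num)).elim
  · exact Or.inr (Or.inl rfl)
  · exact Or.inr (Or.inr rfl)

/-- The automiser and the Sylow congruence. -/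
theorem norm_data {X : Subgroup G} {p : ℕ} (hq : p = 17 ∨ p = 23) (hX : Nat.card X = p) :
    ∃ k : ℕ, k ∣ p - 1 ∧ Nat.card ↥(Subgroup.normalizer (X : Set G)) =
        Nat.card ↥(Subgroup.centralizer (X : Set G)) * k ∧
      Nat.card ↥(Subgroup.centralizer (X : Set G)) * k ∣ 4089470473293004800 ∧
      (4089470473293004800 / (Nat.card ↥(Subgroup.centralizer (X : Set G)) * k)) % p = 1 := by
  have hp' : p.Prime := by rcases hq with rfl | rfl <;> norm_num
  haveI : Fact p.Prime := ⟨hp'⟩
  haveI : IsCyclic X := isCyclic_of_prime_card hX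
  have hGc := card_eq hG hp h23 B
  let φ := X.normalizerMonoidHom
  have hker : Nat.card φ.ker = Nat.card ↥(Subgroup.centralizer (X : Set G)) := by
    rw [Subgroup.normalizerMonoidHom_ker]
    exact Nat.card_congr (Subgroup.subgroupOfEquivOfLe (Subgroup.centralizer_le_normalizer _)).toEquiv
  have hN : Nat.card ↥(Subgroup.normalizer (X : Set G)) =
      Nat.card ↥(Subgroup.centralizer (X : Set G)) * φ.ker.index := by rw [← hker, φ.ker.card_mul_index]
  refine ⟨φ.ker.index, ?_, hN, hN ▸ hGc ▸ Subgroup.card_subgroup_dvd_card _, ?_⟩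
  · have haut : Nat.card (MulAut X) = p - 1 := by
      rw [IsCyclic.card_mulAut X, hX, Nat.totient_prime hp']
    rw [Subgroup.index_ker, ← haut]
    exact Subgroup.card_subgroup_dvd_card _
  have hfac : (Nat.card G).factorization p = 1 := by
    refine le_antisymm ?_ ?_
    · by_contra hlt
      have h2 := (hp'.pow_dvd_iff_le_factorization Nat.card_pos.ne').mpr
        (by omega : 2 ≤ (Nat.card G).factorization p)
      rw [hGc] at h2
      rcases hq with rfl | rfl <;> norm_num at h2
    · refine (hp'.pow_dvd_iff_le_factorization Nat.card_pos.ne').mp ?_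
      rw [hGc]
      rcases hq with rfl | rfl <;> norm_num
  let P : Sylow p G := Sylow.ofCard X (by rw [hX, hfac, pow_one])
  have hmod := card_sylow_modEq_one (p := p) (G := G)
  rw [P.card_eq_index_normalizer] at hmod
  rw [← hN, ← hGc, ← (Subgroup.normalizer (X : Set G)).card_mul_index, Nat.mul_div_cancel_left _ Nat.card_pos]
  exact (show _ % p = 1 % p from hmod).trans (Nat.mod_eq_of_lt hp'.one_lt)

/-- No free subgroup of prime order is central in its normaliser. -/
theorem no_one {X : Subgroup G} {p : ℕ} (hq : p = 17 ∨ p = 23) (hX : Nat.card X = p)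
    (hN : Nat.card ↥(Subgroup.normalizer (X : Set G)) = Nat.card ↥(Subgroup.centralizer (X : Set G))) : False := by
  have hp' : p.Prime := by rcases hq with rfl | rfl <;> norm_num
  haveI : Fact p.Prime := ⟨hp'⟩
  have hGc := card_eq hG hp h23 B
  haveI := M23.simple_group hG hp h23 B
  have hfac : (Nat.card G).factorization p = 1 := by
    refine le_antisymm ?_ ?_
    · by_contra hlt
      have h2 := (hp'.pow_dvd_iff_le_factorization Nat.card_pos.ne').mpr
        (by omega : 2 ≤ (Nat.card G).factorization p)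
      rw [hGc] at h2
      rcases hq with rfl | rfl <;> norm_num at h2
    · refine (hp'.pow_dvd_iff_le_factorization Nat.card_pos.ne').mp ?_
      rw [hGc]
      rcases hq with rfl | rfl <;> norm_num
  let P : Sylow p G := Sylow.ofCard X (by rw [hX, hfac, pow_one])
  have hle : Subgroup.normalizer ((P : Subgroup G) : Set G) ≤ Subgroup.centralizer ((P : Subgroup G) : Set G) :=
    (Subgroup.eq_of_le_of_card_ge (Subgroup.centralizer_le_normalizer _) hN.le).ge
  have hc := MonoidHom.ker_transferSylow_isComplement' P hle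
  have hidx : (MonoidHom.transferSylow P hle).ker.index = p := hc.symm.index_eq_card.trans hX
  rcases IsSimpleGroup.eq_bot_or_eq_top_of_normal (MonoidHom.transferSylow P hle).ker inferInstance with e | e
  · rw [e, Subgroup.index_bot, hGc] at hidx
    rcases hq with rfl | rfl <;> norm_num at hidx
  · rw [e, Subgroup.index_top] at hidx
    exact hp'.ne_one hidx.symm

/-- The automiser of a free subgroup of prime order is not of order two. -/
theorem no_two_case {X : Subgroup G} {p n : ℕ} (hq : p = 17 ∨ p = 23) (hX : Nat.card X = p)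
    (hC : Nat.card ↥(Subgroup.centralizer (X : Set G)) = p * n) (hn : Nat.Coprime p n)
    (hN : Nat.card ↥(Subgroup.normalizer (X : Set G)) = 2 * (p * n)) : False := by
  have hD := cls_of_group_prim hG hp
  have hGc := card_eq hG hp h23 B
  have hn31 := (M23.params hD hp B).1
  have hp' : p.Prime := by rcases hq with rfl | rfl <;> norm_num
  haveI : Fact p.Prime := ⟨hp'⟩
  refine ExceptChar.no_two (v := 31671) hp' (by rcases hq with rfl | rfl <;> norm_num)
    (fun d h h1 h2 h3 => ?_) hX rfl rfl hC hn hN (H := Subgroup.centralizer ({B.t} : Set G))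
    (by rw [M22.index_centralizer hD B.ht, hn31]) ?_ ?_
  · rw [hGc] at h1 h2 ⊢
    exact deg_arith h h1 h2 h3
  · intro y hy hy1 g hg
    have hyC : (y ^ n) ^ p = 1 := by
      rw [← pow_mul, mul_comm, ← hC]
      have := pow_card_eq_one' (G := ↥(Subgroup.centralizer (X : Set G))) (x := ⟨y, hy⟩)
      exact congrArg Subtype.val this
    have hm := M22.mem_cent.mp hg
    have hfix : y * (g * B.t * g⁻¹) * y⁻¹ = g * B.t * g⁻¹ := by
      calc y * (g * B.t * g⁻¹) * y⁻¹ = g * (g⁻¹ * y * g * B.t * (g⁻¹ * y * g)⁻¹) * g⁻¹ := by group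
        _ = g * B.t * g⁻¹ := by rw [hm]
    refine free_of_order hG hp h23 B hq (orderOf_eq_prime hyC hy1) (cls_conj hD g B.ht) ?_
    have hc : Commute y (g * B.t * g⁻¹) := mul_inv_eq_iff_eq_mul.mp hfix
    rw [(hc.pow_left n).eq, mul_inv_cancel_right]
  · obtain ⟨c, hc, htc⟩ : ∃ c ∈ D, ¬ Commute B.t c := by
      by_contra! hall
      have hsub : D ⊆ insert B.t (Ds D B.t) := fun y hy => by
        by_cases k : y = B.t
        · exact Or.inl k
        · exact Or.inr ⟨hy, k, hall y hy⟩
      have := Set.ncard_le_ncard hsub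
      have h2 := Set.ncard_insert_le B.t (Ds D B.t)
      rw [hn31] at this
      rw [M23.ncard_Ds hD B B.ht] at h2
      omega
    exact pair_sum hD hp (M23.has_pair hD B) B.ht hc htc
      (Set.nonempty_of_ncard_ne_zero (by rw [M23.ncard_Ds hD B B.ht]; norm_num))

/-- The possible orders of centralisers. -/
theorem cent_form {X : Subgroup G} {p p' : ℕ} (hpp : (p = 17 ∧ p' = 23) ∨ (p = 23 ∧ p' = 17))
    (hX : Nat.card X = p) :
    ∃ b : Fin 14, Nat.card ↥(Subgroup.centralizer (X : Set G)) = p * 3 ^ b.val ∨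
      Nat.card ↥(Subgroup.centralizer (X : Set G)) = p * (p' * 3 ^ b.val) := by
  have hGc := card_eq hG hp h23 B
  have hq : p = 17 ∨ p = 23 := hpp.imp And.left And.left
  have hp' : p.Prime := by rcases hq with rfl | rfl <;> norm_num
  haveI : Fact p.Prime := ⟨hp'⟩
  set C := Subgroup.centralizer (X : Set G)
  have hXC : X ≤ C := by
    haveI : IsCyclic X := isCyclic_of_prime_card hX
    exact fun y hy => Subgroup.mem_centralizer_iff.mpr fun z hz =>
      congrArg Subtype.val (IsCyclic.commGroup.mul_comm (⟨z, hz⟩ : X) ⟨y, hy⟩)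
  obtain ⟨n, hn⟩ : p ∣ Nat.card C := hX ▸ Subgroup.card_dvd_of_le hXC
  have hCd : p * n ∣ 4089470473293004800 := hn ▸ hGc ▸ Subgroup.card_subgroup_dvd_card C
  have hn0 : n ≠ 0 := fun k => by rw [k, mul_zero] at hn; exact Nat.card_pos.ne' hn
  have key : ∀ m : ℕ, m ≠ 0 → m ∣ n → ¬ p' ∣ m → ∃ b : Fin 14, m = 3 ^ b.val := by
    intro m hm hmn hm'
    have hb : m = 3 ^ m.primeFactorsList.length := Nat.eq_prime_pow_of_unique_prime_dvd hm fun {d} hd hdm => by
      have hdn := hdm.trans hmn
      rcases cent_primes hG hp h23 B hq hX hd (hn ▸ hdn.trans (dvd_mul_left n p)) with k | k | k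
      · exact k
      all_goals
        exfalso
        have h2 : p * d ∣ 4089470473293004800 := (Nat.mul_dvd_mul_left p hdn).trans hCd
        subst k
        rcases hpp with ⟨rfl, rfl⟩ | ⟨rfl, rfl⟩ <;>
          first | exact hm' hdm | norm_num at h2
    refine ⟨⟨m.primeFactorsList.length, ?_⟩, hb⟩
    by_contra hlt
    have h14 : 3 ^ 14 ∣ 4089470473293004800 :=
      ((Nat.pow_dvd_pow 3 (by omega : 14 ≤ m.primeFactorsList.length)).trans (hb ▸ hmn.trans (dvd_mul_left n p))).trans hCd
    norm_num at h14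
  by_cases h : p' ∣ n
  · obtain ⟨m, rfl⟩ := h
    obtain ⟨b, hb⟩ := key m (fun k => hn0 (by rw [k, mul_zero])) (dvd_mul_left m p') (fun k => by
      have h2 : p' * p' ∣ 4089470473293004800 :=
        ((Nat.mul_dvd_mul_left p' k).trans (dvd_mul_left _ p)).trans hCd
      rcases hpp with ⟨rfl, rfl⟩ | ⟨rfl, rfl⟩ <;> norm_num at h2)
    exact ⟨b, Or.inr (by rw [hn, hb])⟩
  · obtain ⟨b, hb⟩ := key n hn0 dvd_rfl h
    exact ⟨b, Or.inl (by rw [hn, hb])⟩

set_option maxHeartbeats 1000000 in
/-- An element of order eleven acts without fixed points on a centraliser of odd order prime to eleven. -/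
theorem eleven_mod {X : Subgroup G} (h11 : 11 ∣ Nat.card ↥(Subgroup.normalizer (X : Set G)))
    (hodd : Odd (Nat.card ↥(Subgroup.centralizer (X : Set G))))
    (hcop : Nat.Coprime (Nat.card ↥(Subgroup.centralizer (X : Set G))) 44) :
    Nat.card ↥(Subgroup.centralizer (X : Set G)) % 11 = 1 := by
  classical
  haveI : Fact (Nat.Prime 11) := ⟨by norm_num⟩
  have hD := cls_of_group_prim hG hp
  obtain ⟨s', hs'⟩ := exists_prime_orderOf_dvd_card' (G := ↥(Subgroup.normalizer (X : Set G))) 11 h11
  rw [← Subgroup.orderOf_coe] at hs'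
  set Z := Subgroup.zpowers (s' : G)
  have hZ : Nat.card Z = 11 := by rw [Nat.card_zpowers, hs']
  have hgood := (M23.eleven_level hG hp h23 B).2.2 Z hZ
  set C := Subgroup.centralizer (X : Set G)
  set K := C ⊓ Subgroup.centralizer (Z : Set G)
  have hKodd : Odd (Nat.card K) :=
    hodd.of_dvd_nat (Subgroup.card_dvd_of_le inf_le_left)
  have hfix : K ≤ Subgroup.centralizer (Z : Set G) ⊓ Subgroup.centralizer (Eleven.fx D Z) := by
    refine le_inf inf_le_right fun g hg => Subgroup.mem_centralizer_iff.mpr fun x hx => ?_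
    obtain ⟨a, b, hab, hfx⟩ := Set.ncard_eq_two.mp hgood.num
    have hperm : ∀ h ∈ K, ∀ y ∈ Eleven.fx D Z, h * y * h⁻¹ ∈ Eleven.fx D Z := fun h hh y hy =>
      ⟨cls_conj hD h hy.1, mul_mem (mul_mem hh.2 hy.2) (inv_mem hh.2)⟩
    have hsq : g * g ∈ Subgroup.centralizer ({x} : Set G) := by
      refine M22.mem_cent.mpr ?_
      rw [← cj_cj]
      have m1 := hperm g hg x hx
      have m2 := hperm g hg _ m1
      have i1 := cj_injective g (a₁ := g * x * g⁻¹) (a₂ := x)
      rw [hfx] at hx m1 m2
      simp only [Set.mem_insert_iff, Set.mem_singleton_iff] at hx m1 m2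
      rcases hx with rfl | rfl <;> rcases m1 with m1 | m1 <;> rcases m2 with m2 | m2 <;>
        first
          | exact m2
          | (rw [m1]; exact m1)
          | exact absurd (cj_injective g (m1.trans (m2.symm.trans (by rw [m1])))) hab
          | (exfalso; rw [m1] at m2; exact hab (cj_injective g (m1.trans m2.symm)))
          | (exfalso; rw [m1] at m2; exact hab (cj_injective g (m2.trans m1.symm)))
          | (exfalso; rw [m1] at m2; exact hab (cj_injective g (m1.trans m2.symm)).symm)
    have hord : Odd (orderOf g) := hKodd.of_dvd_nat (Subgroup.orderOf_dvd_natCard K hg)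
    obtain ⟨j, hj⟩ := hord
    have hgg : g = (g * g) ^ (j + 1) := by
      rw [← pow_two, ← pow_mul, show 2 * (j + 1) = orderOf g + 1 by omega, pow_succ, pow_orderOf_eq_one, one_mul]
    have := pow_mem hsq (j + 1)
    rw [← hgg] at this
    exact (Subgroup.mem_centralizer_singleton_iff.mp this).symm
  have hK1 : Nat.card K = 1 := by
    refine Nat.eq_one_of_dvd_coprimes hcop (Subgroup.card_dvd_of_le inf_le_left) ?_
    have := Subgroup.card_dvd_of_le hfix
    rwa [hgood.cent] at this
  have hnorm : ∀ g ∈ Z, ∀ y ∈ C, g * y * g⁻¹ ∈ C := fun g hg y hy => by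
    have hgN : g ∈ Subgroup.normalizer (X : Set G) := (Subgroup.zpowers_le.mpr s'.2) hg
    refine Subgroup.mem_centralizer_iff.mpr fun z hz => ?_
    have hz' : g⁻¹ * z * g ∈ X := by
      have := (Subgroup.mem_normalizer_iff.mp (inv_mem hgN) z).mp hz
      rwa [inv_inv] at this
    have e := Subgroup.mem_centralizer_iff.mp hy _ hz'
    calc z * (g * y * g⁻¹) = g * (g⁻¹ * z * g * y) * g⁻¹ := by group
      _ = g * (y * (g⁻¹ * z * g)) * g⁻¹ := by rw [e]
      _ = g * y * g⁻¹ * z := by group
  letI : MulAction Z C :=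
    { smul := fun g y => ⟨(g : G) * y * (g : G)⁻¹, hnorm g g.2 y y.2⟩
      one_smul := fun y => Subtype.ext (by show ((1 : Z) : G) * y * ((1 : Z) : G)⁻¹ = y; simp)
      mul_smul := fun g k y => Subtype.ext (by
        show ((g * k : Z) : G) * y * ((g * k : Z) : G)⁻¹ = g * (k * y * (k : G)⁻¹) * (g : G)⁻¹
        simp only [Subgroup.coe_mul]; group) }
  have hPG : IsPGroup 11 Z := IsPGroup.of_card (n := 1) (by rw [hZ, pow_one])
  have hmod := hPG.card_modEq_card_fixedPoints C
  have e : Nat.card (MulAction.fixedPoints Z C) = Nat.card K := Nat.card_congr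
    { toFun := fun y => ⟨(y.1 : G), y.1.2, Subgroup.mem_centralizer_iff.mpr fun g hg =>
        mul_inv_eq_iff_eq_mul.mp (congrArg Subtype.val (y.2 ⟨g, hg⟩))⟩
      invFun := fun y => ⟨⟨y.1, y.2.1⟩, fun g => Subtype.ext
        (mul_inv_eq_iff_eq_mul.mpr (Subgroup.mem_centralizer_iff.mp y.2.2 g g.2))⟩
      left_inv := fun y => rfl
      right_inv := fun y => rfl }
  rw [e, hK1] at hmod
  exact hmod

/-- Subgroups of order twenty-three. -/
theorem twentythree {X : Subgroup G} (hX : Nat.card X = 23) :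
    Nat.card ↥(Subgroup.centralizer (X : Set G)) = 23 ∧
      Nat.card ↥(Subgroup.normalizer (X : Set G)) = 23 * 11 := by
  obtain ⟨k, hk22, hN, hd, hmod⟩ := norm_data hG hp h23 B (Or.inr rfl) hX
  have hk : k < 23 := by have := Nat.le_of_dvd (by norm_num) hk22; omega
  obtain ⟨b, hC | hC⟩ := cent_form hG hp h23 B (Or.inr ⟨rfl, rfl⟩) hX
  · rw [hC] at hN hd hmod
    have h11 : k = 11 ∨ k = 22 → 1 ≤ b.val → False := fun hk' hb => by
      have h1 := eleven_mod hG hp h23 B (X := X)
        (by rw [hN]; exact dvd_mul_of_dvd_right (by rcases hk' with rfl | rfl <;> norm_num) _)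
        (by rw [hC]; exact (by decide : Odd 23).mul (Odd.pow (by decide)))
        (by rw [hC]; exact Nat.Coprime.mul_left (by norm_num) (Nat.Coprime.pow_left _ (by norm_num)))
      rw [hC] at h1
      rcases options_twentythree b ⟨k, hk⟩ ⟨hk22, hd⟩ hmod with ⟨hb', -⟩ | ⟨hb', -⟩ | ⟨hb', -⟩ <;>
        (rw [hb'] at h1; first | omega | norm_num at h1)
    rcases options_twentythree b ⟨k, hk⟩ ⟨hk22, hd⟩ hmod with ⟨hb, hk'⟩ | ⟨hb, hk'⟩ | ⟨hb, hk'⟩
    · change k = 11 at hk'
      exact ⟨by rw [hC, hb]; norm_num, by rw [hN, hb, hk']; norm_num⟩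
    · exact (h11 (Or.inl hk') (by omega)).elim
    · exact (h11 (Or.inr hk') (by omega)).elim
  · rw [hC] at hN hd hmod
    exfalso
    rcases options_both b ⟨k, hk⟩ ⟨hk22, hd⟩ hmod with hk' | hk'
    · change k = 1 at hk'
      exact no_one hG hp h23 B (Or.inr rfl) hX (by rw [hN, hC, hk', mul_one])
    · change k = 2 at hk'
      exact no_two_case hG hp h23 B (Or.inr rfl) hX hC
        (Nat.Coprime.mul_right (by norm_num) (Nat.Coprime.pow_right _ (by norm_num)))
        (by rw [hN, hk', mul_comm])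

set_option maxHeartbeats 1000000 in
/-- A large subgroup of a Sylow 3-subgroup contains a root. -/
theorem root_mem {P : Subgroup G} (hP : Nat.card P = 3 ^ 12) : ∃ r ∈ P, RootQuad.Root D r := by
  classical
  haveI : Fact (Nat.Prime 3) := ⟨by norm_num⟩
  have hD := cls_of_group_prim hG hp
  obtain ⟨r, hr⟩ := RootQuad.exists_m23 hD hp h23.1 B
  have h3 : ∀ i, (r i) ^ 3 = 1 := fun i => by
    obtain ⟨a, ha, d, hd, had, e⟩ := hr.root i
    rw [e]; exact pow_three hD.1 ha hd had
  set R := Subgroup.closure (Set.range r)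
  have hcomm : R ≤ Subgroup.centralizer (R : Set G) := by
    have h1 : Set.range r ⊆ Subgroup.centralizer (Set.range r) := by
      rintro _ ⟨i, rfl⟩
      refine Subgroup.mem_centralizer_iff.mpr ?_
      rintro _ ⟨j, rfl⟩
      exact (hr.comm j i).eq
    have h2 : R ≤ Subgroup.centralizer (Set.range r) := (Subgroup.closure_le _).mpr h1
    rwa [← Subgroup.centralizer_closure] at h2
  have hcube : ∀ x ∈ R, x ^ 3 = 1 := by
    intro x hx
    induction hx using Subgroup.closure_induction with
    | mem x hx => obtain ⟨i, rfl⟩ := hx; exact h3 i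
    | one => rw [one_pow]
    | mul x y hx hy ex ey =>
      have hc : Commute x y := (Subgroup.mem_centralizer_iff.mp (hcomm hx) y hy).symm
      rw [hc.mul_pow, ex, ey, mul_one]
    | inv x hx ex => rw [inv_pow, ex, inv_one]
  have hRP : IsPGroup 3 R := fun x => ⟨1, Subtype.ext (by rw [pow_one]; exact hcube x x.2)⟩
  obtain ⟨Q, hQ⟩ := hRP.exists_le_sylow
  obtain ⟨S, hS⟩ := (IsPGroup.of_card hP).exists_le_sylow
  obtain ⟨g, hg⟩ := MulAction.exists_smul_eq G Q S
  let r' : Fin 3 → G := fun i => g * r i * g⁻¹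
  have hr'S : ∀ i, r' i ∈ (S : Subgroup G) := by
    intro i
    rw [← hg]
    exact ⟨r i, hQ (Subgroup.subset_closure ⟨i, rfl⟩), rfl⟩
  have hroot : ∀ y, RootQuad.Root D y → RootQuad.Root D (g * y * g⁻¹) := by
    rintro _ ⟨a, ha, d, hd, had, rfl⟩
    exact ⟨_, cls_conj hD g ha, _, cls_conj hD g hd, fun c => had ((commute_cj_iff g).mp c), by group⟩
  set P' := P.subgroupOf (S : Subgroup G)
  obtain ⟨m, hm⟩ := S.2.exists_card_eq
  have hidx : 3 ^ 12 * P'.index = 3 ^ m := by
    rw [← hm, ← P'.card_mul_index, Nat.card_congr (Subgroup.subgroupOfEquivOfLe hS).toEquiv, hP]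
  have hm13 : m ≤ 13 := by
    by_contra hlt
    have h14 : 3 ^ 14 ∣ Nat.card G :=
      (Nat.pow_dvd_pow 3 (by omega : 14 ≤ m)).trans (hm ▸ Subgroup.card_subgroup_dvd_card _)
    rw [card_eq hG hp h23 B] at h14
    norm_num at h14
  have hle : P'.index ≤ 3 := by
    have := Nat.pow_le_pow_right (n := 3) (by norm_num) hm13
    rw [← hidx] at this
    omega
  let f : Option (Fin 3) → ↥(S : Subgroup G) ⧸ P' := fun o => QuotientGroup.mk
    (o.elim 1 fun i => ⟨r' i, hr'S i⟩)
  haveI : Fintype (↥(S : Subgroup G) ⧸ P') := Fintype.ofFinite _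
  obtain ⟨u, v, hne, e⟩ := Fintype.exists_ne_map_eq_of_card_lt f (by
    rw [← Nat.card_eq_fintype_card, ← Subgroup.index, Fintype.card_option, Fintype.card_fin]
    omega)
  have e' := QuotientGroup.eq.mp e
  rw [Subgroup.mem_subgroupOf] at e'
  match u, v, hne, e' with
  | none, none, hne, _ => exact absurd rfl hne
  | none, some i, _, e' =>
    exact ⟨r' i, by simpa using e', hroot _ (hr.root i)⟩
  | some i, none, _, e' =>
    exact ⟨r' i, by simpa using e', hroot _ (hr.root i)⟩
  | some i, some j, hne, e' =>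
    refine ⟨(r' i)⁻¹ * r' j, by simpa using e', ?_⟩
    rw [show (r' i)⁻¹ * r' j = g * ((r i)⁻¹ * r j) * g⁻¹ by simp only [r']; group]
    exact hroot _ (hr.quot i j fun k => hne (by rw [k]))

/-- Subgroups of order seventeen. -/
theorem seventeen {X : Subgroup G} (hX : Nat.card X = 17) :
    Nat.card ↥(Subgroup.centralizer (X : Set G)) = 17 ∧
      Nat.card ↥(Subgroup.normalizer (X : Set G)) = 17 * 16 := by
  obtain ⟨k, hk16, hN, hd, hmod⟩ := norm_data hG hp h23 B (Or.inl rfl) hX
  have hk : k < 17 := by have := Nat.le_of_dvd (by norm_num) hk16; omega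
  obtain ⟨b, hC | hC⟩ := cent_form hG hp h23 B (Or.inl ⟨rfl, rfl⟩) hX
  · rw [hC] at hN hd hmod
    rcases options_seventeen b ⟨k, hk⟩ ⟨hk16, hd⟩ hmod with ⟨hb, hk'⟩ | ⟨hb, hk'⟩ | ⟨hb, hk'⟩ | ⟨hb, hk'⟩
    · change k = 16 at hk'
      exact ⟨by rw [hC, hb]; norm_num, by rw [hN, hb, hk']; norm_num⟩
    · change k = 1 at hk'
      exact (no_one hG hp h23 B (Or.inl rfl) hX (by rw [hN, hC, hk', mul_one])).elim
    · change k = 2 at hk'
      exact (no_two_case hG hp h23 B (Or.inl rfl) hX hC (Nat.Coprime.pow_right _ (by norm_num))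
        (by rw [hN, hk', mul_comm])).elim
    · exfalso
      haveI : Fact (Nat.Prime 3) := ⟨by norm_num⟩
      obtain ⟨P, hP⟩ := Sylow.exists_subgroup_card_pow_prime (G := ↥(Subgroup.centralizer (X : Set G))) 3
        (n := 12) (by rw [hC, hb]; exact dvd_mul_left _ _)
      obtain ⟨r, hr, hroot⟩ := root_mem hG hp h23 B (P := P.map (Subgroup.centralizer (X : Set G)).subtype)
        (by rw [← hP]; exact (Nat.card_congr (P.equivMapOfInjective _ Subtype.val_injective).toEquiv).symm)
      obtain ⟨r₀, -, rfl⟩ := hr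
      exact no_root hG hp h23 B hX (by norm_num) (free hG hp h23 B (Or.inl rfl) hX) hroot
        fun x hx => (Subgroup.mem_centralizer_iff.mp r₀.2 x hx).symm
  · exfalso
    haveI : Fact (Nat.Prime 23) := ⟨by norm_num⟩
    obtain ⟨y, hy⟩ := exists_prime_orderOf_dvd_card' (G := ↥(Subgroup.centralizer (X : Set G))) 23
      (by rw [hC]; exact dvd_mul_of_dvd_right (dvd_mul_right _ _) _)
    rw [← Subgroup.orderOf_coe] at hy
    have hle : X ≤ Subgroup.centralizer (Subgroup.zpowers (y : G) : Set G) := fun x hx =>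
      Subgroup.mem_centralizer_iff.mpr fun z hz => by
        obtain ⟨j, rfl⟩ := Subgroup.mem_zpowers_iff.mp hz
        have hc : Commute x (y : G) := Subgroup.mem_centralizer_iff.mp y.2 x hx
        exact (hc.zpow_right j).symm.eq
    have := Subgroup.card_dvd_of_le hle
    rw [hX, (twentythree hG hp h23 B (X := Subgroup.zpowers (y : G)) (by rw [Nat.card_zpowers, hy])).1] at this
    norm_num at this

end

end CfsgThreeTrans.M23.Seventeen
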