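/-
Type M(23): the normaliser of a subgroup of order three inside the centraliser of a transposition maps onto a
normaliser in the quotient of type M(22).
-/
import Cfsg.Agent.Lib.ThreeTrans.M23.Unique
import Cfsg.Agent.Lib.ThreeTrans.M22.Unique.Normalizer

set_option autoImplicit false
set_option maxRecDepth 100000
set_option linter.unusedSectionVars false

namespace CfsgThreeTrans.M23.Local

open Cfsg CfsgLib CfsgLib.CosetEnum CfsgThreeTrans CfsgThreeTrans.M23

universe u

theorem width_image_on {A B : Type*} (f : A → B) [Group A] [Group B] {S : Set A} (hf : Set.InjOn f S)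
    (hc : ∀ a ∈ S, ∀ b ∈ S, (Commute (f a) (f b) ↔ Commute a b)) :
    Cfsg.commutingWidth (f '' S) = Cfsg.commutingWidth S := by
  unfold Cfsg.commutingWidth
  congr 1
  ext n
  constructor
  · rintro ⟨E, hE, hfin, hcom, rfl⟩
    refine ⟨S ∩ f ⁻¹' E, Set.inter_subset_left, Set.Finite.of_finite_image (hfin.subset (by
      rintro _ ⟨a, ha, rfl⟩; exact ha.2)) (hf.mono Set.inter_subset_left), fun a ha b hb =>
      (hc a ha.1 b hb.1).mp (hcom _ ha.2 _ hb.2), ?_⟩
    have e : f '' (S ∩ f ⁻¹' E) = E := by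
      rw [Set.image_inter_preimage]
      exact Set.inter_eq_right.mpr hE
    conv_rhs => rw [← e]
    exact (Set.InjOn.ncard_image (hf.mono Set.inter_subset_left)).symm
  · rintro ⟨E, hE, hfin, hcom, rfl⟩
    refine ⟨f '' E, Set.image_mono hE, hfin.image _, ?_, Set.InjOn.ncard_image (hf.mono hE)⟩
    rintro _ ⟨a, ha, rfl⟩ _ ⟨b, hb, rfl⟩
    exact (hc a (hE ha) b (hE hb)).mpr (hcom a ha b hb)

variable {G : Type u} [Group G] [Finite G] {D : Set G}
variable (hG : IsThreeTranspositionGroup D) (hp : IsPrimitiveUnderConj D) (h23 : IsOfTypeM23 G D)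
include hG hp h23

theorem exists_local_base (B : Base D) {X : Subgroup G} (hX : Nat.card X = 3)
    (hXt : X ≤ Subgroup.centralizer {B.t}) :
    ∃ (Y : Subgroup (Qt D B.t))
      (φ : ↥(Subgroup.normalizer (X : Set G) ⊓ Subgroup.centralizer {B.t}) →* ↥(Subgroup.normalizer (Y : Set (Qt D B.t)))),
      Nat.card Y = 3 ∧ Function.Surjective φ ∧ (∀ g, φ g = 1 ↔ g.1 = 1 ∨ g.1 = B.t) ∧
      (∀ g, g.1 ∈ X → (φ g).1 ∈ Y) ∧
      Cfsg.commutingWidth (Et D B.t ∩ (Subgroup.centralizer (Y : Set (Qt D B.t)) : Set (Qt D B.t))) =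
        Cfsg.commutingWidth (Ds D B.t ∩ (Subgroup.centralizer (X : Set G) : Set G)) := by
  classical
  have hD := cls_of_group_prim hG hp
  have hZ := h23.1
  have hcen := centralizer_eq hD hp hZ B hG h23 B.ht
  have hle : Subgroup.normalizer (X : Set G) ⊓ Subgroup.centralizer {B.t} ≤ Hs D B.t := inf_le_right.trans hcen.le
  have hXH : X ≤ Hs D B.t := hXt.trans hcen.le
  have hker : ∀ u : ↥(Hs D B.t), qt D B.t u = 1 → u.1 = 1 ∨ u.1 = B.t := fun u hu =>
    ker_cases hD hp hZ B u.2 (by rw [bar_eq]; exact hu)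
  set X' := X.subgroupOf (Hs D B.t)
  set Y := X'.map (qt D B.t) with hY
  have ht2 : B.t * B.t = 1 := mul_self hD.1 B.ht
  have ht1 : B.t ≠ 1 := fun e => by
    have := hD.1.1 B.t B.ht
    rw [e, orderOf_one] at this
    omega
  have hX3 : ∀ x ∈ X, x ^ 3 = 1 := fun x hx => by
    have := orderOf_dvd_natCard (⟨x, hx⟩ : X)
    rw [hX, orderOf_dvd_iff_pow_eq_one] at this
    exact congrArg Subtype.val this
  have huniq : ∀ v ∈ X, ∀ w ∈ Hs D B.t, w ^ 3 = 1 → bar D B.t w = bar D B.t v → w = v := by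
    intro v hv w hw hw3 hb
    rcases bar_eq_cases hD hp hZ B hw (hXH hv) hb with e | e
    · exact e
    · exfalso
      have hc : Commute v B.t := Subgroup.mem_centralizer_singleton_iff.mp (hXt hv)
      rw [e, hc.mul_pow, hX3 v hv, one_mul, pow_succ, pow_two, ht2, one_mul] at hw3
      exact ht1 hw3
  have hinj : ∀ a b : ↥(Hs D B.t), a.1 ∈ X → b.1 ∈ X → qt D B.t a = qt D B.t b → a = b := fun a b ha hb e =>
    Subtype.ext (huniq b.1 hb a.1 a.2 (hX3 _ ha) (by rw [bar_eq, bar_eq, e]))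
  have hYcard : Nat.card Y = 3 := by
    let f : ↥X' → ↥Y := fun a => ⟨qt D B.t a.1, ⟨a.1, a.2, rfl⟩⟩
    have hf : Function.Bijective f := by
      constructor
      · intro a b e
        exact Subtype.ext (hinj a.1 b.1 a.2 b.2 (congrArg Subtype.val e))
      · rintro ⟨_, a, ha, rfl⟩
        exact ⟨⟨a, ha⟩, rfl⟩
    rw [← Nat.card_congr (Equiv.ofBijective f hf), Nat.card_congr (Subgroup.subgroupOfEquivOfLe hXH).toEquiv, hX]
  let φ0 : ↥(Subgroup.normalizer (X : Set G) ⊓ Subgroup.centralizer {B.t}) →* Qt D B.t :=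
    (qt D B.t).comp (Subgroup.inclusion hle)
  have hnorm : ∀ g, φ0 g ∈ Subgroup.normalizer (Y : Set (Qt D B.t)) := by
    intro g
    have hu : (⟨g.1, hle g.2⟩ : ↥(Hs D B.t)) ∈ Subgroup.normalizer (X' : Set ↥(Hs D B.t)) := by
      rw [Subgroup.mem_normalizer_iff]
      intro h
      exact Subgroup.mem_normalizer_iff.mp g.2.1 h.1
    exact Subgroup.le_normalizer_map (qt D B.t) ⟨_, hu, rfl⟩
  refine ⟨Y, φ0.codRestrict _ hnorm, hYcard, fun y => ?_, fun g => ?_, fun g hg => ⟨⟨g.1, hle g.2⟩, hg, rfl⟩, ?_⟩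
  · obtain ⟨u, hu⟩ := QuotientGroup.mk'_surjective _ y.1
    have hmap : X.map (MulAut.conj u.1).toMonoidHom = X := by
      refine Subgroup.eq_of_le_of_card_ge ?_ (by rw [Subgroup.card_map_of_injective (MulAut.conj u.1).injective])
      rintro _ ⟨x, hx, rfl⟩
      show u.1 * x * u.1⁻¹ ∈ X
      have hm : qt D B.t (u * ⟨x, hXH hx⟩ * u⁻¹) ∈ Y := by
        rw [map_mul, map_mul, map_inv, hu]
        exact (Subgroup.mem_normalizer_iff.mp y.2 _).mp ⟨_, hx, rfl⟩
      obtain ⟨v, hv, ev⟩ := hm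
      have e := huniq v.1 hv (u.1 * x * u.1⁻¹) (mul_mem (mul_mem u.2 (hXH hx)) (inv_mem u.2))
        (by rw [← MulAut.conj_apply, ← map_pow, hX3 x hx, map_one]) (by
          rw [show u.1 * x * u.1⁻¹ = ((u * ⟨x, hXH hx⟩ * u⁻¹ : ↥(Hs D B.t)) : G) from rfl, bar_eq, bar_eq]
          exact ev.symm)
      exact e ▸ hv
    refine ⟨⟨u.1, Subgroup.mem_normalizer_iff.mpr fun h => ?_, hcen.ge u.2⟩, Subtype.ext hu⟩
    constructor
    · intro hh
      rw [← hmap]
      exact ⟨h, hh, rfl⟩
    · intro hh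
      rw [← hmap] at hh
      obtain ⟨k, hk, e⟩ := hh
      have : k = h := (MulAut.conj u.1).injective e
      exact this ▸ hk
  · constructor
    · intro h
      exact hker _ (congrArg Subtype.val h)
    · intro h
      refine Subtype.ext ((QuotientGroup.eq_one_iff _).mpr ?_)
      rw [center_closure hD hp hZ B hG h23 B.ht, Subgroup.mem_subgroupOf]
      rcases h with e | e
      · show g.1 ∈ _
        rw [e]; exact one_mem _
      · show g.1 ∈ _
        rw [e]; exact Subgroup.mem_zpowers _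
  · have e : bar D B.t '' (Ds D B.t ∩ (Subgroup.centralizer (X : Set G) : Set G)) =
        Et D B.t ∩ (Subgroup.centralizer (Y : Set (Qt D B.t)) : Set (Qt D B.t)) := by
      ext w
      constructor
      · rintro ⟨d, ⟨hd, hdc⟩, rfl⟩
        have hdH : d ∈ Hs D B.t := Subgroup.subset_closure hd
        refine ⟨bar_mem hD B hd, Subgroup.mem_centralizer_iff.mpr ?_⟩
        rintro _ ⟨v, hv, rfl⟩
        rw [← bar_eq v, ← bar_mul hD B v.2 hdH, ← bar_mul hD B hdH v.2, Subgroup.mem_centralizer_iff.mp hdc v.1 hv]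
      · rintro ⟨hw, hwc⟩
        obtain ⟨d, hd, rfl⟩ := hw
        refine ⟨d.1, ⟨hd, Subgroup.mem_centralizer_iff.mpr fun x hx => ?_⟩, bar_eq d⟩
        have hq := Subgroup.mem_centralizer_iff.mp hwc _ ⟨⟨x, hXH hx⟩, hx, rfl⟩
        have e := huniq x hx (d.1 * x * d.1⁻¹) (mul_mem (mul_mem d.2 (hXH hx)) (inv_mem d.2))
          (by rw [← MulAut.conj_apply, ← map_pow, hX3 x hx, map_one]) (by
            rw [show d.1 * x * d.1⁻¹ = ((d * ⟨x, hXH hx⟩ * d⁻¹ : ↥(Hs D B.t)) : G) from rfl, bar_eq,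
              show bar D B.t x = bar D B.t ((⟨x, hXH hx⟩ : ↥(Hs D B.t)) : G) from rfl, bar_eq, map_mul, map_mul,
              map_inv, ← hq, mul_inv_cancel_right])
        exact (mul_inv_eq_iff_eq_mul.mp e).symm
    rw [← e]
    exact width_image_on _ ((bar_inj hD B).mono Set.inter_subset_left) fun a ha b hb => bar_commute hD B ha.1 hb.1

/-- The normaliser in the centraliser of a transposition maps onto the normaliser of a root. -/
theorem exists_local {X : Subgroup G} (hX : Nat.card X = 3) {a : G} (ha : a ∈ D)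
    (hXa : X ≤ Subgroup.centralizer {a}) {k : ℕ} (hk : k < 4)
    (hw : Cfsg.commutingWidth (Ds D a ∩ (Subgroup.centralizer (X : Set G) : Set G)) = Fi22Three.wid.getD k 0) :
    ∃ φ : ↥(Subgroup.normalizer (X : Set G) ⊓ Subgroup.centralizer {a}) →*
        ↥(Subgroup.normalizer ((M22.Unique.rootSub k : Subgroup Fi22Three.K) : Set Fi22Three.K)),
      Function.Surjective φ ∧ (∀ g, φ g = 1 ↔ g.1 = 1 ∨ g.1 = a) ∧
      ∀ g, g.1 ∈ X → (φ g).1 ∈ M22.Unique.rootSub k := by
  classical
  have hD := cls_of_group_prim hG hp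
  obtain ⟨B⟩ := exists_base hD hp h23
  obtain ⟨g, hg⟩ := cls_exists_conj hD ha B.ht
  set e := MulAut.conj g with he
  set X' := X.map e.toMonoidHom with hX'
  have hcenmap : (Subgroup.centralizer {a}).map e.toMonoidHom = Subgroup.centralizer {B.t} := by
    ext y
    simp only [Subgroup.mem_map, Subgroup.mem_centralizer_singleton_iff]
    constructor
    · rintro ⟨z, hz, rfl⟩
      rw [← hg]
      exact ((show Commute z a from hz).map e.toMonoidHom).eq
    · intro hy
      refine ⟨e.symm y, ?_, e.apply_symm_apply y⟩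
      rw [← hg] at hy
      exact e.injective (by rw [map_mul, map_mul, e.apply_symm_apply]; exact hy)
  have hXt : X' ≤ Subgroup.centralizer {B.t} := hcenmap ▸ Subgroup.map_mono hXa
  have hX'3 : Nat.card X' = 3 := by rw [hX', Subgroup.card_map_of_injective e.injective, hX]
  obtain ⟨Y, φ, hY, hφs, hφk, hφX, hφw⟩ := exists_local_base hG hp h23 B hX'3 hXt
  have hwX : Cfsg.commutingWidth (Ds D B.t ∩ (Subgroup.centralizer (X' : Set G) : Set G)) =
      Fi22Three.wid.getD k 0 := by
    rw [← hw]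
    have hDs : e '' Ds D a = Ds D B.t := by rw [← hg, ← cj_Ds hD g a]; rfl
    rw [← hDs]
    exact M22.Unique.width_map e (Ds D a) X
  rw [← hφw] at hwX
  obtain ⟨e22, he22⟩ := M22.Unique.exists_iso (cls_group B.cls) B.prim B.ty
  obtain ⟨f, hf⟩ := M22.Unique.exists_root_iso (cls_group B.cls).2.1 e22 he22 hY hk hwX
  have hmapN : (Subgroup.normalizer (X : Set G) ⊓ Subgroup.centralizer {a}).map e.toMonoidHom =
      Subgroup.normalizer (X' : Set G) ⊓ Subgroup.centralizer {B.t} := by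
    rw [Subgroup.map_inf _ _ _ e.injective, hcenmap]
    congr 1
    exact Subgroup.map_equiv_normalizer_eq X e
  let e1 := ((Subgroup.normalizer (X : Set G) ⊓ Subgroup.centralizer {a}).equivMapOfInjective _ e.injective).trans
    (MulEquiv.subgroupCongr hmapN)
  subst hf
  refine ⟨(M22.Unique.normIso f (M22.Unique.rootSub k)).symm.toMonoidHom.comp (φ.comp e1.toMonoidHom),
    (M22.Unique.normIso f _).symm.surjective.comp (hφs.comp e1.surjective), fun z => ?_, fun z hz => ?_⟩
  · show (M22.Unique.normIso f _).symm (φ (e1 z)) = 1 ↔ _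
    rw [map_eq_one_iff _ (MulEquiv.injective _), hφk]
    show e z.1 = 1 ∨ e z.1 = B.t ↔ _
    rw [map_eq_one_iff _ e.injective, show B.t = e a from hg.symm, e.injective.eq_iff]
  · have hm := hφX (e1 z) ⟨z.1, hz, rfl⟩
    obtain ⟨w, hw', ew⟩ := hm
    have : ((M22.Unique.normIso f (M22.Unique.rootSub k)).symm (φ (e1 z))).1 = w :=
      f.injective (by
        rw [show f w = (φ (e1 z)).1 from ew]
        exact congrArg Subtype.val ((M22.Unique.normIso f (M22.Unique.rootSub k)).apply_symm_apply (φ (e1 z))))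
    show ((M22.Unique.normIso f _).symm (φ (e1 z))).1 ∈ _
    rw [this]
    exact hw'

end CfsgThreeTrans.M23.Local
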