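/-
Type M(23): the classes of subgroups of order three.
-/
import Cfsg.Agent.Lib.ThreeTrans.M23.Unique
import Cfsg.Agent.Lib.ThreeTrans.M22.Unique.Transfer
import Cfsg.Agent.Lib.CosetEnum.Fi23Three.Classes
import Cfsg.Agent.Lib.CosetEnum.Fi23Three.Widths

set_option autoImplicit false
set_option maxRecDepth 100000
set_option linter.unusedSectionVars false

namespace CfsgThreeTrans.M23

open Cfsg CfsgLib.CosetEnum

variable {G : Type*} [Group G] [Finite G] {D : Set G}

theorem generator_of_card {X : Subgroup G} (hX : Nat.card X = 3) : ∃ x : G, orderOf x = 3 ∧ X = Subgroup.zpowers x := by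
  obtain ⟨y, hy⟩ := (isCyclic_iff_exists_zpowers_eq_top (α := X)).mp (isCyclic_of_prime_card (p := 3) hX)
  refine ⟨y, by rw [Subgroup.orderOf_coe, ← Nat.card_zpowers, hy, Subgroup.card_top, hX], ?_⟩
  have := congrArg (Subgroup.map X.subtype) hy
  rw [MonoidHom.map_zpowers, ← MonoidHom.range_eq_map, Subgroup.range_subtype] at this
  exact this.symm

variable (hG : IsThreeTranspositionGroup D) (hp : IsPrimitiveUnderConj D) (h23 : IsOfTypeM23 G D)
include hG hp h23

theorem exists_model : ∃ e : Fi23Three.K ≃* G, e '' conjugatesOf Fi23Three.tz = D := by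
  obtain ⟨e, he⟩ := Unique.exists_iso hG hp h23
  exact ⟨e, by rw [← Fi23Three.conjugates_eq]; exact he⟩

/-- An element of order three commutes with a transposition. -/
theorem exists_commute {x : G} (hx : orderOf x = 3) : ∃ d ∈ D, Commute x d := by
  obtain ⟨e, he⟩ := exists_model hG hp h23
  obtain ⟨d, hd, hc⟩ := Fi23Three.exists_commute (x := e.symm x) (by rw [MulEquiv.orderOf_eq, hx])
  exact ⟨e d, he ▸ ⟨d, hd, rfl⟩, by simpa using hc.map e⟩

theorem width_conj (g : G) (X : Subgroup G) :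
    Cfsg.commutingWidth (D ∩ (Subgroup.centralizer ((X.map (MulAut.conj g).toMonoidHom : Subgroup G) : Set G) : Set G))
      = Cfsg.commutingWidth (D ∩ (Subgroup.centralizer (X : Set G) : Set G)) := by
  have hDg : (MulAut.conj g : G ≃* G) '' D = D := by
    refine Set.Subset.antisymm (by rintro _ ⟨d, hd, rfl⟩; exact hG.2.1 g d hd) fun d hd => ?_
    exact ⟨g⁻¹ * d * g, by simpa using hG.2.1 g⁻¹ d hd, by simp [mul_assoc]⟩
  conv_lhs => rw [← hDg]
  exact M22.Unique.width_map (MulAut.conj g) D X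

/-- Four subgroups of order three of widths 7, 5, 4, 1. -/
theorem exists_widths : ∃ Y : Fin 4 → Subgroup G, (∀ i, Nat.card (Y i) = 3) ∧
    ∀ i : Fin 4, Cfsg.commutingWidth (D ∩ (Subgroup.centralizer ((Y i : Subgroup G) : Set G) : Set G)) =
      ([7, 5, 4, 1] : List ℕ).getD i 0 := by
  have hD := cls_of_group_prim hG hp
  obtain ⟨B⟩ := exists_base hD hp h23
  obtain ⟨c, hc, htc⟩ := exists_noncommute hD hp.2.1 B.ht
  obtain ⟨e, he⟩ := exists_model hG hp h23
  have hx3 : orderOf (B.t * c) = 3 := orderOf_eq_prime (pow_three hD.1 B.ht hc htc) (M22.ThreeA.prod_ne_one hD.1 B.ht htc)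
  have hw7 : Cfsg.commutingWidth (D ∩
      (Subgroup.centralizer ((Subgroup.zpowers (B.t * c) : Subgroup G) : Set G) : Set G)) = 7 := by
    have e7 : D ∩ (Subgroup.centralizer ((Subgroup.zpowers (B.t * c) : Subgroup G) : Set G) : Set G) =
        Ds D B.t ∩ Ds D c := by
      ext z
      constructor
      · rintro ⟨hz, hc'⟩
        exact (ThreeA.cent_prod hG hp h23 B B.ht hc htc hz).mp (Subgroup.mem_centralizer_iff.mp hc' _ (Subgroup.mem_zpowers _)).symm
      · intro h
        have hcom := (ThreeA.cent_prod hG hp h23 B B.ht hc htc h.1.1).mpr h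
        refine ⟨h.1.1, Subgroup.mem_centralizer_iff.mpr fun y hy => ?_⟩
        obtain ⟨n, rfl⟩ := Subgroup.mem_zpowers_iff.mp hy
        exact (hcom.zpow_right n).eq.symm
    rw [e7]
    exact ThreeA.width hG hp h23 B B.ht hc htc
  have hw : ∀ k < 3, Nat.card ((Subgroup.zpowers (Fi23Three.rt k)).map (e : Fi23Three.K →* G)) = 3 ∧
      Cfsg.commutingWidth (D ∩ (Subgroup.centralizer
        ((((Subgroup.zpowers (Fi23Three.rt k)).map (e : Fi23Three.K →* G) : Subgroup G)) : Set G) : Set G)) =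
        Fi23Three.wid.getD k 0 := by
    intro k hk
    refine ⟨by rw [Subgroup.card_map_of_injective e.injective, Nat.card_zpowers, Fi23Three.rt_order hk], ?_⟩
    rw [← he, M22.Unique.width_map]
    exact Fi23Three.width_rt hk
  refine ⟨![Subgroup.zpowers (B.t * c), (Subgroup.zpowers (Fi23Three.rt 0)).map (e : Fi23Three.K →* G),
    (Subgroup.zpowers (Fi23Three.rt 1)).map (e : Fi23Three.K →* G),
    (Subgroup.zpowers (Fi23Three.rt 2)).map (e : Fi23Three.K →* G)], fun i => ?_, fun i => ?_⟩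
  · fin_cases i
    · show Nat.card (Subgroup.zpowers (B.t * c)) = 3
      rw [Nat.card_zpowers, hx3]
    · exact (hw 0 (by norm_num)).1
    · exact (hw 1 (by norm_num)).1
    · exact (hw 2 (by norm_num)).1
  · fin_cases i
    · exact hw7
    · exact (hw 0 (by norm_num)).2
    · exact (hw 1 (by norm_num)).2
    · exact (hw 2 (by norm_num)).2

/-- There are at most four classes. -/
theorem four_invariant : ∃ P : Subgroup G → Fin 4 → Prop, (∀ X : Subgroup G, Nat.card X = 3 → ∃ k, P X k) ∧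
    ∀ X Y k, P X k → P Y k → ∃ g : G, X.map (MulAut.conj g).toMonoidHom = Y := by
  classical
  have hD := cls_of_group_prim hG hp
  obtain ⟨B⟩ := exists_base hD hp h23
  have hZ := h23.1
  obtain ⟨e, he⟩ := M22.Unique.exists_iso (cls_group B.cls) B.prim B.ty
  have hcen := centralizer_eq hD hp hZ B hG h23 B.ht
  refine ⟨fun X k => ∃ g x : G, ∃ h : Qt D B.t, orderOf x = 3 ∧ x ∈ Hs D B.t ∧
    X.map (MulAut.conj g).toMonoidHom = Subgroup.zpowers x ∧
    (Subgroup.zpowers (bar D B.t x)).map (MulAut.conj h).toMonoidHom =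
      (M22.Unique.rootSub k).map (e : Fi22Three.K →* Qt D B.t), ?_, ?_⟩
  · intro X hX
    obtain ⟨x, hx, rfl⟩ := generator_of_card hX
    obtain ⟨d, hd, hxd⟩ := exists_commute hG hp h23 hx
    obtain ⟨g, hg⟩ := cls_exists_conj hD hd B.ht
    have hx' : g * x * g⁻¹ ∈ Hs D B.t := by
      rw [← hcen, Subgroup.mem_centralizer_singleton_iff, ← hg]
      exact (hxd.map (MulAut.conj g).toMonoidHom).eq
    have hx3 : orderOf (g * x * g⁻¹) = 3 := by rw [← MulAut.conj_apply, MulEquiv.orderOf_eq, hx]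
    have hb3 : orderOf (bar D B.t (g * x * g⁻¹)) = 3 := by
      set y := g * x * g⁻¹
      refine orderOf_eq_prime ?_ fun q => ?_
      · rw [show y = ((⟨y, hx'⟩ : ↥(Hs D B.t)) : G) from rfl, bar_eq, ← map_pow,
          show (⟨y, hx'⟩ : ↥(Hs D B.t)) ^ 3 = 1 from Subtype.ext (by
            show y ^ 3 = 1
            rw [← hx3, pow_orderOf_eq_one]), map_one]
      · rcases ker_cases hD hp hZ B hx' q with k | k
        · rw [k, orderOf_one] at hx3; omega
        · have : orderOf y ∣ 2 := orderOf_dvd_of_pow_eq_one (by rw [k, pow_two]; exact mul_self hD.1 B.ht)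
          rw [hx3] at this; omega
    obtain ⟨k, hk, h, hh⟩ := M22.Unique.three_cases e he (X := Subgroup.zpowers (bar D B.t (g * x * g⁻¹)))
      (by rw [Nat.card_zpowers, hb3])
    refine ⟨⟨k, hk⟩, g, g * x * g⁻¹, h, hx3, hx', ?_, hh⟩
    rw [MonoidHom.map_zpowers]
    rfl
  · rintro X Y k ⟨g, x, h, hx3, hx, hX, hbx⟩ ⟨g', y, h', hy3, hy, hY, hby⟩
    obtain ⟨u, hu⟩ := QuotientGroup.mk'_surjective _ (h'⁻¹ * h)
    have hm : (Subgroup.zpowers (bar D B.t x)).map (MulAut.conj (h'⁻¹ * h)).toMonoidHom =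
        Subgroup.zpowers (bar D B.t y) := by
      have e1 := congrArg (Subgroup.map (MulAut.conj h'⁻¹).toMonoidHom) (hbx.trans hby.symm)
      rw [Subgroup.map_map, Subgroup.map_map] at e1
      have e2 : ((MulAut.conj h'⁻¹).toMonoidHom.comp (MulAut.conj h).toMonoidHom) =
          (MulAut.conj (h'⁻¹ * h)).toMonoidHom := by ext a; simp [mul_assoc]
      have e3 : ((MulAut.conj h'⁻¹).toMonoidHom.comp (MulAut.conj h').toMonoidHom) = MonoidHom.id _ := by
        ext a; simp [mul_assoc]
      rwa [e2, e3, Subgroup.map_id] at e1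
    set z : G := (u : G) * x * (u : G)⁻¹
    have hz : z ∈ Hs D B.t := mul_mem (mul_mem u.2 hx) (inv_mem u.2)
    have hz3 : orderOf z = 3 := by rw [← hx3]; exact MulEquiv.orderOf_eq (MulAut.conj (u : G)) x
    have hbz : bar D B.t z ∈ Subgroup.zpowers (bar D B.t y) := by
      rw [← hm]
      refine ⟨bar D B.t x, Subgroup.mem_zpowers _, ?_⟩
      show (h'⁻¹ * h) * bar D B.t x * (h'⁻¹ * h)⁻¹ = _
      rw [show z = ((u * ⟨x, hx⟩ * u⁻¹ : ↥(Hs D B.t)) : G) from rfl, bar_eq, map_mul, map_mul, map_inv, ← hu,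
        show bar D B.t x = bar D B.t ((⟨x, hx⟩ : ↥(Hs D B.t)) : G) from rfl, bar_eq]
    obtain ⟨n, hn⟩ := Subgroup.mem_zpowers_iff.mp hbz
    have hbn : bar D B.t z = bar D B.t (y ^ n) := by
      rw [← hn, show y ^ n = (((⟨y, hy⟩ : ↥(Hs D B.t)) ^ n : ↥(Hs D B.t)) : G) by simp,
        bar_eq, map_zpow, ← bar_eq]
    have hzy : z ∈ Subgroup.zpowers y := by
      rcases bar_eq_cases hD hp hZ B hz (zpow_mem hy n) hbn with q | q
      · exact Subgroup.mem_zpowers_iff.mpr ⟨n, q.symm⟩
      · exfalso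
        have hc : Commute (y ^ n) B.t := ((closure_Ds_commute hy).zpow_left n)
        have hy3' : (y ^ n) ^ 3 = 1 := by
          rw [← zpow_natCast, ← zpow_mul, mul_comm, zpow_mul, zpow_natCast, ← hy3, pow_orderOf_eq_one, one_zpow]
        have h1 : z ^ 3 = B.t := by
          rw [q, hc.mul_pow, hy3', one_mul, pow_succ, pow_two, mul_self hD.1 B.ht, one_mul]
        rw [← hz3, pow_orderOf_eq_one] at h1
        rw [q, ← h1, mul_one] at hz3
        have := hD.1.1 B.t B.ht
        rw [← h1, orderOf_one] at this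
        omega
    have hzeq : Subgroup.zpowers z = Subgroup.zpowers y :=
      Subgroup.eq_of_le_of_card_ge (Subgroup.zpowers_le.mpr hzy) (by rw [Nat.card_zpowers, Nat.card_zpowers, hz3, hy3])
    refine ⟨g'⁻¹ * (u : G) * g, ?_⟩
    have eX := congrArg (Subgroup.map (MulAut.conj (g'⁻¹ * (u : G))).toMonoidHom) hX
    have eY := congrArg (Subgroup.map (MulAut.conj g'⁻¹).toMonoidHom) hY
    rw [Subgroup.map_map, MonoidHom.map_zpowers] at eX eY
    have e2 : ((MulAut.conj (g'⁻¹ * (u : G))).toMonoidHom.comp (MulAut.conj g).toMonoidHom) =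
        (MulAut.conj (g'⁻¹ * (u : G) * g)).toMonoidHom := by ext a; simp [mul_assoc]
    have e3 : ((MulAut.conj g'⁻¹).toMonoidHom.comp (MulAut.conj g').toMonoidHom) = MonoidHom.id G := by
      ext a; simp [mul_assoc]
    rw [e2] at eX
    rw [e3, Subgroup.map_id] at eY
    rw [eX, eY, ← MonoidHom.map_zpowers, ← MonoidHom.map_zpowers, ← hzeq, MonoidHom.map_zpowers, MonoidHom.map_zpowers]
    congr 1
    simp [z, mul_assoc]

end CfsgThreeTrans.M23
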