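/-
Type M(23): twins among the transpositions centralising a subgroup of order three.
-/
import Cfsg.Agent.Lib.ThreeTrans.M23.ThreeA
import Mathlib.GroupTheory.PGroup
import Mathlib.GroupTheory.GroupAction.Quotient

set_option autoImplicit false
set_option linter.unusedSectionVars false

namespace CfsgThreeTrans.M23.Twins

open Cfsg CfsgThreeTrans

universe u

variable {G : Type u} [Group G] [Finite G]

/-- The transpositions centralising a subgroup. -/
def Fx (D : Set G) (X : Subgroup G) : Set G := D ∩ (Subgroup.centralizer (X : Set G) : Set G)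

/-- Two of them that do not commute and agree on the others. -/
def Twin (D : Set G) (X : Subgroup G) (a b : G) : Prop :=
  a ∈ Fx D X ∧ b ∈ Fx D X ∧ ¬ Commute a b ∧ ∀ c ∈ Fx D X, c ≠ a → c ≠ b → (Commute a c ↔ Commute b c)

/-- The group of the products of twins. -/
def R (D : Set G) (X : Subgroup G) : Subgroup G := Subgroup.closure {g | ∃ a b, Twin D X a b ∧ g = a * b}

variable {D : Set G} {X : Subgroup G}

section

variable (hG : IsThreeTranspositionGroup D)
include hG

theorem Fx_conj {n : G} (hn : n ∈ Subgroup.normalizer (X : Set G)) {a : G} (ha : a ∈ Fx D X) :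
    n * a * n⁻¹ ∈ Fx D X := by
  refine ⟨hG.2.1 n a ha.1, Subgroup.mem_centralizer_iff.mpr fun x hx => ?_⟩
  have hy : n⁻¹ * x * n ∈ X := ((Subgroup.mem_normalizer_iff''.mp hn) x).mp hx
  have h := Subgroup.mem_centralizer_iff.mp ha.2 _ hy
  calc x * (n * a * n⁻¹) = n * (n⁻¹ * x * n * a) * n⁻¹ := by group
    _ = n * a * n⁻¹ * x := by rw [h]; group

theorem Twin.conj {n : G} (hn : n ∈ Subgroup.normalizer (X : Set G)) {a b : G} (h : Twin D X a b) :
    Twin D X (n * a * n⁻¹) (n * b * n⁻¹) := by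
  obtain ⟨ha, hb, hnc, hc⟩ := h
  refine ⟨Fx_conj hG hn ha, Fx_conj hG hn hb, fun q => hnc ((commute_cj_iff n).mp q), fun c hcF h1 h2 => ?_⟩
  have hc' := Fx_conj hG (inv_mem hn) hcF
  rw [inv_inv] at hc'
  have e : n * (n⁻¹ * c * n) * n⁻¹ = c := by group
  rw [← e, commute_cj_iff, commute_cj_iff]
  exact hc _ hc' (fun q => h1 (by rw [← q]; group)) fun q => h2 (by rw [← q]; group)

theorem R_conj {n : G} (hn : n ∈ Subgroup.normalizer (X : Set G)) {r : G} (hr : r ∈ R D X) :
    n * r * n⁻¹ ∈ R D X := by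
  have hle : R D X ≤ (R D X).comap (MulAut.conj n).toMonoidHom := (Subgroup.closure_le _).mpr (by
    rintro _ ⟨a, b, hab, rfl⟩
    exact Subgroup.subset_closure ⟨n * a * n⁻¹, n * b * n⁻¹, hab.conj hG hn, by
      show n * (a * b) * n⁻¹ = _; group⟩)
  exact hle hr

theorem Fx_mem_normalizer {a : G} (ha : a ∈ Fx D X) : a ∈ Subgroup.normalizer (X : Set G) :=
  Subgroup.centralizer_le_normalizer _ ha.2

theorem R_le_centralizer : R D X ≤ Subgroup.centralizer (X : Set G) := (Subgroup.closure_le _).mpr (by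
  rintro _ ⟨a, b, hab, rfl⟩
  exact mul_mem hab.1.2 hab.2.1.2)

/-- A member moves only to a twin under a normal 3-subgroup of the normaliser. -/
theorem move_twin (hD1 : ∀ d ∈ D, d * d = 1) {Q : Subgroup G} (hQ : IsPGroup 3 Q)
    (hQN : Q ≤ Subgroup.normalizer (X : Set G))
    (hQn : ∀ n ∈ Subgroup.normalizer (X : Set G), ∀ y ∈ Q, n * y * n⁻¹ ∈ Q) {a : G} (ha : a ∈ Fx D X) {y : G}
    (hy : y ∈ Q) : y * a * y⁻¹ = a ∨ Twin D X a (y * a * y⁻¹) := by
  set b := y * a * y⁻¹ with hb
  by_cases hba : b = a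
  · exact Or.inl hba
  have hbF : b ∈ Fx D X := Fx_conj hG (hQN hy) ha
  have ai : a⁻¹ = a := inv_eq_of_mul_eq_one_right (hD1 a ha.1)
  have habQ : b * a ∈ Q := by
    have h := mul_mem hy (hQn a (Fx_mem_normalizer hG ha) _ (inv_mem hy))
    rwa [ai, show y * (a * y⁻¹ * a) = b * a by rw [hb]; group] at h
  have htwo : ∀ {u v : G}, u ∈ D → v ∈ D → u * v ∈ Q → Commute u v → u = v := by
    intro u v hu hv hQuv hc
    obtain ⟨k, hk⟩ := hQ ⟨u * v, hQuv⟩
    have hk' : (u * v) ^ 3 ^ k = 1 := congrArg Subtype.val hk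
    have h2 : (u * v) ^ 2 = 1 := by rw [hc.mul_pow, pow_two, pow_two, hD1 u hu, hD1 v hv, one_mul]
    have h1 : (u * v) ^ 1 = 1 := by
      have hg : Nat.gcd (3 ^ k) 2 = 1 := Nat.Coprime.pow_left k (by norm_num : Nat.Coprime 3 2)
      exact hg ▸ pow_gcd_eq_one.mpr ⟨hk', h2⟩
    rw [pow_one] at h1
    calc u = (u * v) * v := by rw [mul_assoc, hD1 v hv, mul_one]
      _ = v := by rw [h1, one_mul]
  refine Or.inr ⟨ha, hbF, fun hc => hba (htwo hbF.1 ha.1 habQ hc.symm), fun c hc hca hcb => ?_⟩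
  have key : ∀ {u v : G}, u ∈ Fx D X → v ∈ Fx D X → u * v ∈ Q → c ≠ u → Commute u c → Commute v c := by
    intro u v hu hv huv hcu huc
    by_contra hvc
    have ci : c⁻¹ = c := inv_eq_of_mul_eq_one_right (hD1 c hc.1)
    -- conjugating the product by `c` changes the second member only
    have h1 : c * (u * v) * c⁻¹ ∈ Q := hQn c (Fx_mem_normalizer hG hc) _ huv
    have h2 : v * (c * v * c⁻¹) ∈ Q := by
      have := mul_mem (inv_mem huv) h1
      rwa [show (u * v)⁻¹ * (c * (u * v) * c⁻¹) = v⁻¹ * (u⁻¹ * (c * u * c⁻¹)) * (c * v * c⁻¹) by group,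
        show c * u * c⁻¹ = u by rw [← huc.eq, mul_inv_cancel_right], inv_mul_cancel, mul_one,
        inv_eq_of_mul_eq_one_right (hD1 v hv.1)] at this
    have h3 : (v * c) ^ 3 = 1 := pow_three hG.1 hv.1 hc.1 hvc
    have h4 : v * c ∈ Q := by
      have e : v * (c * v * c⁻¹) = (v * c) ^ 2 := by rw [ci, pow_two]; group
      rw [e] at h2
      have := inv_mem h2
      rwa [show ((v * c) ^ 2)⁻¹ = v * c from inv_eq_of_mul_eq_one_right (by rw [← pow_succ, h3])] at this
    have h5 : u * c ∈ Q := by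
      have := mul_mem huv h4
      rwa [show u * v * (v * c) = u * (v * v) * c by group, hD1 v hv.1, mul_one] at this
    exact hcu (htwo hu.1 hc.1 h5 huc).symm
  have habQ' : a * b ∈ Q := by
    have := inv_mem habQ
    rwa [mul_inv_rev, ai, inv_eq_of_mul_eq_one_right (hD1 b hbF.1)] at this
  exact ⟨key ha hbF habQ' hca, key hbF ha habQ hcb⟩

/-- A member is carried to any other by the centraliser, given links through non-commuting pairs. -/
theorem exists_carry {a b : G} (ha : a ∈ Fx D X) (hb : b ∈ Fx D X)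
    (hlink : b = a ∨ ¬ Commute a b ∨ ∃ c ∈ Fx D X, ¬ Commute a c ∧ ¬ Commute c b) :
    ∃ x ∈ Subgroup.centralizer (X : Set G), x * a * x⁻¹ = b := by
  have step : ∀ {u v : G}, u ∈ Fx D X → v ∈ Fx D X → ¬ Commute u v →
      ∃ x ∈ Subgroup.centralizer (X : Set G), x * u * x⁻¹ = v := by
    intro u v hu hv hnc
    have h3 : (u * v) ^ 3 = 1 := pow_three hG.1 hu.1 hv.1 hnc
    have uu : u * u = 1 := mul_self hG.1 hu.1
    have vv : v * v = 1 := mul_self hG.1 hv.1
    refine ⟨u * v, mul_mem hu.2 hv.2, ?_⟩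
    rw [mul_inv_rev, inv_eq_of_mul_eq_one_right uu, inv_eq_of_mul_eq_one_right vv]
    calc u * v * u * (v * u) = u * v * (u * v) * (u * v) * v⁻¹ := by group
      _ = v := by
        rw [show u * v * (u * v) * (u * v) = (u * v) ^ 3 by simp [pow_succ], h3, one_mul,
          inv_eq_of_mul_eq_one_right vv]
  rcases hlink with h | h | ⟨c, hc, h1, h2⟩
  · exact ⟨1, one_mem _, by rw [h]; group⟩
  · exact step ha hb h
  · obtain ⟨x, hx, e⟩ := step ha hc h1
    obtain ⟨y, hy, e'⟩ := step hc hb h2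
    exact ⟨y * x, mul_mem hy hx, by rw [← e', ← e]; group⟩

/-- The index bound for a normal 3-subgroup. -/
theorem card_le (hD1 : ∀ d ∈ D, d * d = 1) {Q : Subgroup G} (hQ : IsPGroup 3 Q)
    (hQN : Q ≤ Subgroup.normalizer (X : Set G))
    (hQn : ∀ n ∈ Subgroup.normalizer (X : Set G), ∀ y ∈ Q, n * y * n⁻¹ ∈ Q) {a : G} (ha : a ∈ Fx D X) {m : ℕ}
    (hm : {b | b = a ∨ Twin D X a b}.ncard ≤ m) :
    Nat.card Q ≤ m * Nat.card ↥(Q ⊓ Subgroup.centralizer {a}) := by
  classical
  set T := {b | b = a ∨ Twin D X a b}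
  set C := (Q ⊓ Subgroup.centralizer {a}).subgroupOf Q
  have hf : ∀ y : ↥Q, y.1 * a * y.1⁻¹ ∈ T := fun y => move_twin hG hD1 hQ hQN hQn ha y.2
  let f : ↥Q ⧸ C → ↥T := Quotient.lift (fun y => ⟨_, hf y⟩) (by
    intro y z hyz
    have h : y⁻¹ * z ∈ C := QuotientGroup.leftRel_apply.mp hyz
    have hc : ((y⁻¹ * z : ↥Q) : G) * a = a * ((y⁻¹ * z : ↥Q) : G) :=
      Subgroup.mem_centralizer_singleton_iff.mp (Subgroup.mem_subgroupOf.mp h).2
    refine Subtype.ext ?_
    show y.1 * a * y.1⁻¹ = z.1 * a * z.1⁻¹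
    have e : z.1 = y.1 * ((y⁻¹ * z : ↥Q) : G) := by simp
    generalize ((y⁻¹ * z : ↥Q) : G) = w at hc e
    rw [e]
    calc y.1 * a * y.1⁻¹ = y.1 * (a * w) * w⁻¹ * y.1⁻¹ := by group
      _ = y.1 * w * a * (y.1 * w)⁻¹ := by rw [← hc]; group)
  have hinj : Function.Injective f := by
    intro p q
    induction p using QuotientGroup.induction_on with
    | _ y =>
      induction q using QuotientGroup.induction_on with
      | _ z =>
        intro h
        have e : y.1 * a * y.1⁻¹ = z.1 * a * z.1⁻¹ := congrArg Subtype.val h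
        refine QuotientGroup.eq.mpr (Subgroup.mem_subgroupOf.mpr ⟨(y⁻¹ * z).2,
          Subgroup.mem_centralizer_singleton_iff.mpr ?_⟩)
        show y.1⁻¹ * z.1 * a = a * (y.1⁻¹ * z.1)
        calc y.1⁻¹ * z.1 * a = y.1⁻¹ * (z.1 * a * z.1⁻¹) * z.1 := by group
          _ = a * (y.1⁻¹ * z.1) := by rw [← e]; group
  have h1 : C.index ≤ m := (Nat.card_le_card_of_injective f hinj).trans (by rwa [Nat.card_coe_set_eq])
  rw [← Subgroup.card_mul_index C, Nat.card_congr (Subgroup.subgroupOfEquivOfLe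
    (inf_le_left : Q ⊓ Subgroup.centralizer {a} ≤ Q)).toEquiv, mul_comm]
  exact Nat.mul_le_mul_right _ h1

/-- An element centralising the products with two twins fixes the member. -/
theorem commute_of_twins (hp : IsPrimitiveUnderConj D) (h23 : IsOfTypeM23 G D) {a b b' x : G} (hab : Twin D X a b)
    (hab' : Twin D X a b') (hne : b' ≠ b) (hne' : b' ≠ a * b * a) (hx : Commute x (a * b)) (hx' : Commute x (a * b')) :
    Commute x a := by
  have hD := cls_of_group_prim hG hp
  obtain ⟨B⟩ := M23.exists_base hD hp h23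
  have ha := hab.1.1
  set y := x * a * x⁻¹ with hy
  have hyD : y ∈ D := cls_conj hD x ha
  have key : ∀ {d : G}, d ∈ D → ¬ Commute a d → Commute x (a * d) → y = a ∨ y = d ∨ y = a * d * a := by
    intro d hd hnc hxc
    refine M23.ThreeA.inverter_unique hG hp h23 B ha hd hnc hyD ?_
    have h1 := (M22.ThreeA.inverts hD.1 ha hd).1
    rw [← h1, hy]
    calc x * a * x⁻¹ * (a * d) * (x * a * x⁻¹) = x * a * (x⁻¹ * (a * d) * x) * a * x⁻¹ := by group
      _ = x * (a * (a * d) * a) * x⁻¹ := by rw [hxc.inv_left.eq, inv_mul_cancel_right]; group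
      _ = a * (a * d) * a := by
        rw [h1, hxc.inv_right.eq, mul_inv_cancel_right]
  have aa := mul_self hD.1 ha
  have cancel : ∀ {u v : G}, a * u * a = a * v * a → u = v := fun e => mul_left_cancel (mul_right_cancel e)
  have inner : ∀ {u v : G}, u = a * v * a → v = a * u * a := fun {u v} e => by
    rw [e, show a * (a * v * a) * a = a * a * v * (a * a) by group, aa, one_mul, mul_one]
  have hya : y = a := by
    rcases key hab.2.1.1 hab.2.2.1 hx with h | h | h
    · exact h
    · rcases key hab'.2.1.1 hab'.2.2.1 hx' with h' | h' | h'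
      · exact h'
      · exact absurd (h'.symm.trans h) hne
      · exact absurd (inner (h.symm.trans h')) hne'
    · rcases key hab'.2.1.1 hab'.2.2.1 hx' with h' | h' | h'
      · exact h'
      · exact absurd (h'.symm.trans h) hne'
      · exact absurd (cancel (h.symm.trans h')).symm hne
  show x * a = a * x
  calc x * a = y * x := by rw [hy]; group
    _ = a * x := by rw [hya]

end

end CfsgThreeTrans.M23.Twins
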