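/-
Type M(23): the normaliser of a subgroup of order three central in a Sylow subgroup.
-/
import Cfsg.Agent.Lib.ThreeTrans.M23.OrderThree
import Cfsg.Agent.Lib.ThreeTrans.M23.Local
import Cfsg.Agent.Lib.ThreeTrans.M23.Twins
import Cfsg.Agent.Lib.CosetEnum.Fi23Three.Central
import Cfsg.Agent.Lib.CosetEnum.Fi22Three.OneGroup
import Cfsg.Agent.Lib.ThreeTrans.M22.Unique.Central
import Cfsg.Agent.Lib.Components
import Cfsg.Agent.Lib.Comp.Layer

set_option autoImplicit false
set_option maxRecDepth 100000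
set_option linter.unusedSectionVars false

namespace CfsgThreeTrans.M23.CentralThree

open Cfsg CfsgLib CfsgLib.CosetEnum CfsgThreeTrans CfsgThreeTrans.M23

universe u

variable {G : Type u} [Group G] [Finite G] {D : Set G}

theorem bdd_clique (S : Set G) :
    BddAbove {n : ℕ | ∃ E : Set G, E ⊆ S ∧ E.Finite ∧ (∀ a ∈ E, ∀ b ∈ E, Commute a b) ∧ E.ncard = n} :=
  ⟨Nat.card G, by
    rintro n ⟨E, -, -, -, rfl⟩
    exact Set.ncard_le_card E⟩

theorem le_width {S E : Set G} (hE : E ⊆ S) (hc : ∀ a ∈ E, ∀ b ∈ E, Commute a b) :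
    E.ncard ≤ Cfsg.commutingWidth S :=
  le_csSup (bdd_clique S) ⟨E, hE, Set.toFinite _, hc, rfl⟩

theorem width_le {S : Set G} {m : ℕ} (h : ∀ E ⊆ S, (∀ a ∈ E, ∀ b ∈ E, Commute a b) → E.ncard ≤ m) :
    Cfsg.commutingWidth S ≤ m :=
  csSup_le ⟨0, ∅, Set.empty_subset _, Set.finite_empty, by simp, Set.ncard_empty _⟩ fun n ⟨E, hE, _, hc, hn⟩ =>
    hn ▸ h E hE hc

variable (hG : IsThreeTranspositionGroup D) (hp : IsPrimitiveUnderConj D) (h23 : IsOfTypeM23 G D)
variable (e : Fi23Three.K ≃* G) (he : e '' conjugatesOf Fi23Three.tz = D)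

/-- The model subgroup. -/
noncomputable def X0 : Subgroup G := Fi23Three.Central.Z.map (e : Fi23Three.K →* G)

/-- A model member. -/
noncomputable def a (i : ℕ) : G := e (Fi23Three.Central.q i)

theorem card_X0 : Nat.card (X0 e) = 3 := by
  rw [X0, Subgroup.card_map_of_injective e.injective, Nat.card_zpowers, Fi23Three.Central.x0_order]

theorem mem_cent_iff (z : Fi23Three.K) :
    e z ∈ Subgroup.centralizer (X0 e : Set G) ↔ Commute z Fi23Three.Central.x0 := by
  constructor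
  · intro h
    have := Subgroup.mem_centralizer_iff.mp h _ ⟨_, Subgroup.mem_zpowers _, rfl⟩
    refine e.injective ?_
    simpa using this.symm
  · intro h
    refine Subgroup.mem_centralizer_iff.mpr ?_
    rintro _ ⟨_, ⟨n, rfl⟩, rfl⟩
    exact ((h.zpow_right n).symm.map e).eq

include he

theorem a_mem {i : ℕ} (hi : i < 324) : a e i ∈ Twins.Fx D (X0 e) :=
  ⟨he ▸ ⟨_, Fi23Three.Central.q_mem i, rfl⟩, (mem_cent_iff e _).mpr (Fi23Three.Central.q_cent hi)⟩

theorem a_surj {b : G} (hb : b ∈ Twins.Fx D (X0 e)) : ∃ i < 324, a e i = b := by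
  obtain ⟨hbD, hbc⟩ := hb
  rw [← he] at hbD
  obtain ⟨z, hz, rfl⟩ := hbD
  obtain ⟨i, hi, hq⟩ := Fi23Three.Central.q_surj hz ((mem_cent_iff e z).mp hbc)
  exact ⟨i, hi, by rw [a, hq]⟩

omit he in
theorem a_inj {i j : ℕ} (hi : i < 324) (hj : j < 324) (h : a e i = a e j) : i = j :=
  Fi23Three.Central.q_inj hi hj (e.injective h)

omit he in
theorem a_commute {i j : ℕ} (hi : i < 324) (hj : j < 324) :
    Commute (a e i) (a e j) ↔ Fi23Three.padj 1 i j = true := by
  rw [← Fi23Three.Central.q_pattern hi hj]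
  exact ⟨fun h => by simpa [a] using h.map e.symm, fun h => h.map e⟩

theorem twin_iff {i j : ℕ} (hi : i < 324) (hj : j < 324) :
    Twins.Twin D (X0 e) (a e i) (a e j) ↔ Fi23Three.Central.Tw i j := by
  constructor
  · rintro ⟨-, -, hnc, hc⟩
    refine ⟨fun q => hnc (q ▸ Commute.refl _), ?_, fun c hc' h1 h2 => ?_⟩
    · cases h : Fi23Three.padj 1 i j
      · rfl
      · exact absurd ((a_commute e hi hj).mpr h) hnc
    · have := hc _ (a_mem e he hc') (fun q => h1 (a_inj e hc' hi q)) (fun q => h2 (a_inj e hc' hj q))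
      rw [a_commute e hi hc', a_commute e hj hc'] at this
      cases h : Fi23Three.padj 1 i c <;> cases h' : Fi23Three.padj 1 j c <;> simp_all
  · rintro ⟨-, hadj, hc⟩
    refine ⟨a_mem e he hi, a_mem e he hj, fun h => by simp [(a_commute e hi hj).mp h] at hadj, fun c hcF h1 h2 => ?_⟩
    obtain ⟨k, hk, rfl⟩ := a_surj e he hcF
    rw [a_commute e hi hk, a_commute e hj hk, hc k hk (fun q => h1 (by rw [q])) fun q => h2 (by rw [q])]

theorem R_eq : Twins.R D (X0 e) = (Fi23Three.H 9).map (e : Fi23Three.K →* G) := by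
  refine le_antisymm ((Subgroup.closure_le _).mpr ?_) ?_
  · rintro _ ⟨u, v, huv, rfl⟩
    obtain ⟨i, hi, rfl⟩ := a_surj e he huv.1
    obtain ⟨j, hj, rfl⟩ := a_surj e he huv.2.1
    exact ⟨_, Fi23Three.Central.tw_mem hi hj ((twin_iff e he hi hj).mp huv), map_mul e _ _⟩
  · rw [Fi23Three.H, MonoidHom.map_closure, Subgroup.closure_le]
    rintro _ ⟨_, ⟨j, hj, rfl⟩, rfl⟩
    have hle : Subgroup.closure {g : Fi23Three.K | ∃ i k, i < 324 ∧ k < 324 ∧ Fi23Three.Central.Tw i k ∧
        g = Fi23Three.Central.q i * Fi23Three.Central.q k} ≤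
        (Twins.R D (X0 e)).comap (e : Fi23Three.K →* G) := (Subgroup.closure_le _).mpr (by
      rintro _ ⟨i, k, hi, hk, ht, rfl⟩
      exact Subgroup.subset_closure ⟨a e i, a e k, (twin_iff e he hi hk).mpr ht, map_mul e _ _⟩)
    exact hle (Fi23Three.Central.gen_spec hj)

theorem card_R : Nat.card (Twins.R D (X0 e)) = 3 ^ 9 := by
  rw [R_eq e he, Subgroup.card_map_of_injective e.injective, (Fi23Three.H_spec 9 (by norm_num)).2]

theorem extraspecial_R : IsExtraspecial 3 ↥(Twins.R D (X0 e)) := by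
  rw [R_eq e he]
  exact M22.Unique.extraspecial_equiv
    ((Fi23Three.H 9).equivMapOfInjective (e : Fi23Three.K →* G) e.injective) Fi23Three.Central.extraspecial

theorem X0_le_R : X0 e ≤ Twins.R D (X0 e) := by
  rw [R_eq e he]
  exact Subgroup.map_mono (Subgroup.zpowers_le.mpr Fi23Three.Central.x0_mem)

theorem twins_le : {b | b = a e 0 ∨ Twins.Twin D (X0 e) (a e 0) b}.ncard ≤ 9 := by
  classical
  set L := (List.range 324).filter (fun j => Nat.beq (Fi23Three.Central.reps.getD j 0) (Fi23Three.Central.reps.getD 0 0))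
  have hL : L.length = 9 := by
    have h := Fi23Three.Central.pattern_ok
    simp only [Fi23Three.Central.okPattern, Bool.and_eq_true] at h
    exact Nat.eq_of_beq_eq_true h.1.1.1.1.1.1.1.1.1.1.2
  have hsub : {b | b = a e 0 ∨ Twins.Twin D (X0 e) (a e 0) b} ⊆ ↑((L.map (a e)).toFinset) := by
    intro b hb
    rw [Finset.mem_coe, List.mem_toFinset, List.mem_map]
    rcases hb with rfl | hb
    · exact ⟨0, List.mem_filter.mpr ⟨List.mem_range.mpr (by norm_num), Nat.beq_refl _⟩, rfl⟩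
    · obtain ⟨j, hj, rfl⟩ := a_surj e he hb.2.1
      refine ⟨j, List.mem_filter.mpr ⟨List.mem_range.mpr hj, ?_⟩, rfl⟩
      have h := allN_spec (allN_spec Fi23Three.Central.reps_ok 0 (by norm_num)) j hj
      rw [(Fi23Three.Central.twB_iff (by norm_num) hj).mpr ((twin_iff e he (by norm_num) hj).mp hb)] at h
      have h' : Nat.beq (Fi23Three.Central.reps.getD 0 0) (Fi23Three.Central.reps.getD j 0) = true := by simpa using h
      rw [← Nat.eq_of_beq_eq_true h']
      exact Nat.beq_refl _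
  refine (Set.ncard_le_ncard hsub (Finset.finite_toSet _)).trans ?_
  rw [Set.ncard_coe_finset]
  exact (List.toFinset_card_le _).trans (by rw [List.length_map, hL])

theorem width_X0 : Cfsg.commutingWidth (Twins.Fx D (X0 e)) = 4 := by
  have e1 : X0 e = ((Subgroup.zpowers (Fi23Three.rt 1)).map (MulAut.conj Fi23Three.Central.gel).toMonoidHom).map
      (e : Fi23Three.K →* G) := by
    rw [X0, MonoidHom.map_zpowers (MulAut.conj Fi23Three.Central.gel).toMonoidHom, Fi23Three.Central.Z,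
      ← Fi23Three.Central.conj_rt]
    rfl
  have hD : (MulAut.conj Fi23Three.Central.gel : Fi23Three.K ≃* Fi23Three.K) '' conjugatesOf Fi23Three.tz =
      conjugatesOf Fi23Three.tz := by
    ext z
    constructor
    · rintro ⟨y, hy, rfl⟩
      obtain ⟨c, rfl⟩ := isConj_iff.mp (show IsConj _ y from hy)
      exact (show IsConj _ _ from isConj_iff.mpr ⟨Fi23Three.Central.gel * c, by simp [mul_assoc]⟩)
    · intro hz
      obtain ⟨c, rfl⟩ := isConj_iff.mp (show IsConj _ z from hz)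
      refine ⟨(Fi23Three.Central.gel⁻¹ * c) * Fi23Three.tz * (Fi23Three.Central.gel⁻¹ * c)⁻¹, ?_, by simp [mul_assoc]⟩
      exact (show IsConj _ _ from isConj_iff.mpr ⟨_, rfl⟩)
  rw [Twins.Fx, e1, ← he, M22.Unique.width_map]
  conv_lhs => rw [← hD]
  rw [show (MulAut.conj Fi23Three.Central.gel).toMonoidHom =
    ((MulAut.conj Fi23Three.Central.gel : Fi23Three.K ≃* Fi23Three.K) : Fi23Three.K →* Fi23Three.K) from rfl,
    M22.Unique.width_map, Fi23Three.width_rt (by norm_num)]
  rfl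

include hG hp h23

theorem width_local : Cfsg.commutingWidth (Ds D (a e 0) ∩ (Subgroup.centralizer (X0 e : Set G) : Set G)) = 3 := by
  classical
  have ha := a_mem e he (i := 0) (by norm_num)
  refine le_antisymm (width_le fun E hE hc => ?_) ?_
  · have hnot : a e 0 ∉ E := fun h => (hE h).1.2.1 rfl
    have hins : (insert (a e 0) E).ncard ≤ 4 := by
      rw [← width_X0 e he]
      refine le_width ?_ ?_
      · intro z hz
        rcases hz with rfl | hz
        · exact ha
        · exact ⟨(hE hz).1.1, (hE hz).2⟩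
      · intro u hu v hv
        rcases hu with rfl | hu <;> rcases hv with rfl | hv
        · exact Commute.refl _
        · exact (hE hv).1.2.2
        · exact (hE hu).1.2.2.symm
        · exact hc u hu v hv
    rw [Set.ncard_insert_of_notMem hnot (Set.toFinite _)] at hins
    omega
  · have h := Fi23Three.Central.pattern_ok
    simp only [Fi23Three.Central.okPattern, Bool.and_eq_true, List.all_eq_true, blt_iff] at h
    have h3 := h.1.1.1.1.1.1.1.1.1.2
    have hlen : Fi23Three.Central.three.length = 3 := Nat.eq_of_beq_eq_true h.1.1.1.1.1.1.1.1.2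
    set E : Set G := ↑((Fi23Three.Central.three.map (a e)).toFinset)
    have hE3 : E.ncard = 3 := by
      rw [Set.ncard_coe_finset, List.toFinset_card_of_nodup, List.length_map, hlen]
      exact Fi23Three.Central.three_nodup.map_on fun i hi j hj q =>
        a_inj e (h3 i hi).1.1.1 (h3 j hj).1.1.1 q
    rw [← hE3]
    refine le_width ?_ ?_
    · intro z hz
      simp only [E, Finset.mem_coe, List.mem_toFinset, List.mem_map] at hz
      obtain ⟨i, hi, rfl⟩ := hz
      obtain ⟨⟨⟨hi1, hi2⟩, hi3⟩, -⟩ := h3 i hi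
      refine ⟨⟨(a_mem e he hi1).1, fun q => ?_, (a_commute e (by norm_num) hi1).mpr hi3⟩, (a_mem e he hi1).2⟩
      have := a_inj e hi1 (by norm_num) q
      subst this
      simp at hi2
    · intro u hu v hv
      simp only [E, Finset.mem_coe, List.mem_toFinset, List.mem_map] at hu hv
      obtain ⟨i, hi, rfl⟩ := hu
      obtain ⟨j, hj, rfl⟩ := hv
      exact (a_commute e (h3 i hi).1.1.1 (h3 j hj).1.1.1).mpr ((h3 i hi).2 j hj)

/-- The core of the normaliser and its centraliser. -/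
theorem normalizer_spec :
    (∀ n ∈ Subgroup.normalizer (X0 e : Set G), ∀ r ∈ Twins.R D (X0 e), n * r * n⁻¹ ∈ Twins.R D (X0 e)) ∧
    (∀ Q : Subgroup G, IsPGroup 3 Q → Q ≤ Subgroup.normalizer (X0 e : Set G) →
      (∀ n ∈ Subgroup.normalizer (X0 e : Set G), ∀ y ∈ Q, n * y * n⁻¹ ∈ Q) → Twins.R D (X0 e) ≤ Q →
      Q = Twins.R D (X0 e)) ∧
    ∀ x ∈ Subgroup.normalizer (X0 e : Set G), (∀ r ∈ Twins.R D (X0 e), Commute x r) → x ∈ X0 e := by
  classical
  have hD := cls_of_group_prim hG hp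
  set X := X0 e
  set R := Twins.R D X
  set a0 := a e 0 with ha0
  have ha : a0 ∈ Twins.Fx D X := a_mem e he (by norm_num)
  have hD1 : ∀ d ∈ D, d * d = 1 := fun d hd => mul_self hD.1 hd
  have hRn : ∀ n ∈ Subgroup.normalizer (X : Set G), ∀ r ∈ R, n * r * n⁻¹ ∈ R :=
    fun n hn r hr => Twins.R_conj hG hn hr
  have hRN : R ≤ Subgroup.normalizer (X : Set G) :=
    (Twins.R_le_centralizer hG).trans (Subgroup.centralizer_le_normalizer _)
  have hXa : X ≤ Subgroup.centralizer {a0} := fun x hx =>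
    Subgroup.mem_centralizer_singleton_iff.mpr (Subgroup.mem_centralizer_iff.mp ha.2 x hx)
  set T := Subgroup.normalizer (X : Set G) ⊓ Subgroup.centralizer {a0}
  obtain ⟨φ, hφs, hφk, hφX⟩ : ∃ φ : ↥T →*
      ↥(Subgroup.normalizer ((M22.Unique.rootSub 2 : Subgroup Fi22Three.K) : Set Fi22Three.K)),
      Function.Surjective φ ∧ (∀ g, φ g = 1 ↔ g.1 = 1 ∨ g.1 = a0) ∧
      ∀ g, g.1 ∈ X → (φ g).1 ∈ M22.Unique.rootSub 2 :=
    Local.exists_local hG hp h23 (card_X0 e) ha.1 hXa (k := 2) (by norm_num) (width_local hG hp h23 e he)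
  have : Fact (Nat.Prime 3) := ⟨by norm_num⟩
  have := Fi22Three.finiteK
  -- a normal subgroup of three-power order meets the centraliser of the member in at most `3 ^ 7`
  have hinj : ∀ Q : Subgroup G, IsPGroup 3 Q → Function.Injective
      (φ.comp ((Q.subgroupOf T).subtype)) := by
    intro Q hQ
    refine (injective_iff_map_eq_one _).mpr fun g hg => ?_
    rcases (hφk g.1).mp hg with h | h
    · exact Subtype.ext (Subtype.ext h)
    · exfalso
      obtain ⟨k, hk⟩ := hQ ⟨g.1.1, g.2⟩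
      have hk' : g.1.1 ^ 3 ^ k = 1 := congrArg Subtype.val hk
      rw [h] at hk'
      have h2 : orderOf a0 = 2 := hD.1.1 a0 ha.1
      have := orderOf_dvd_of_pow_eq_one hk'
      rw [h2] at this
      have := (by norm_num : Nat.Prime 2).dvd_of_dvd_pow this
      omega
  have himg : ∀ Q : Subgroup G, IsPGroup 3 Q → Q ≤ Subgroup.normalizer (X : Set G) →
      (∀ n ∈ Subgroup.normalizer (X : Set G), ∀ y ∈ Q, n * y * n⁻¹ ∈ Q) →
      Nat.card ↥(Q ⊓ Subgroup.centralizer {a0}) ≤ 3 ^ 7 ∧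
      (3 ^ 7 ≤ Nat.card ↥(Q ⊓ Subgroup.centralizer {a0}) → ∀ q ∈ Fi22Three.One.C.Q, ∃ g : ↥T, g.1 ∈ Q ∧ (φ g).1 = q) := by
    intro Q hQ hQN hQn
    have hTQ : ∀ n : ↥T, ∀ g : ↥T, g.1 ∈ Q → (n * g * n⁻¹).1 ∈ Q := fun n g hg => hQn _ n.2.1 _ hg
    have hnor : (Q.subgroupOf T).Normal := ⟨fun g hg n => hTQ n g hg⟩
    have hP : IsPGroup 3 ↥(Q.subgroupOf T) :=
      hQ.of_injective ((T.subtype.comp (Q.subgroupOf T).subtype).codRestrict Q fun g => g.2) (fun g h q =>
        Subtype.ext (Subtype.ext (congrArg (fun x : ↥Q => x.1) q)))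
    set P := (Q.subgroupOf T).map φ
    let eN : ↥(Subgroup.normalizer ((M22.Unique.rootSub 2 : Subgroup Fi22Three.K) : Set Fi22Three.K)) ≃*
        ↥Fi22Three.One.C.N := MulEquiv.subgroupCongr Fi22Three.One.normalizer_eq
    have hPn : P.Normal := hnor.map φ hφs
    haveI : (P.map eN.toMonoidHom).Normal := hPn.map _ eN.surjective
    have hle := Fi22Three.One.three_normal_le (P.map eN.toMonoidHom) ((hP.map φ).map _)
    have hmem : ∀ g : ↥T, g.1 ∈ Q → (φ g).1 ∈ Fi22Three.One.C.Q := fun g hg =>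
      Subgroup.mem_subgroupOf.mp (hle ⟨φ g, ⟨g, hg, rfl⟩, rfl⟩)
    let ψ : ↥(Q.subgroupOf T) → ↥Fi22Three.One.C.Q := fun g => ⟨(φ g.1).1, hmem g.1 g.2⟩
    have hψ : Function.Injective ψ := fun g h q =>
      hinj Q hQ (Subtype.ext (congrArg (fun x : ↥Fi22Three.One.C.Q => x.1) q))
    have hcard : Nat.card ↥(Q.subgroupOf T) = Nat.card ↥(Q ⊓ Subgroup.centralizer {a0}) := by
      rw [← Subgroup.inf_subgroupOf_right Q T, Nat.card_congr (Subgroup.subgroupOfEquivOfLe inf_le_right).toEquiv]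
      congr 1
      show ↥(Q ⊓ T) = ↥(Q ⊓ Subgroup.centralizer {a0})
      rw [← inf_assoc, inf_eq_left.mpr hQN]
    refine ⟨?_, fun h q hq => ?_⟩
    · rw [← hcard, ← Fi22Three.One.card_Q]
      exact Nat.card_le_card_of_injective ψ hψ
    · rw [← hcard, ← Fi22Three.One.card_Q] at h
      obtain ⟨g, hg⟩ := (hψ.bijective_of_nat_card_le h).2 ⟨q, hq⟩
      exact ⟨g.1, g.2, congrArg Subtype.val hg⟩
  have hcount : ∀ Q : Subgroup G, IsPGroup 3 Q → Q ≤ Subgroup.normalizer (X : Set G) →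
      (∀ n ∈ Subgroup.normalizer (X : Set G), ∀ y ∈ Q, n * y * n⁻¹ ∈ Q) →
      Nat.card Q ≤ 9 * Nat.card ↥(Q ⊓ Subgroup.centralizer {a0}) :=
    fun Q hQ hQN hQn => Twins.card_le hG hD1 hQ hQN hQn ha (twins_le e he)
  have hR3 : IsPGroup 3 R := IsPGroup.of_card (card_R e he)
  refine ⟨hRn, fun Q hQ hQN hQn hRQ => ?_, fun x hx hxR => ?_⟩
  · refine (Subgroup.eq_of_le_of_card_ge hRQ ?_).symm
    rw [card_R e he]
    refine (hcount Q hQ hQN hQn).trans ?_
    have := (himg Q hQ hQN hQn).1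
    omega
  · have h7 : 3 ^ 7 ≤ Nat.card ↥(R ⊓ Subgroup.centralizer {a0}) := by
      have := hcount R hR3 hRN hRn
      rw [card_R e he] at this
      omega
    -- the twins of the member
    have hpat := Fi23Three.Central.pattern_ok
    simp only [Fi23Three.Central.okPattern, Bool.and_eq_true, blt_iff] at hpat
    obtain ⟨⟨⟨⟨⟨⟨⟨-, hA⟩, hB⟩, hAlt⟩, hBlt⟩, hClt⟩, hBA⟩, hBC⟩ := hpat.1
    have hC := Nat.eq_of_beq_eq_true hpat.2
    have tA := (twin_iff e he (by norm_num) hAlt).mpr ((Fi23Three.Central.twB_iff (by norm_num) hAlt).mp hA)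
    have tB := (twin_iff e he (by norm_num) hBlt).mpr ((Fi23Three.Central.twB_iff (by norm_num) hBlt).mp hB)
    have hCeq : a0 * a e Fi23Three.Central.twinA * a0 = a e Fi23Three.Central.twinC := by
      rw [ha0, a, a, a, ← map_mul, ← map_mul]
      congr 1
      have hact : Fi23Three.act (Fi23Three.Central.q 0) (Fi23Three.Central.fpt Fi23Three.Central.twinA) =
          Fi23Three.Central.fpt Fi23Three.Central.twinC := by
        rw [Fi23Three.Central.act_q (by norm_num) (Fi23Three.Central.conj_spec hAlt).2.1]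
        exact hC
      have h0 : (Fi23Three.Central.q 0)⁻¹ = Fi23Three.Central.q 0 :=
        inv_eq_of_mul_eq_one_right (Fi23Three.Central.q_sq 0)
      show _ = Fi23Three.dt (Fi23Three.Central.fpt Fi23Three.Central.twinC)
      rw [← hact, Fi23Three.dt_eq (Fi23Three.act_lt _ (Fi23Three.Central.conj_spec hAlt).2.1)
        (Fi23Three.Central.q 0 * Fi23Three.toPt (Fi23Three.Central.fpt Fi23Three.Central.twinA))
        (by rw [Fi23Three.act_mul, Fi23Three.act_toPt (Fi23Three.Central.conj_spec hAlt).2.1]), mul_inv_rev, h0]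
      simp only [Fi23Three.Central.q, Fi23Three.dt]
      group
    have hne : a e Fi23Three.Central.twinB ≠ a e Fi23Three.Central.twinA := fun q => by
      rw [a_inj e hBlt hAlt q] at hBA; simp at hBA
    have hne' : a e Fi23Three.Central.twinB ≠ a0 * a e Fi23Three.Central.twinA * a0 := fun q => by
      rw [hCeq] at q
      rw [a_inj e hBlt hClt q] at hBC; simp at hBC
    have hprod : ∀ {b}, Twins.Twin D X a0 b → a0 * b ∈ R := fun h => Subgroup.subset_closure ⟨_, _, h, rfl⟩
    have hxa : Commute x a0 := Twins.commute_of_twins hG hp h23 tA tB hne hne' (hxR _ (hprod tA)) (hxR _ (hprod tB))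
    set g : ↥T := ⟨x, hx, Subgroup.mem_centralizer_singleton_iff.mpr hxa.eq⟩
    have hgN : (φ g).1 ∈ Fi22Three.One.C.N := Fi22Three.One.normalizer_eq ▸ (φ g).2
    have hcomQ : ∀ q ∈ Fi22Three.One.C.Q, Commute q (φ g).1 := by
      intro q hq
      obtain ⟨r, hr, rfl⟩ := (himg R hR3 hRN hRn).2 h7 q hq
      have hc : Commute r g := Subtype.ext (hxR _ hr).symm.eq
      exact (congrArg Subtype.val (hc.map φ).eq : _)
    have hgZ : (φ g).1 ∈ Fi22Three.One.Z :=
      (Fi22Three.One.central_iff (Fi22Three.One.centralizer_le hgN hcomQ)).mp hcomQ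
    have hXT : X ≤ T := le_inf (Subgroup.le_normalizer) hXa
    let ψ : ↥X → ↥Fi22Three.One.Z := fun y => ⟨(φ ⟨y.1, hXT y.2⟩).1, hφX ⟨y.1, hXT y.2⟩ y.2⟩
    have hX3 : IsPGroup 3 X := IsPGroup.of_card (n := 1) (by rw [pow_one]; exact card_X0 e)
    have hψ : Function.Injective ψ := fun y z q => by
      have := hinj X hX3 (a₁ := ⟨⟨y.1, hXT y.2⟩, y.2⟩) (a₂ := ⟨⟨z.1, hXT z.2⟩, z.2⟩)
        (Subtype.ext (congrArg (fun w : ↥Fi22Three.One.Z => w.1) q))
      exact Subtype.ext (congrArg (fun w : ↥(X.subgroupOf T) => w.1.1) this)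
    obtain ⟨y, hy⟩ := (hψ.bijective_of_nat_card_le (by rw [Fi22Three.One.card_Z, card_X0 e])).2 ⟨_, hgZ⟩
    have hy' : φ ⟨y.1, hXT y.2⟩ = φ g := Subtype.ext (congrArg (fun w : ↥Fi22Three.One.Z => w.1) hy)
    have hker : φ ((⟨y.1, hXT y.2⟩ : ↥T)⁻¹ * g) = 1 := by rw [map_mul, map_inv, hy', inv_mul_cancel]
    rcases (hφk _).mp hker with h | h
    · have e' : y.1 = x := by
        have := inv_mul_eq_one.mp h
        exact this
      exact e' ▸ y.2
    · exfalso
      have e' : x = y.1 * a0 := eq_mul_of_inv_mul_eq h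
      have hyR : y.1 ∈ R := X0_le_R e he y.2
      have hyc : Commute y.1 (a0 * a e Fi23Three.Central.twinA) :=
        Subgroup.mem_centralizer_iff.mp (Twins.R_le_centralizer hG (hprod tA)) _ y.2
      have hc0 : Commute a0 (a0 * a e Fi23Three.Central.twinA) := by
        have := hxR _ (hprod tA)
        rw [e'] at this
        have h' := hyc.inv_left.mul_left this
        rwa [inv_mul_cancel_left] at h'
      have hcA : Commute a0 (a e Fi23Three.Central.twinA) := by
        have := (Commute.refl a0).inv_right.mul_right hc0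
        rwa [inv_mul_cancel_left] at this
      exact tA.2.2.1 hcA

theorem gfit_X0 : generalizedFittingSubgroup ↥(Subgroup.normalizer (X0 e : Set G)) =
    (Twins.R D (X0 e)).subgroupOf (Subgroup.normalizer (X0 e : Set G)) := by
  obtain ⟨hRn, hmax, hC⟩ := normalizer_spec hG hp h23 e he
  have : Fact (Nat.Prime 3) := ⟨by norm_num⟩
  set N := Subgroup.normalizer (X0 e : Set G)
  set R := Twins.R D (X0 e)
  have hRN : R ≤ N := (Twins.R_le_centralizer hG).trans (Subgroup.centralizer_le_normalizer _)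
  haveI hnor : (R.subgroupOf N).Normal := ⟨fun r hr n => hRn _ n.2 _ hr⟩
  have hp3 : IsPGroup 3 ↥(R.subgroupOf N) :=
    (IsPGroup.of_card (card_R e he)).of_equiv (Subgroup.subgroupOfEquivOfLe hRN).symm
  have hcore : pCore 3 ↥N = R.subgroupOf N := by
    refine le_antisymm (fun z hz => ?_) (CfsgLib.le_pCore hp3)
    haveI : (pCore 3 ↥N).Normal := Subgroup.sSup_normal _ (fun _ h => h.1)
    have h := hmax ((pCore 3 ↥N).map N.subtype) ((CfsgLib.isPGroup_pCore 3).map _) (Subgroup.map_subtype_le _)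
      (by
        rintro n hn _ ⟨y, hy, rfl⟩
        exact ⟨⟨n, hn⟩ * y * ⟨n, hn⟩⁻¹, Subgroup.Normal.conj_mem inferInstance y hy _, rfl⟩)
      (fun r hr => ⟨⟨r, hRN hr⟩, CfsgLib.le_pCore hp3 (Subgroup.mem_subgroupOf.mpr hr), rfl⟩)
    exact Subgroup.mem_subgroupOf.mpr (h ▸ ⟨z, hz, rfl⟩)
  rw [← hcore, CfsgLib.Comp.gfit_eq_pCore_iff 3, hcore]
  intro z hz
  refine Subgroup.mem_subgroupOf.mpr (X0_le_R e he (hC _ z.2 fun r hr => ?_))
  exact (congrArg Subtype.val (Subgroup.mem_centralizer_iff.mp hz ⟨r, hRN hr⟩ (Subgroup.mem_subgroupOf.mpr hr))).symm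

omit hG hp h23 in
/-- The Sylow subgroup of the model. -/
theorem exists_sylow : ∃ S : Sylow 3 G, Twins.R D (X0 e) ≤ S ∧ ∀ s ∈ (S : Subgroup G), ∀ x ∈ X0 e, Commute s x := by
  have := Fi23Three.finiteK
  have : Fact (Nat.Prime 3) := ⟨by norm_num⟩
  refine ⟨Fi23Three.S3.mapSurjective (f := (e : Fi23Three.K →* G)) e.surjective, ?_, ?_⟩
  · rw [R_eq e he]
    show _ ≤ ((Fi23Three.S3 : Subgroup Fi23Three.K)).map (e : Fi23Three.K →* G)
    rw [Fi23Three.S3_eq]
    exact Subgroup.map_mono (Fi23Three.H_mono (by norm_num))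
  · rintro _ ⟨s, hs, rfl⟩ _ ⟨_, ⟨n, rfl⟩, rfl⟩
    exact ((Fi23Three.Central.x0_central (Fi23Three.S3_eq ▸ hs)).symm.zpow_right n).map e

/-- A subgroup of order three central in a Sylow subgroup is conjugate to the model one. -/
theorem exists_conj {Z : Subgroup G} (hZ : Nat.card Z = 3) (P : Sylow 3 G)
    (hP : Z ≤ (Subgroup.center ↥(P : Subgroup G)).map (P : Subgroup G).subtype) :
    ∃ g : G, Z = (X0 e).map (MulAut.conj g).toMonoidHom := by
  obtain ⟨-, -, hC⟩ := normalizer_spec hG hp h23 e he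
  have : Fact (Nat.Prime 3) := ⟨by norm_num⟩
  obtain ⟨S, hRS, hScen⟩ := exists_sylow e he
  obtain ⟨g, rfl⟩ := MulAction.exists_smul_eq G S P
  refine ⟨g, ?_⟩
  refine Subgroup.eq_of_le_of_card_ge (fun z hz => ?_)
    (by rw [Subgroup.card_map_of_injective (MulAut.conj g).injective, card_X0 e, hZ])
  obtain ⟨w, hw, rfl⟩ := hP hz
  have hback : ∀ v : G, v ∈ ((g • S : Sylow 3 G) : Subgroup G) → g⁻¹ * v * g ∈ (S : Subgroup G) := fun v h => by
    rw [Sylow.coe_subgroup_smul, Subgroup.mem_pointwise_smul_iff_inv_smul_mem] at h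
    simpa [MulAut.smul_def, mul_assoc] using h
  have hwS := hback w.1 w.2
  refine ⟨g⁻¹ * w.1 * g, hC _ ?_ ?_, by simp [mul_assoc]⟩
  · exact Subgroup.centralizer_le_normalizer _ (Subgroup.mem_centralizer_iff.mpr fun x hx => (hScen _ hwS x hx).eq.symm)
  · intro r hr
    have hrP : g * r * g⁻¹ ∈ ((g • S : Sylow 3 G) : Subgroup G) := by
      rw [Sylow.coe_subgroup_smul, Subgroup.mem_pointwise_smul_iff_inv_smul_mem]
      simpa [MulAut.smul_def, mul_assoc] using hRS hr
    have hc : g * r * g⁻¹ * w.1 = w.1 * (g * r * g⁻¹) :=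
      congrArg Subtype.val (Subgroup.mem_center_iff.mp hw ⟨_, hrP⟩)
    show g⁻¹ * w.1 * g * r = r * (g⁻¹ * w.1 * g)
    calc g⁻¹ * w.1 * g * r = g⁻¹ * (w.1 * (g * r * g⁻¹)) * g := by group
      _ = r * (g⁻¹ * w.1 * g) := by rw [← hc]; group

omit e he in
/-- The statement for a central subgroup of order three. -/
theorem main {Z : Subgroup G} (hZ : Nat.card Z = 3) (P : Sylow 3 G)
    (hP : Z ≤ (Subgroup.center ↥(P : Subgroup G)).map (P : Subgroup G).subtype) :
    IsExtraspecial 3 ↥(generalizedFittingSubgroup ↥(Subgroup.normalizer (Z : Set G))) ∧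
      Nat.card ↥(generalizedFittingSubgroup ↥(Subgroup.normalizer (Z : Set G))) = 3 ^ 9 ∧
      Cfsg.commutingWidth (D ∩ (Subgroup.centralizer (Z : Set G) : Set G)) = 4 := by
  obtain ⟨e, he⟩ := exists_model hG hp h23
  obtain ⟨g, rfl⟩ := exists_conj hG hp h23 e he hZ P hP
  set X := X0 e
  set f := MulAut.conj g
  let eN : ↥(Subgroup.normalizer (X : Set G)) ≃* ↥(Subgroup.normalizer ((X.map f.toMonoidHom : Subgroup G) : Set G)) :=
    (f.subgroupMap _).trans (MulEquiv.subgroupCongr (Subgroup.map_equiv_normalizer_eq X f))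
  have hmap := map_generalizedFittingSubgroup_equiv eN
  have hRN : Twins.R D X ≤ Subgroup.normalizer (X : Set G) :=
    (Twins.R_le_centralizer hG).trans (Subgroup.centralizer_le_normalizer _)
  rw [gfit_X0 hG hp h23 e he] at hmap
  rw [← hmap]
  let eR := (Subgroup.subgroupOfEquivOfLe hRN).symm.trans
    (((Twins.R D X).subgroupOf _).equivMapOfInjective eN.toMonoidHom eN.injective)
  refine ⟨M22.Unique.extraspecial_equiv eR (extraspecial_R e he), ?_, ?_⟩
  · rw [← Nat.card_congr eR.toEquiv, card_R e he]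
  · rw [width_conj hG hp h23 g X]
    exact width_X0 e he

end CfsgThreeTrans.M23.CentralThree
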