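/-
Type M(23): the normaliser of a subgroup of order three of width one.
-/
import Cfsg.Agent.Lib.ThreeTrans.M23.CentralThree
import Cfsg.Agent.Lib.CosetEnum.Fi22Three.ZeroGroup
import Cfsg.Agent.Lib.ThreeTrans.M22.InvolClasses
import Mathlib.GroupTheory.Perm.Cycle.Type

set_option autoImplicit false
set_option maxRecDepth 100000
set_option linter.unusedSectionVars false

namespace CfsgThreeTrans.M23.WidthOne

open Cfsg CfsgLib CfsgLib.CosetEnum CfsgThreeTrans CfsgThreeTrans.M23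

universe u

variable {G : Type u} [Group G] [Finite G] {D : Set G}
variable (hG : IsThreeTranspositionGroup D) (hp : IsPrimitiveUnderConj D) (h23 : IsOfTypeM23 G D)

section
include hG hp h23

/-- Subgroups of order three of the same width are conjugate. -/
theorem conj_of_width {X X' : Subgroup G} (hX : Nat.card X = 3) (hX' : Nat.card X' = 3)
    (hw : Cfsg.commutingWidth (D ∩ (Subgroup.centralizer (X : Set G) : Set G)) =
      Cfsg.commutingWidth (D ∩ (Subgroup.centralizer (X' : Set G) : Set G))) :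
    ∃ g : G, X.map (MulAut.conj g).toMonoidHom = X' := by
  obtain ⟨Y, hY3, hYw⟩ := exists_widths hG hp h23
  obtain ⟨P, hP, hPc⟩ := four_invariant hG hp h23
  have hconjw : ∀ {A B : Subgroup G}, (∃ g : G, A.map (MulAut.conj g).toMonoidHom = B) →
      Cfsg.commutingWidth (D ∩ (Subgroup.centralizer (B : Set G) : Set G)) =
        Cfsg.commutingWidth (D ∩ (Subgroup.centralizer (A : Set G) : Set G)) := by
    rintro A B ⟨g, rfl⟩
    exact width_conj hG hp h23 g A
  choose f hf using fun i => hP (Y i) (hY3 i)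
  have hinj : Function.Injective f := fun i j e => by
    have h := hconjw (hPc _ _ (f i) (hf i) (e ▸ hf j))
    rw [hYw, hYw] at h
    exact ((by decide : ∀ i j : Fin 4, ([7, 5, 4, 1] : List ℕ).getD j 0 = ([7, 5, 4, 1] : List ℕ).getD i 0 → i = j) i j h)
  have key : ∀ {A : Subgroup G}, Nat.card A = 3 → ∃ i, P A (f i) ∧
      Cfsg.commutingWidth (D ∩ (Subgroup.centralizer (A : Set G) : Set G)) = ([7, 5, 4, 1] : List ℕ).getD i 0 := by
    intro A hA
    obtain ⟨k, hk⟩ := hP A hA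
    obtain ⟨i, hi⟩ := (Finite.injective_iff_surjective.mp hinj) k
    subst hi
    refine ⟨i, hk, ?_⟩
    rw [hconjw (hPc (Y i) A (f i) (hf i) hk), hYw]
  obtain ⟨i, hi, hiw⟩ := key hX
  obtain ⟨j, hj, hjw⟩ := key hX'
  rw [hiw, hjw] at hw
  have hij := (by decide : ∀ i j : Fin 4, ([7, 5, 4, 1] : List ℕ).getD i 0 = ([7, 5, 4, 1] : List ℕ).getD j 0 → i = j) i j hw
  subst hij
  exact hPc _ _ _ hi hj

end

theorem fp_two_nodup : (Fi23Three.fp 2).Nodup := by decide +kernel

section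
variable {X : Subgroup G} (hX : Nat.card X = 3)
  (hw : Cfsg.commutingWidth (D ∩ (Subgroup.centralizer (X : Set G) : Set G)) = 1)

theorem Fx_conj_image (hD : ∀ g : G, ∀ d ∈ D, g * d * g⁻¹ ∈ D) (g : G) (Y : Subgroup G) :
    Twins.Fx D (Y.map (MulAut.conj g).toMonoidHom) = MulAut.conj g '' Twins.Fx D Y := by
  have hDg : (MulAut.conj g : G ≃* G) '' D = D := by
    refine Set.Subset.antisymm (by rintro _ ⟨d, hd, rfl⟩; exact hD g d hd) fun d hd => ?_
    exact ⟨g⁻¹ * d * g, by simpa using hD g⁻¹ d hd, by simp [mul_assoc]⟩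
  rw [Twins.Fx, Twins.Fx, Set.image_inter (MulAut.conj g).injective, hDg, ← M22.Unique.centralizer_map]
  rfl

include hG hp h23 hX hw

/-- Twenty-seven transpositions centralise the subgroup. -/
theorem ncard_Fx : (Twins.Fx D X).ncard = 27 := by
  classical
  obtain ⟨e, he⟩ := exists_model hG hp h23
  set Y := (Subgroup.zpowers (Fi23Three.rt 2)).map (e : Fi23Three.K →* G)
  have hY : Nat.card Y = 3 := by
    rw [Subgroup.card_map_of_injective e.injective, Nat.card_zpowers, Fi23Three.rt_order (by norm_num)]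
  have hYw : Cfsg.commutingWidth (D ∩ (Subgroup.centralizer (Y : Set G) : Set G)) = 1 := by
    rw [← he, M22.Unique.width_map, Fi23Three.width_rt (by norm_num)]
    rfl
  obtain ⟨g, hg⟩ := conj_of_width hG hp h23 hY hX (hYw.trans hw.symm)
  rw [← hg, Fx_conj_image hG.2.1, Set.ncard_image_of_injective _ (MulAut.conj g).injective]
  have hpt : ∀ i < 27, (Fi23Three.fp 2).getD i 0 < 31671 ∧
      Fi23Three.act (Fi23Three.rt 2) ((Fi23Three.fp 2).getD i 0) = (Fi23Three.fp 2).getD i 0 := by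
    intro i hi
    have h := allN_spec (allN_spec Fi23Three.point_ok 2 (by norm_num)) i (by rw [Fi23Three.fp_len.2.2]; exact hi)
    simp only [Fi23Three.okPointW, force_eq, Bool.and_eq_true, blt_iff] at h
    exact ⟨h.1.1.1, by rw [Fi23Three.act_rt (by norm_num) h.1.1.1]; exact Nat.eq_of_beq_eq_true h.1.1.2⟩
  have hS : Twins.Fx D Y = (fun i => e (Fi23Three.dt ((Fi23Three.fp 2).getD i 0))) '' Set.Iio 27 := by
    ext z
    constructor
    · rintro ⟨hzD, hzc⟩
      rw [← he] at hzD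
      obtain ⟨w, hw', rfl⟩ := hzD
      obtain ⟨d, hd, rfl⟩ := Fi23Three.exists_dt hw'
      have hc : Commute (Fi23Three.rt 2) (Fi23Three.dt d) := e.injective (by
        simpa using Subgroup.mem_centralizer_iff.mp hzc _ ⟨_, Subgroup.mem_zpowers _, rfl⟩)
      obtain ⟨i, hi, rfl⟩ := List.getElem_of_mem (Fi23Three.fixed_mem (by norm_num) hd ((Fi23Three.commute_dt hd).mp hc))
      exact ⟨i, Fi23Three.fp_len.2.2 ▸ hi, by simp only; rw [List.getD_eq_getElem _ _ hi]⟩
    · rintro ⟨i, hi, rfl⟩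
      refine ⟨he ▸ ⟨_, Fi23Three.dt_mem _, rfl⟩, Subgroup.mem_centralizer_iff.mpr ?_⟩
      rintro _ ⟨_, ⟨n, rfl⟩, rfl⟩
      exact (((Fi23Three.commute_dt (hpt i hi).1).mpr (hpt i hi).2).zpow_left n).map e |>.eq
  have hinj : Set.InjOn (fun i => e (Fi23Three.dt ((Fi23Three.fp 2).getD i 0))) (Set.Iio 27) := by
    intro i hi j hj h
    have e' := Fi23Three.dt_injective (hpt i hi).1 (hpt j hj).1 (e.injective h)
    have hi' : i < (Fi23Three.fp 2).length := by rw [Fi23Three.fp_len.2.2]; exact hi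
    have hj' : j < (Fi23Three.fp 2).length := by rw [Fi23Three.fp_len.2.2]; exact hj
    rw [List.getD_eq_getElem _ _ hi', List.getD_eq_getElem _ _ hj'] at e'
    exact (fp_two_nodup.getElem_inj_iff).mp e'
  rw [hS, Set.ncard_image_of_injOn hinj, ← Finset.coe_Iio, Set.ncard_coe_finset, Nat.card_Iio]

theorem eq_of_commute {a b : G} (ha : a ∈ Twins.Fx D X) (hb : b ∈ Twins.Fx D X) (h : Commute a b) : a = b := by
  by_contra hne
  have hle : ({a, b} : Set G).ncard ≤ 1 := hw ▸ CentralThree.le_width (Set.insert_subset ha (Set.singleton_subset_iff.mpr hb))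
    (by
      intro x hx y hy
      simp only [Set.mem_insert_iff, Set.mem_singleton_iff] at hx hy
      rcases hx with rfl | rfl <;> rcases hy with rfl | rfl
      exacts [Commute.refl _, h, h.symm, Commute.refl _])
  rw [Set.ncard_pair hne] at hle
  omega

theorem carry {a b : G} (ha : a ∈ Twins.Fx D X) (hb : b ∈ Twins.Fx D X) : a * b * a * (a * b)⁻¹ = b := by
  have aa : a * a = 1 := mul_self hG.1 ha.1
  have bb : b * b = 1 := mul_self hG.1 hb.1
  rcases eq_or_ne a b with rfl | hne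
  · group
  have h3 : (a * b) ^ 3 = 1 := pow_three hG.1 ha.1 hb.1 fun h => hne (eq_of_commute hG hp h23 hX hw ha hb h)
  rw [mul_inv_rev, inv_eq_of_mul_eq_one_right aa, inv_eq_of_mul_eq_one_right bb]
  calc a * b * a * (b * a) = a * b * (a * b) * (a * b) * b⁻¹ := by group
    _ = b := by
      rw [show a * b * (a * b) * (a * b) = (a * b) ^ 3 by simp [pow_succ], h3, one_mul,
        inv_eq_of_mul_eq_one_right bb]

/-- The products form a 3-group. -/
theorem products_three : IsPGroup 3 ↥(Subgroup.closure {g : G | ∃ a ∈ Twins.Fx D X, ∃ b ∈ Twins.Fx D X, g = a * b}) := by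
  obtain ⟨P, hP, -, hmem⟩ := width_one_products (Twins.Fx D X) (fun a ha => hG.1.1 a ha.1)
    (fun a ha b hb => Twins.Fx_conj hG (Twins.Fx_mem_normalizer hG ha) hb) fun a ha b hb => by
      rcases eq_or_ne a b with rfl | hne
      · rw [mul_self hG.1 ha.1, one_pow]
      · exact pow_three hG.1 ha.1 hb.1 fun h => hne (eq_of_commute hG hp h23 hX hw ha hb h)
  refine hP.to_le ((Subgroup.closure_le _).mpr ?_)
  rintro _ ⟨a, ha, b, hb, rfl⟩
  exact hmem a ha b hb

/-- The centraliser of a member maps onto the local normaliser. -/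
theorem local_hom {a : G} (ha : a ∈ Twins.Fx D X) :
    ∃ φ : ↥(Subgroup.normalizer (X : Set G) ⊓ Subgroup.centralizer {a}) →*
        ↥(Subgroup.normalizer ((M22.Unique.rootSub 3 : Subgroup Fi22Three.K) : Set Fi22Three.K)),
      Function.Surjective φ ∧ ∀ g, φ g = 1 ↔ g.1 = 1 ∨ g.1 = a := by
  have hXa : X ≤ Subgroup.centralizer {a} := fun x hx =>
    Subgroup.mem_centralizer_singleton_iff.mpr (Subgroup.mem_centralizer_iff.mp ha.2 x hx)
  have h0 : Cfsg.commutingWidth (Ds D a ∩ (Subgroup.centralizer (X : Set G) : Set G)) = Fi22Three.wid.getD 3 0 := by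
    refine Nat.le_zero.mp (CentralThree.width_le fun E hE _ => ?_)
    refine Nat.le_zero.mpr ((Set.ncard_eq_zero (Set.toFinite _)).mpr (Set.eq_empty_iff_forall_notMem.mpr fun d hd => ?_))
    exact (hE hd).1.2.1 (eq_of_commute hG hp h23 hX hw ha ⟨(hE hd).1.1, (hE hd).2⟩ (hE hd).1.2.2).symm
  obtain ⟨φ, h1, h2, -⟩ := Local.exists_local hG hp h23 hX ha.1 hXa (k := 3) (by norm_num) h0
  exact ⟨φ, h1, h2⟩

/-- The structure of the normaliser, with the projection killing the transpositions. -/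
theorem main_proj : ∃ Φ : ↥(Subgroup.normalizer (X : Set G)) →* ℤˣ × Matrix.GeneralLinearGroup (Fin 2) (ZMod 3),
    Function.Surjective Φ ∧ Φ.ker = pCore 3 ↥(Subgroup.normalizer (X : Set G)) ∧ Nat.card Φ.ker = 3 ^ 9 ∧
    Nat.card ↥(Subgroup.normalizer (X : Set G)) = 27 * (48 * 3 ^ 6 * 2) ∧
    ∀ d : ↥(Subgroup.normalizer (X : Set G)), (d : G) ∈ Twins.Fx D X → (Φ d).2 = 1 := by
  classical
  have := Fi22Three.finiteK
  have : Fact (Nat.Prime 3) := ⟨by norm_num⟩
  have h27 := ncard_Fx hG hp h23 hX hw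
  obtain ⟨a, ha⟩ : (Twins.Fx D X).Nonempty := Set.nonempty_of_ncard_ne_zero (by omega)
  set N := Subgroup.normalizer (X : Set G)
  have haN : a ∈ N := Twins.Fx_mem_normalizer hG ha
  have aa : a * a = 1 := mul_self hG.1 ha.1
  -- the action on the members and its sign
  let ρ : ↥N →* Equiv.Perm ↥(Twins.Fx D X) :=
    { toFun := fun n =>
        ⟨fun b => ⟨n.1 * b.1 * n.1⁻¹, Twins.Fx_conj hG n.2 b.2⟩,
          fun b => ⟨n.1⁻¹ * b.1 * n.1⁻¹⁻¹, Twins.Fx_conj hG (inv_mem n.2) b.2⟩,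
          fun b => Subtype.ext (by simp [mul_assoc]), fun b => Subtype.ext (by simp [mul_assoc])⟩
      map_one' := Equiv.ext fun b => Subtype.ext (by simp)
      map_mul' := fun m n => Equiv.ext fun b => Subtype.ext (by simp [mul_assoc]) }
  haveI : Fintype ↥(Twins.Fx D X) := Fintype.ofFinite _
  let χ : ↥N →* ℤˣ := Equiv.Perm.sign.comp ρ
  have hχa : χ ⟨a, haN⟩ = -1 := by
    set σ := ρ ⟨a, haN⟩
    have hval : ∀ b, (σ b).1 = a * b.1 * a⁻¹ := fun b => rfl
    have hfix : ∀ b, σ b = b ↔ b = ⟨a, ha⟩ := fun b => by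
      constructor
      · intro h
        have h' : a * b.1 * a⁻¹ = b.1 := by rw [← hval, h]
        exact Subtype.ext (eq_of_commute hG hp h23 hX hw b.2 ha (mul_inv_eq_iff_eq_mul.mp h').symm)
      · rintro rfl
        exact Subtype.ext (by rw [hval]; simp)
    have hsupp : σ.support = Finset.univ.erase ⟨a, ha⟩ := by
      ext b
      simp [Equiv.Perm.mem_support, hfix]
    have hcard : σ.support.card = 26 := by
      rw [hsupp, Finset.card_erase_of_mem (Finset.mem_univ _), Finset.card_univ, ← Nat.card_eq_fintype_card,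
        Nat.card_coe_set_eq, h27]
    have hord : orderOf σ = 2 := by
      refine orderOf_eq_prime ?_ fun h => ?_
      · rw [← map_pow, show (⟨a, haN⟩ : ↥N) ^ 2 = 1 from Subtype.ext (by simp [pow_two, aa]), map_one]
      · rw [h] at hcard; simp at hcard
    obtain ⟨n, hn⟩ := Equiv.Perm.cycleType_prime_order (σ := σ) (by rw [hord]; exact Nat.prime_two)
    rw [hord] at hn
    have hsum := Equiv.Perm.sum_cycleType σ
    rw [hn, Multiset.sum_replicate, hcard, smul_eq_mul] at hsum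
    show Equiv.Perm.sign σ = -1
    rw [Equiv.Perm.sign_of_cycleType, hn, Multiset.sum_replicate, Multiset.card_replicate, smul_eq_mul, hsum,
      show n + 1 = 13 by omega]
    decide
  -- the normal subgroup of the products
  set gens := {g : G | ∃ x ∈ Twins.Fx D X, ∃ y ∈ Twins.Fx D X, g = x * y}
  set T := Subgroup.closure gens
  have hT3 : IsPGroup 3 T := products_three hG hp h23 hX hw
  have hTN : T ≤ N := (Subgroup.closure_le _).mpr (by
    rintro _ ⟨x, hx, y, hy, rfl⟩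
    exact mul_mem (Twins.Fx_mem_normalizer hG hx) (Twins.Fx_mem_normalizer hG hy))
  have hTn : ∀ n ∈ N, ∀ t ∈ T, n * t * n⁻¹ ∈ T := by
    intro n hn t ht
    have hle : T ≤ T.comap (MulAut.conj n).toMonoidHom := (Subgroup.closure_le _).mpr (by
      rintro _ ⟨x, hx, y, hy, rfl⟩
      exact Subgroup.subset_closure ⟨_, Twins.Fx_conj hG hn hx, _, Twins.Fx_conj hG hn hy, by
        show n * (x * y) * n⁻¹ = _; group⟩)
    exact hle ht
  set C := N ⊓ Subgroup.centralizer {a}
  have hdec : ∀ n : ↥N, ∃ t ∈ T, ∃ c : ↥C, n.1 = t * c.1 := fun n => by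
    have hb := Twins.Fx_conj hG n.2 ha
    set b := n.1 * a * n.1⁻¹ with hbdef
    have ht : a * b ∈ T := Subgroup.subset_closure ⟨_, ha, _, hb, rfl⟩
    have hcar := carry hG hp h23 hX hw ha hb
    refine ⟨a * b, ht, ⟨(a * b)⁻¹ * n.1, Subgroup.mem_inf.mpr ⟨N.mul_mem (N.inv_mem (hTN ht)) n.2,
      Subgroup.mem_centralizer_singleton_iff.mpr ?_⟩⟩, (mul_inv_cancel_left _ _).symm⟩
    calc (a * b)⁻¹ * n.1 * a = (a * b)⁻¹ * b * n.1 := by rw [hbdef]; group
      _ = (a * b)⁻¹ * (a * b * a * (a * b)⁻¹) * n.1 := by rw [hcar]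
      _ = a * ((a * b)⁻¹ * n.1) := by group
  obtain ⟨φ, hφs, hφk⟩ := local_hom hG hp h23 hX hw ha
  obtain ⟨eQ⟩ := Fi22Three.Zero.quotient_iso
  let eN : ↥(Subgroup.normalizer ((M22.Unique.rootSub 3 : Subgroup Fi22Three.K) : Set Fi22Three.K)) ≃*
      ↥Fi22Three.Zero.C.N := MulEquiv.subgroupCongr Fi22Three.Zero.normalizer_eq
  let ψ : ↥C →* Matrix.GeneralLinearGroup (Fin 2) (ZMod 3) :=
    eQ.toMonoidHom.comp ((QuotientGroup.mk' _).comp (eN.toMonoidHom.comp φ))
  have hψs : Function.Surjective ψ :=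
    eQ.surjective.comp ((QuotientGroup.mk'_surjective _).comp (eN.surjective.comp hφs))
  have hψT : ∀ c : ↥C, c.1 ∈ T → ψ c = 1 := by
    intro c hc
    have hn : (T.subgroupOf C).Normal := ⟨fun x hx n => hTn _ n.2.1 _ hx⟩
    haveI : ((T.subgroupOf C).map ψ).Normal := hn.map ψ hψs
    have hP : IsPGroup 3 ↥(T.subgroupOf C) :=
      hT3.of_injective ((C.subtype.comp (T.subgroupOf C).subtype).codRestrict T fun g => g.2) (fun g h q =>
        Subtype.ext (Subtype.ext (congrArg (fun x : ↥T => x.1) q)))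
    have h := Fi22Three.Zero.normal_three_bot _ (hP.map ψ)
    exact Subgroup.mem_bot.mp (h ▸ Subgroup.mem_map_of_mem _ (Subgroup.mem_subgroupOf.mpr hc))
  choose tt htt cc hcc using hdec
  have huniq : ∀ (n : ↥N) (t : G) (c : ↥C), t ∈ T → n.1 = t * c.1 → ψ (cc n) = ψ c := by
    intro n t c ht e
    have hm : ((cc n) * c⁻¹).1 ∈ T := by
      have e' : (cc n).1 * c.1⁻¹ = (tt n)⁻¹ * t := by
        have := (hcc n).symm.trans e
        calc (cc n).1 * c.1⁻¹ = (tt n)⁻¹ * (tt n * (cc n).1) * c.1⁻¹ := by group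
          _ = (tt n)⁻¹ * t := by rw [this]; group
      show (cc n).1 * c.1⁻¹ ∈ T
      rw [e']
      exact mul_mem (inv_mem (htt n)) ht
    have := hψT _ hm
    rwa [map_mul, map_inv, mul_inv_eq_one] at this
  let Ψ : ↥N →* Matrix.GeneralLinearGroup (Fin 2) (ZMod 3) := MonoidHom.mk' (fun n => ψ (cc n)) fun m n => by
    show ψ (cc (m * n)) = ψ (cc m) * ψ (cc n)
    rw [← map_mul]
    refine huniq _ (tt m * ((cc m).1 * tt n * (cc m).1⁻¹)) _
      (mul_mem (htt m) (hTn _ (cc m).2.1 _ (htt n))) ?_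
    show m.1 * n.1 = _ * ((cc m).1 * (cc n).1)
    conv_lhs => rw [hcc m, hcc n]
    group
  have hΨC : ∀ c : ↥C, Ψ ⟨c.1, c.2.1⟩ = ψ c := fun c => huniq _ 1 c (one_mem _) (one_mul _).symm
  let aC : ↥C := ⟨a, haN, Subgroup.mem_centralizer_singleton_iff.mpr rfl⟩
  have hψa : ψ aC = 1 := by
    show eQ (QuotientGroup.mk' _ (eN (φ aC))) = 1
    rw [(hφk aC).mpr (Or.inr rfl), map_one, map_one, map_one]
  let Φ := χ.prod Ψ
  have hΦs : Function.Surjective Φ := by
    rintro ⟨ε, y⟩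
    obtain ⟨c, rfl⟩ := hψs y
    set n : ↥N := ⟨c.1, c.2.1⟩
    rcases eq_or_ne (χ n) ε with h | h
    · exact ⟨n, Prod.ext h (hΨC c)⟩
    · refine ⟨n * ⟨a, haN⟩, Prod.ext ?_ ?_⟩
      · show χ (n * ⟨a, haN⟩) = ε
        rw [map_mul, hχa]
        rcases Int.units_eq_one_or ε with r | r <;> rcases Int.units_eq_one_or (χ n) with s | s <;>
          first | (rw [r, s]; rfl) | (rw [r, s] at h; exact absurd rfl h)
      · show Ψ (n * ⟨a, haN⟩) = ψ c
        rw [map_mul, hΨC c, show (⟨a, haN⟩ : ↥N) = ⟨aC.1, aC.2.1⟩ from rfl, hΨC aC, hψa, mul_one]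
  -- the orders
  have hN22 : Nat.card ↥(Subgroup.normalizer ((M22.Unique.rootSub 3 : Subgroup Fi22Three.K) : Set Fi22Three.K)) =
      48 * 3 ^ 6 := by
    rw [Nat.card_congr eN.toEquiv, Subgroup.card_eq_card_quotient_mul_card_subgroup (pCore 3 ↥Fi22Three.Zero.C.N),
      Nat.card_congr eQ.toEquiv, Matrix.card_GL_field, Fi22Three.Zero.pCore_eq,
      Nat.card_congr (Subgroup.subgroupOfEquivOfLe (Fi22Three.NData.Q_le_N (C := Fi22Three.Zero.C))).toEquiv,
      Fi22Three.Zero.card_Q]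
    simp [Fin.prod_univ_two]
  have hker : φ.ker = Subgroup.zpowers aC := by
    refine le_antisymm (fun g hg => ?_) (Subgroup.zpowers_le.mpr ((hφk aC).mpr (Or.inr rfl)))
    rcases (hφk g).mp hg with h | h
    · rw [show g = 1 from Subtype.ext h]; exact one_mem _
    · rw [show g = aC from Subtype.ext h]; exact Subgroup.mem_zpowers _
  have hC : Nat.card C = 48 * 3 ^ 6 * 2 := by
    rw [Subgroup.card_eq_card_quotient_mul_card_subgroup φ.ker,
      Nat.card_congr (QuotientGroup.quotientKerEquivOfSurjective φ hφs).toEquiv, hN22, hker, Nat.card_zpowers,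
      ← Subgroup.orderOf_coe]
    show 48 * 3 ^ 6 * orderOf a = _
    rw [hG.1.1 a ha.1]
  have hN : Nat.card N = 27 * (48 * 3 ^ 6 * 2) := by
    rw [M22.card_orbit_stab N a (Twins.Fx D X) (fun k hk => Twins.Fx_conj hG hk ha) (fun y hy =>
      ⟨a * y, mul_mem haN (Twins.Fx_mem_normalizer hG hy), carry hG hp h23 hX hw ha hy⟩), h27, hC]
  let eK : ↥N ⧸ Φ.ker ≃* ℤˣ × Matrix.GeneralLinearGroup (Fin 2) (ZMod 3) :=
    QuotientGroup.quotientKerEquivOfSurjective Φ hΦs
  have hkc : Nat.card Φ.ker = 3 ^ 9 := by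
    have h := Subgroup.card_eq_card_quotient_mul_card_subgroup Φ.ker
    rw [hN, Nat.card_congr eK.toEquiv, Nat.card_prod, Matrix.card_GL_field,
      show Nat.card ℤˣ = 2 by rw [Nat.card_eq_fintype_card]; rfl] at h
    simp [Fin.prod_univ_two, -MonoidHom.mem_ker] at h
    omega
  have hcore : pCore 3 ↥N = Φ.ker := by
    refine le_antisymm (fun z hz => ?_) (le_pCore (IsPGroup.of_card hkc))
    haveI hn : (pCore 3 ↥N).Normal := Subgroup.sSup_normal _ (fun _ h => h.1)
    have hQ := isPGroup_pCore (G := ↥N) 3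
    refine MonoidHom.mem_ker.mpr (Prod.ext ?_ ?_)
    · show χ z = 1
      obtain ⟨k, hk⟩ := hQ ⟨z, hz⟩
      have hk' : z ^ 3 ^ k = 1 := congrArg Subtype.val hk
      have h := congrArg χ hk'
      rw [map_pow, map_one] at h
      rcases Int.units_eq_one_or (χ z) with r | r
      · exact r
      · rw [r, Odd.neg_one_pow ((by decide : Odd 3).pow)] at h
        exact absurd h (by decide)
    · show Ψ z = 1
      have hΨs : Function.Surjective Ψ := fun y => by
        obtain ⟨n, hn⟩ := hΦs (1, y)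
        exact ⟨n, congrArg Prod.snd hn⟩
      haveI : ((pCore 3 ↥N).map Ψ).Normal := hn.map Ψ hΨs
      exact Subgroup.mem_bot.mp (Fi22Three.Zero.normal_three_bot _ (hQ.map Ψ) ▸ Subgroup.mem_map_of_mem _ hz)
  refine ⟨Φ, hΦs, hcore.symm, hkc, hN, fun d hd => ?_⟩
  set b := (d : G)
  have ht : a * b ∈ N := mul_mem haN (Twins.Fx_mem_normalizer hG hd)
  have e : d = ⟨a * b, ht⟩ * ⟨a, haN⟩ * (⟨a * b, ht⟩ : ↥N)⁻¹ :=
    Subtype.ext (carry hG hp h23 hX hw ha hd).symm
  show Ψ d = 1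
  rw [e, map_mul, map_mul, show Ψ ⟨a, haN⟩ = 1 from (hΨC aC).trans hψa, mul_one, map_inv, mul_inv_cancel]

/-- The structure of the normaliser. -/
theorem main : Nat.card ↥(pCore 3 ↥(Subgroup.normalizer (X : Set G))) = 3 ^ 9 ∧
    Nonempty (↥(Subgroup.normalizer (X : Set G)) ⧸ pCore 3 ↥(Subgroup.normalizer (X : Set G)) ≃*
      Multiplicative (ZMod 2) × Matrix.GeneralLinearGroup (Fin 2) (ZMod 3)) := by
  obtain ⟨Φ, hΦs, hcore, hkc, -, -⟩ := main_proj hG hp h23 hX hw
  let e2 : ℤˣ ≃* Multiplicative (ZMod 2) := mulEquivOfPrimeCardEq (p := 2)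
    (by rw [Nat.card_eq_fintype_card]; rfl) (by rw [Nat.card_eq_fintype_card]; rfl)
  refine ⟨hcore ▸ hkc, ⟨?_⟩⟩
  exact (QuotientGroup.quotientMulEquivOfEq hcore.symm).trans
    ((QuotientGroup.quotientKerEquivOfSurjective Φ hΦs).trans (e2.prodCongr (MulEquiv.refl _)))

end

end CfsgThreeTrans.M23.WidthOne
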