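/-
Fi23: the normaliser of a central element of order three is maximal, solvable and of derived length more than nine.
-/
import Cfsg.Agent.Lib.ThreeTrans.M23.CentralThree
import Cfsg.Agent.Lib.ThreeTrans.M23.Primitive
import Cfsg.Agent.Lib.ThreeTrans.Exist.Type23
import Cfsg.Agent.Lib.CosetEnum.Fi23Three.DerivedWitness
import Cfsg.Agent.Lib.CosetEnum.Fi22Three.OneIndex
import Cfsg.Agent.Lib.CharTheory.Burnside

set_option autoImplicit false
set_option maxRecDepth 100000

namespace CfsgThreeTrans.M23.DerivedTen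

open Cfsg CfsgLib CfsgLib.CosetEnum CfsgThreeTrans CfsgThreeTrans.M23
open CfsgLib.CosetEnum.Fi23Three (K dt act tz finiteK simpleK cardK)
open CfsgLib.CosetEnum.Fi23Three.Central (Z x0 q)

/-- The normaliser. -/
noncomputable abbrev Nz : Subgroup K := Subgroup.normalizer (Z : Set K)

theorem commute_mem {g : K} (h : Commute g x0) : g ∈ Nz := by
  refine Subgroup.centralizer_le_normalizer _ (Subgroup.mem_centralizer_iff.mpr ?_)
  rintro _ ⟨n, rfl⟩
  exact (h.zpow_right n).symm.eq

theorem conj_H9 {g : K} (hg : ∀ z ∈ conjugatesOf tz, Commute z x0 → Commute (g * z * g⁻¹) x0)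
    (hg' : ∀ z ∈ conjugatesOf tz, Commute z x0 → Commute (g⁻¹ * z * g) x0) :
    ∀ p ∈ Fi23Three.H 9, g * p * g⁻¹ ∈ Fi23Three.H 9 := by
  have hcj : ∀ (h z : K), z ∈ conjugatesOf tz → h * z * h⁻¹ ∈ conjugatesOf tz := fun h z hz => by
    obtain ⟨c, rfl⟩ := isConj_iff.mp (show IsConj _ z from hz)
    exact (show IsConj _ _ from isConj_iff.mpr ⟨h * c, by group⟩)
  have mv : ∀ i < 324, ∃ j < 324, q j = g * q i * g⁻¹ := fun i hi =>
    Fi23Three.Central.q_surj (hcj g _ (Fi23Three.Central.q_mem i))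
      (hg _ (Fi23Three.Central.q_mem i) (Fi23Three.Central.q_cent hi))
  have mv' : ∀ i < 324, ∃ j < 324, g * q j * g⁻¹ = q i := fun i hi => by
    obtain ⟨j, hj, e⟩ := Fi23Three.Central.q_surj (z := g⁻¹ * q i * g)
      (by simpa using hcj g⁻¹ _ (Fi23Three.Central.q_mem i))
      (hg' _ (Fi23Three.Central.q_mem i) (Fi23Three.Central.q_cent hi))
    exact ⟨j, hj, by rw [e]; group⟩
  have hadj : ∀ {i j i' j' : ℕ}, i < 324 → j < 324 → i' < 324 → j' < 324 → q i' = g * q i * g⁻¹ →
      q j' = g * q j * g⁻¹ → Fi23Three.padj 1 i' j' = Fi23Three.padj 1 i j := by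
    intro i j i' j' hi hj hi' hj' ei ej
    rw [Bool.eq_iff_iff, ← Fi23Three.Central.q_pattern hi' hj', ← Fi23Three.Central.q_pattern hi hj, ei, ej]
    constructor
    · intro h
      have := h.map (MulAut.conj g⁻¹).toMonoidHom
      simpa [mul_assoc] using this
    · exact fun h => h.map (MulAut.conj g).toMonoidHom
  intro p hp
  have hp' : p ∈ Subgroup.closure {r : K | ∃ a b, a < 324 ∧ b < 324 ∧ Fi23Three.Central.Tw a b ∧ r = q a * q b} := by
    refine (Subgroup.closure_le _).mpr ?_ hp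
    rintro _ ⟨j, hj, rfl⟩
    exact Fi23Three.Central.gen_spec hj
  refine (Subgroup.closure_le ((Fi23Three.H 9).comap (MulAut.conj g).toMonoidHom)).mpr ?_ hp'
  rintro _ ⟨a, b, ha, hb, ht, rfl⟩
  obtain ⟨a', ha', ea⟩ := mv a ha
  obtain ⟨b', hb', eb⟩ := mv b hb
  have htw : Fi23Three.Central.Tw a' b' := by
    refine ⟨fun e => ht.1 ?_, (hadj ha hb ha' hb' ea eb).trans ht.2.1, fun c hc hca hcb => ?_⟩
    · refine Fi23Three.Central.q_inj ha hb ?_
      rw [e, eb] at ea
      exact (mul_left_cancel (mul_right_cancel ea)).symm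
    · obtain ⟨c', hc', ec⟩ := mv' c hc
      have h1 : c' ≠ a := fun e => hca (Fi23Three.Central.q_inj hc ha' (by rw [ea, ← ec, e]))
      have h2 : c' ≠ b := fun e => hcb (Fi23Three.Central.q_inj hc hb' (by rw [eb, ← ec, e]))
      rw [hadj ha hc' ha' hc ea ec.symm, hadj hb hc' hb' hc eb ec.symm]
      exact ht.2.2 c' hc' h1 h2
  show g * (q a * q b) * g⁻¹ ∈ Fi23Three.H 9
  rw [show g * (q a * q b) * g⁻¹ = q a' * q b' by rw [ea, eb]; group]
  exact Fi23Three.Central.tw_mem ha' hb' htw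

theorem mem_Nz_of_conj {g : K} (hg : ∀ z ∈ conjugatesOf tz, Commute z x0 → Commute (g * z * g⁻¹) x0)
    (hg' : ∀ z ∈ conjugatesOf tz, Commute z x0 → Commute (g⁻¹ * z * g) x0) : g ∈ Nz := by
  have := finiteK
  have hinv : ∀ p ∈ Fi23Three.H 9, g⁻¹ * p * g ∈ Fi23Three.H 9 := fun p hp => by
    have := conj_H9 (g := g⁻¹) (by simpa using hg') (by simpa using hg) p hp
    simpa using this
  have key : g * x0 * g⁻¹ ∈ Z := by
    refine Fi23Three.Central.centre_le (conj_H9 hg hg' _ Fi23Three.Central.x0_mem) fun p hp => ?_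
    have hc : Commute x0 (g⁻¹ * p * g) :=
      Fi23Three.Central.x0_central (Fi23Three.H_mono (by norm_num) (hinv p hp))
    have := hc.map (MulAut.conj g).toMonoidHom
    simpa [mul_assoc] using this
  have hle : Z.map (MulAut.conj g).toMonoidHom ≤ Z := by
    rw [MonoidHom.map_zpowers, Subgroup.zpowers_le]
    exact key
  have heq := Subgroup.eq_of_le_of_card_ge hle
    (le_of_eq (Subgroup.card_map_of_injective (MulAut.conj g).injective).symm)
  refine Subgroup.mem_normalizer_iff.mpr fun y => ⟨fun hy => hle ⟨y, hy, rfl⟩, fun hy => ?_⟩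
  obtain ⟨z, hz, e⟩ := heq.symm ▸ hy
  rwa [← (MulAut.conj g).injective e]

theorem Nz_ne_top : Nz ≠ ⊤ := by
  have := finiteK
  have := simpleK
  intro h
  haveI : Z.Normal := Subgroup.normalizer_eq_top_iff.mp h
  have hZ : Nat.card Z = 3 := by rw [Nat.card_zpowers, Fi23Three.Central.x0_order]
  rcases Subgroup.Normal.eq_bot_or_eq_top (H := Z) inferInstance with e | e
  · rw [e, Subgroup.card_bot] at hZ; omega
  · rw [e, Subgroup.card_top, cardK] at hZ; omega

theorem maximal : IsCoatom Nz := by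
  refine ⟨Nz_ne_top, fun L hL => ?_⟩
  by_contra hne
  have hcL : ∀ g : K, Commute g x0 → g ∈ L := fun g hg => hL.le (commute_mem hg)
  have hFx : ∀ z ∈ conjugatesOf tz, z ∈ L → Commute z x0 := fun z hz hzL => by
    obtain ⟨d, hd, rfl⟩ := Fi23Three.exists_dt hz
    exact (Fi23Three.Maximal.top_or_commute hcL hd hzL).resolve_left hne
  refine hL.not_ge fun g hg => mem_Nz_of_conj (fun z hz hc => hFx _ ?_ ?_) fun z hz hc => hFx _ ?_ ?_
  · obtain ⟨c, rfl⟩ := isConj_iff.mp (show IsConj _ z from hz)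
    exact (show IsConj _ _ from isConj_iff.mpr ⟨g * c, by group⟩)
  · exact mul_mem (mul_mem hg (hcL z hc)) (inv_mem hg)
  · obtain ⟨c, rfl⟩ := isConj_iff.mp (show IsConj _ z from hz)
    exact (show IsConj _ _ from isConj_iff.mpr ⟨g⁻¹ * c, by group⟩)
  · exact mul_mem (mul_mem (inv_mem hg) (hcL z hc)) hg

theorem class23 : IsThreeTranspositionClass (conjugatesOf tz) := Fi23Class.facts.2.1

theorem three23 : IsThreeTranspositionGroup (conjugatesOf tz) := cls_group class23

theorem type23 : IsOfTypeM23 K (conjugatesOf tz) := Exist.type23_pres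

theorem prim23 : IsPrimitiveUnderConj (conjugatesOf tz) := by
  have := finiteK
  exact M23.primitive class23 type23

/-- The fixed transpositions. -/
abbrev Fx : Set K := {z | z ∈ conjugatesOf tz ∧ Commute z x0}

theorem ncard_Fx : Fx.ncard = 324 := by
  have e : Fx = q '' Set.Iio 324 := by
    ext z
    constructor
    · rintro ⟨hz, hc⟩
      obtain ⟨i, hi, e⟩ := Fi23Three.Central.q_surj hz hc
      exact ⟨i, hi, e⟩
    · rintro ⟨i, hi, rfl⟩
      exact ⟨Fi23Three.Central.q_mem i, Fi23Three.Central.q_cent hi⟩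
  have hinj : Set.InjOn q (Set.Iio 324) := fun i hi j hj h => Fi23Three.Central.q_inj hi hj h
  rw [e, hinj.ncard_image, Set.ncard_eq_toFinset_card']
  simp

theorem card_Nz : Nat.card Nz = 2 ^ 11 * 3 ^ 13 := by
  classical
  have := finiteK
  have := Fi22Three.finiteK
  set e : K ≃* K := MulEquiv.refl K
  have he : e '' conjugatesOf tz = conjugatesOf tz := Set.image_id _
  have hX : CentralThree.X0 e = Z := Subgroup.map_id _
  have hmem : ∀ {z : K}, z ∈ Twins.Fx (conjugatesOf tz) Z ↔ z ∈ Fx := by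
    intro z
    constructor
    · exact fun h => ⟨h.1, (Subgroup.mem_centralizer_iff.mp h.2 x0 (Subgroup.mem_zpowers _)).symm⟩
    · refine fun h => ⟨h.1, Subgroup.mem_centralizer_iff.mpr ?_⟩
      rintro _ ⟨n, rfl⟩
      exact (h.2.zpow_right n).symm.eq
  have h0 : q 0 ∈ Fx := ⟨Fi23Three.Central.q_mem 0, Fi23Three.Central.q_cent (by norm_num)⟩
  set C := (Subgroup.centralizer ({q 0} : Set K)).subgroupOf Nz
  have hf : ∀ y : ↥Nz, y.1 * q 0 * y.1⁻¹ ∈ Fx := fun y =>
    hmem.mp (Twins.Fx_conj three23 y.2 (hmem.mpr h0))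
  let f : ↥Nz ⧸ C → ↥Fx := Quotient.lift (fun y => ⟨_, hf y⟩) (by
    intro y z hyz
    have h : y⁻¹ * z ∈ C := QuotientGroup.leftRel_apply.mp hyz
    have hc := Subgroup.mem_centralizer_singleton_iff.mp (Subgroup.mem_subgroupOf.mp h)
    refine Subtype.ext ?_
    show y.1 * q 0 * y.1⁻¹ = z.1 * q 0 * z.1⁻¹
    have e : z.1 = y.1 * ((y⁻¹ * z : ↥Nz) : K) := by simp
    generalize ((y⁻¹ * z : ↥Nz) : K) = w at hc e
    rw [e]
    calc y.1 * q 0 * y.1⁻¹ = y.1 * (q 0 * w) * w⁻¹ * y.1⁻¹ := by group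
      _ = y.1 * w * q 0 * (y.1 * w)⁻¹ := by rw [← hc]; group)
  have hinj : Function.Injective f := by
    intro p r
    induction p using QuotientGroup.induction_on with
    | _ y =>
      induction r using QuotientGroup.induction_on with
      | _ z =>
        intro h
        have e : y.1 * q 0 * y.1⁻¹ = z.1 * q 0 * z.1⁻¹ := congrArg Subtype.val h
        refine QuotientGroup.eq.mpr (Subgroup.mem_subgroupOf.mpr
          (Subgroup.mem_centralizer_singleton_iff.mpr ?_))
        show y.1⁻¹ * z.1 * q 0 = q 0 * (y.1⁻¹ * z.1)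
        calc y.1⁻¹ * z.1 * q 0 = y.1⁻¹ * (z.1 * q 0 * z.1⁻¹) * z.1 := by group
          _ = q 0 * (y.1⁻¹ * z.1) := by rw [← e]; group
  have hsurj : Function.Surjective f := by
    rintro ⟨b, hb, hbc⟩
    obtain ⟨j, hj, rfl⟩ := Fi23Three.Central.q_surj hb hbc
    have hmid : q j = q 0 ∨ ¬ Commute (q 0) (q j) ∨
        ∃ c ∈ Twins.Fx (conjugatesOf tz) Z, ¬ Commute (q 0) c ∧ ¬ Commute c (q j) := by
      have h := Fi23Three.Central.pattern_ok
      simp only [Fi23Three.Central.okPattern, Bool.and_eq_true] at h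
      have h' := allN_spec h.1.1.1.1.1.1.1.1.1.1.1 j hj
      simp only [force_eq, Bool.or_eq_true, Bool.and_eq_true, Bool.not_eq_eq_eq_not, Bool.not_true, blt_iff] at h'
      rcases h' with (h' | h') | ⟨⟨hc, h1⟩, h2⟩
      · exact Or.inl (congrArg q (Nat.eq_of_beq_eq_true h'))
      · exact Or.inr (Or.inl fun q' => by
          rw [(Fi23Three.Central.q_pattern (by norm_num) hj).mp q'] at h'; simp at h')
      · exact Or.inr (Or.inr ⟨q _, hmem.mpr ⟨Fi23Three.Central.q_mem _, Fi23Three.Central.q_cent hc⟩,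
          fun q' => by rw [(Fi23Three.Central.q_pattern (by norm_num) hc).mp q'] at h1; simp at h1,
          fun q' => by rw [(Fi23Three.Central.q_pattern hc hj).mp q'] at h2; simp at h2⟩)
    obtain ⟨x, hx, hxe⟩ := Twins.exists_carry three23 (hmem.mpr h0) (hmem.mpr ⟨hb, hbc⟩) hmid
    exact ⟨QuotientGroup.mk (⟨x, Subgroup.centralizer_le_normalizer _ hx⟩ : ↥Nz), Subtype.ext hxe⟩
  have hidx : C.index = 324 := by
    rw [Subgroup.index, Nat.card_eq_of_bijective f ⟨hinj, hsurj⟩, Nat.card_coe_set_eq, ncard_Fx]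
  -- the stabiliser
  set T := Subgroup.normalizer (Z : Set K) ⊓ Subgroup.centralizer ({q 0} : Set K) with hTdef
  obtain ⟨φ, hφs, hφk, -⟩ := Local.exists_local three23 prim23 type23 (X := Z) (a := q 0)
    (by rw [Nat.card_zpowers, Fi23Three.Central.x0_order]) h0.1
    (fun x hx => Subgroup.mem_centralizer_singleton_iff.mpr
      (Subgroup.mem_centralizer_iff.mp (hmem.mpr h0).2 x hx))
    (k := 2) (by norm_num) (hX ▸ CentralThree.width_local three23 prim23 type23 e he)
  have hq1 : q 0 ≠ 1 := fun h => by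
    have := three23.1.1 (q 0) h0.1
    rw [h, orderOf_one] at this
    omega
  have hqT : q 0 ∈ T := ⟨commute_mem h0.2, Subgroup.mem_centralizer_singleton_iff.mpr rfl⟩
  have hker : Nat.card φ.ker = 2 := by
    have he : (φ.ker : Set ↥T) = {1, ⟨q 0, hqT⟩} := by
      ext g
      rw [SetLike.mem_coe, MonoidHom.mem_ker, hφk, Set.mem_insert_iff, Set.mem_singleton_iff]
      exact or_congr ⟨fun h => Subtype.ext h, fun h => congrArg Subtype.val h⟩
        ⟨fun h => Subtype.ext h, fun h => congrArg Subtype.val h⟩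
    rw [← SetLike.coe_sort_coe, Nat.card_coe_set_eq, he, Set.ncard_pair fun h => hq1 (congrArg Subtype.val h).symm]
  have hT : Nat.card T = 2 * (2304 * 2187) := by
    rw [Subgroup.card_eq_card_quotient_mul_card_subgroup φ.ker, hker,
      Nat.card_congr (QuotientGroup.quotientKerEquivOfSurjective φ hφs).toEquiv, mul_comm]
    congr 1
    rw [← Fi22Three.One.card_N, ← Fi22Three.One.normalizer_eq]
    rfl
  have hC : Nat.card C = Nat.card T := by
    show Nat.card ↥((Subgroup.centralizer ({q 0} : Set K)).subgroupOf Nz) = _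
    rw [← Subgroup.inf_subgroupOf_left, Nat.card_congr (Subgroup.subgroupOfEquivOfLe inf_le_left).toEquiv]
  rw [← Subgroup.card_mul_index C, hidx, hC, hT]
  norm_num

theorem solvable : Group.IsSolvable ↥Nz := by
  have := finiteK
  exact CharTheory.isSolvable_of_card_two_primes Nat.prime_two Nat.prime_three card_Nz

theorem derived_ne : derivedSeries ↥Nz 10 ≠ derivedSeries ↥Nz 9 := by
  intro h
  obtain ⟨n, hn⟩ := (Group.isSolvable_def ↥Nz).mp solvable
  have stay : ∀ m, derivedSeries ↥Nz (9 + m) = derivedSeries ↥Nz 9 := by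
    intro m
    induction m with
    | zero => rfl
    | succ m ih =>
      rw [← add_assoc, derivedSeries_succ, ih, ← derivedSeries_succ]
      exact h
  refine Fi23Three.Maximal.nine_ne_bot (eq_bot_iff.mpr ?_)
  rw [← stay n, ← hn]
  exact derivedSeries_antitone _ (Nat.le_add_left n 9)

theorem main : ∃ (G : Type) (_ : Group G) (_ : Finite G) (S H : Subgroup G), S.Normal ∧ IsSimpleGroup S ∧
    ¬ IsMulCommutative S ∧ Subgroup.centralizer (S : Set G) = ⊥ ∧ IsCoatom H ∧ derivedSeries H 10 ≠ derivedSeries H 9 := by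
  have := finiteK
  have := simpleK
  have hnc : ¬ ∀ a b : K, a * b = b * a := fun h => by
    haveI : Z.Normal := ⟨fun x hx g => by rw [h g x, mul_inv_cancel_right]; exact hx⟩
    exact Nz_ne_top (Subgroup.normalizer_eq_top Z)
  refine ⟨K, inferInstance, finiteK, ⊤, Nz, inferInstance, ?_, ?_, ?_, maximal, derived_ne⟩
  · exact Subgroup.topEquiv.isSimpleGroup
  · intro hc
    exact hnc fun a b => congrArg Subtype.val
      (hc.is_comm.comm (⟨a, Subgroup.mem_top a⟩ : (⊤ : Subgroup K)) ⟨b, Subgroup.mem_top b⟩)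
  · rw [Subgroup.coe_top, Subgroup.centralizer_univ]
    rcases Subgroup.Normal.eq_bot_or_eq_top (H := Subgroup.center K) inferInstance with e | e
    · exact e
    · exact absurd (fun a b => ((Subgroup.mem_center_iff.mp (e ▸ Subgroup.mem_top a : a ∈ Subgroup.center K)) b).symm) hnc

end CfsgThreeTrans.M23.DerivedTen
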